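import Cfsg.Agent.JankoFourOut.Linear

/-!
Multiplication of packed vectors by matrices, shaped for evaluation by the kernel.
-/

set_option autoImplicit false

namespace CfsgLib.JankoFourOut

open CfsgLib.JankoFourRep CfsgLib.CosetEnum

noncomputable section

/-- A row times a matrix, bit by bit. -/
def rowFast (L : List ℕ) : ℕ → ℕ :=
  List.rec (motive := fun _ => ℕ → ℕ) (fun _ => 0)
    (fun a _ ih r => force (Nat.shiftRight r 1) fun r' =>
      bif Nat.beq (Nat.land r 1) 1 then Nat.xor a (ih r') else ih r') L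

/-- The entry `m` of a packed table of sixteen rows of 112 bits. -/
def nibEntry (a m : ℕ) : ℕ :=
  Nat.land (Nat.shiftRight a (Nat.mul 112 m)) 5192296858534827628530496329220095

/-- A row times a matrix given by tables for groups of four rows. -/
def rowTab (T : List ℕ) : ℕ → ℕ :=
  List.rec (motive := fun _ => ℕ → ℕ) (fun _ => 0)
    (fun a _ ih r => force (Nat.shiftRight r 4) fun r' =>
      Nat.xor (nibEntry a (Nat.land r 15)) (ih r')) T

/-- The tables agree with the rows. -/
def tabOK : List ℕ → List ℕ → Bool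
  | [], [] => true
  | a :: T, b0 :: b1 :: b2 :: b3 :: L =>
    ((List.range 16).all fun m => Nat.beq (nibEntry a m) (rowFast [b0, b1, b2, b3] m)) && tabOK T L
  | _, _ => false

theorem rowMulFrom_succ : ∀ (L : List ℕ) (r k : ℕ),
    rowMulFrom L r (k + 1) = rowMulFrom L (r >>> 1) k
  | [], _, _ => rfl
  | a :: L, r, k => by
    simp only [rowMulFrom, rowMulFrom_succ L r (k + 1), Nat.testBit_shiftRight, Nat.add_comm 1 k]

theorem rowMul_cons (a : ℕ) (L : List ℕ) (r : ℕ) :
    rowMul (a :: L) r = bif r.testBit 0 then a ^^^ rowMul L (r >>> 1) else rowMul L (r >>> 1) := by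
  simp only [rowMul, rowMulFrom, rowMulFrom_succ L r 0]

theorem rowFast_cons (a : ℕ) (L : List ℕ) (r : ℕ) :
    rowFast (a :: L) r = bif r.testBit 0 then a ^^^ rowFast L (r >>> 1) else rowFast L (r >>> 1) := by
  show force (r >>> 1) (fun r' => bif Nat.beq (Nat.land r 1) 1 then a ^^^ rowFast L r' else rowFast L r') = _
  rw [force_eq, ← CosetEnum.bit_eq r 0]
  rfl

theorem rowFast_eq : ∀ (L : List ℕ) (r : ℕ), rowFast L r = rowMul L r
  | [], _ => rfl
  | a :: L, r => by rw [rowFast_cons, rowMul_cons, rowFast_eq L]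

theorem rowTab_eq : ∀ (T L : List ℕ), tabOK T L = true → ∀ r, rowTab T r = rowMul L r
  | [], [], _, _ => rfl
  | a :: T, b0 :: b1 :: b2 :: b3 :: L, h, r => by
    rw [tabOK, Bool.and_eq_true] at h
    have hm := Nat.eq_of_beq_eq_true (List.all_eq_true.mp h.1 (r &&& 15)
      (List.mem_range.mpr (lt_of_le_of_lt Nat.and_le_right (by norm_num))))
    show force (r >>> 4) (fun r' => nibEntry a (r &&& 15) ^^^ rowTab T r') = _
    rw [force_eq, hm, rowTab_eq T L h.2, rowFast_eq]
    simp only [rowMul_cons, Nat.testBit_shiftRight, Nat.testBit_and, ← Nat.shiftRight_add,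
      Nat.reduceAdd, Nat.add_zero, show Nat.testBit 15 0 = true from rfl, show Nat.testBit 15 1 = true from rfl,
      show Nat.testBit 15 2 = true from rfl, show Nat.testBit 15 3 = true from rfl, Bool.and_true]
    cases r.testBit 0 <;> cases r.testBit 1 <;> cases r.testBit 2 <;> cases r.testBit 3 <;>
      simp [rowMul, rowMulFrom, Nat.xor_assoc]
  | [], _ :: _, h, _ => by simp [tabOK] at h
  | _ :: _, [], h, _ => by simp [tabOK] at h
  | _ :: _, [_], h, _ => by simp [tabOK] at h
  | _ :: _, [_, _], h, _ => by simp [tabOK] at h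
  | _ :: _, [_, _, _], h, _ => by simp [tabOK] at h

/-- A row times a word in matrices given by tables. -/
def evalTab (T : ℕ → List ℕ) (w : List ℕ) : ℕ → ℕ :=
  List.rec (motive := fun _ => ℕ → ℕ) (fun r => r) (fun c _ ih r => force (rowTab (T c) r) ih) w

theorem evalTab_eq {T G : ℕ → List ℕ} (h : ∀ c, tabOK (T c) (G c) = true) :
    ∀ w r, evalTab T w r = evalRow G w r
  | [], _ => rfl
  | c :: w, r => by
    show force (rowTab (T c) r) (evalTab T w) = force (rowMul (G c) r) (evalRow G w)
    rw [force_eq, force_eq, rowTab_eq _ _ (h c), evalTab_eq h w]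

/-- A word in tables multiplies to the given rows. -/
def isMatTab (T : ℕ → List ℕ) (w P : List ℕ) : Bool :=
  (List.range 112).all fun i => Nat.beq (evalTab T w (Nat.pow 2 i)) (P.getD i 0)

theorem isMat_of_isMatTab {T G : ℕ → List ℕ} (h : ∀ c, tabOK (T c) (G c) = true) {w P : List ℕ}
    (hw : isMatTab T w P = true) : isMat G w P = true := by
  rw [isMat, List.all_eq_true]
  intro i hi
  rw [← evalTab_eq h]
  exact List.all_eq_true.mp hw i hi

/-- Two words in tables have equal matrices. -/
def sameTab (T : ℕ → List ℕ) (v w : List ℕ) : Bool :=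
  (List.range 112).all fun i => Nat.beq (evalTab T v (Nat.pow 2 i)) (evalTab T w (Nat.pow 2 i))

end

end CfsgLib.JankoFourOut
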