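import Cfsg.Agent.JankoFour.Basic
import Cfsg.Agent.JankoFourOut.Fast
import Cfsg.Agent.JankoFourOut.DataE
import Cfsg.Agent.JankoFourOut.DataS

/-!
Kernel checks on the element of order 23 acting on the subgroup of order `2 ^ 11`.
-/

set_option autoImplicit false

namespace CfsgLib.JankoFourOut

open CfsgLib.CosetEnum CfsgLib.JankoFourRep

/-- The action of `x y`. -/
def pMat : List ℕ := ordMat

/-- The image of a vector under a power. -/
def pIter : ℕ → ℕ → ℕ
  | 0, v => v
  | n + 1, v => rowFast pMat (pIter n v)

/-- The first eleven images of a vector. -/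
def kryOf (v : ℕ) : List ℕ :=
  [pIter 0 v, pIter 1 v, pIter 2 v, pIter 3 v, pIter 4 v, pIter 5 v, pIter 6 v, pIter 7 v,
    pIter 8 v, pIter 9 v, pIter 10 v]

/-- The first row of the square of the commuting matrix with first row `v`. -/
def sqVec (v : ℕ) : ℕ := force (rowFast kryInv v) fun u => rowFast (kryOf v) u

/-- Repeated squaring of a commuting matrix. -/
def sqIter : ℕ → ℕ → ℕ
  | 0, v => v
  | n + 1, v => force v fun v' => sqIter n (sqVec v')

theorem pMat_eq : pMat = mulL actX actY := by decide +kernel

theorem pMat_isRows : isRows 11 pMat = true := by decide +kernel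

theorem kry_ok : mulL kryInv (kryOf 1) = (List.range 11).map (2 ^ ·) := by decide +kernel

theorem pMat_pow23 : (List.range 11).all (fun i => Nat.beq (pIter 23 (Nat.pow 2 i)) (Nat.pow 2 i)) = true := by
  decide +kernel

theorem pMat_ne : pMat ≠ (List.range 11).map (2 ^ ·) := by decide +kernel

theorem pMat_fixed_free :
    ((List.range 2048).all fun v => !Nat.beq (rowFast pMat v) v || Nat.beq v 0) = true := by
  decide +kernel

theorem sq_ok0 : ((List.range' 0 256).all fun v => Nat.beq (sqIter 11 v) v) = true := by decide +kernel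

theorem sq_ok1 : ((List.range' 256 256).all fun v => Nat.beq (sqIter 11 v) v) = true := by decide +kernel

theorem sq_ok2 : ((List.range' 512 256).all fun v => Nat.beq (sqIter 11 v) v) = true := by decide +kernel

theorem sq_ok3 : ((List.range' 768 256).all fun v => Nat.beq (sqIter 11 v) v) = true := by decide +kernel

theorem sq_ok4 : ((List.range' 1024 256).all fun v => Nat.beq (sqIter 11 v) v) = true := by decide +kernel

theorem sq_ok5 : ((List.range' 1280 256).all fun v => Nat.beq (sqIter 11 v) v) = true := by decide +kernel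

theorem sq_ok6 : ((List.range' 1536 256).all fun v => Nat.beq (sqIter 11 v) v) = true := by decide +kernel

theorem sq_ok7 : ((List.range' 1792 256).all fun v => Nat.beq (sqIter 11 v) v) = true := by decide +kernel

theorem sq_ok {v : ℕ} (hv : v < 2 ^ 11) : sqIter 11 v = v := by
  have h : ∀ {a : ℕ}, ((List.range' a 256).all fun v => Nat.beq (sqIter 11 v) v) = true →
      a ≤ v → v < a + 256 → sqIter 11 v = v :=
    fun hh h1 h2 => Nat.eq_of_beq_eq_true (List.all_eq_true.mp hh v (List.mem_range'_1.mpr ⟨h1, h2⟩))
  rcases Nat.lt_or_ge v 1024 with h4 | h4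
  · rcases Nat.lt_or_ge v 512 with h2 | h2
    · rcases Nat.lt_or_ge v 256 with h1 | h1
      · exact h sq_ok0 (by omega) (by omega)
      · exact h sq_ok1 (by omega) (by omega)
    · rcases Nat.lt_or_ge v 768 with h1 | h1
      · exact h sq_ok2 (by omega) (by omega)
      · exact h sq_ok3 (by omega) (by omega)
  · rcases Nat.lt_or_ge v 1536 with h2 | h2
    · rcases Nat.lt_or_ge v 1280 with h1 | h1
      · exact h sq_ok4 (by omega) (by omega)
      · exact h sq_ok5 (by omega) (by omega)
    · rcases Nat.lt_or_ge v 1792 with h1 | h1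
      · exact h sq_ok6 (by omega) (by omega)
      · exact h sq_ok7 (by omega) (by omega)

end CfsgLib.JankoFourOut
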