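import Cfsg.Agent.JankoFourOut.EChecks
import Cfsg.Agent.JankoFourOut.NormChecks

/-!
Kernel checks for the adjustment of automorphisms on the subgroup `2 ^ 11 : M₂₄`.
-/

set_option autoImplicit false

namespace CfsgLib.JankoFourOut

open CfsgLib.CosetEnum CfsgLib.JankoFourRep

/-- A commuting matrix, given by its first row, commutes with the action. -/
def centOK (v : ℕ) : Bool :=
  (List.range 11).all fun i =>
    Nat.beq (rowFast (kryOf v) (rowFast kryInv (rowFast actX (Nat.pow 2 i))))
      (rowFast actX (rowFast (kryOf v) (rowFast kryInv (Nat.pow 2 i)))) &&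
    Nat.beq (rowFast (kryOf v) (rowFast kryInv (rowFast actY (Nat.pow 2 i))))
      (rowFast actY (rowFast (kryOf v) (rowFast kryInv (Nat.pow 2 i))))

theorem cent_trivial :
    ((List.range 2048).all fun v => !centOK v || Nat.blt v 2) = true := by
  decide +kernel

theorem cent_zero : (List.range 11).all (fun i =>
    Nat.beq (rowFast (kryOf 0) (rowFast kryInv (Nat.pow 2 i))) 0) = true := by
  decide +kernel

/-- The derivation of an inner automorphism. -/
def innDer (c : ℕ) : ℕ :=
  Nat.xor (Nat.xor c (rowFast actX c)) (Nat.shiftLeft (Nat.xor c (rowFast actY c)) 11)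

theorem split_ok : ((List.range 22).all fun i =>
    force (rowFast derivSplit (Nat.pow 2 i)) fun t =>
      Nat.blt t (Nat.pow 2 22) &&
        Nat.beq (Nat.xor (innDer (t % Nat.pow 2 11)) (rowFast derivCompl (Nat.shiftRight t 11)))
          (Nat.pow 2 i)) = true := by
  decide +kernel

theorem compl_lt : derivCompl.all (fun c => Nat.blt c (2 ^ 22)) = true := by decide +kernel

/-- The value of a derivation at a letter. -/
def derAt (a b : ℕ) : ℕ → ℕ
  | 0 => a
  | 1 => b
  | _ => rowFast actYInv b

/-- The action of a letter on the subgroup. -/
def actLetter : ℕ → List ℕ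
  | 0 => actX
  | 1 => actY
  | _ => actYInv

/-- The value of a derivation at a word. -/
def derWord (a b : ℕ) : List ℕ → ℕ → ℕ
  | [], u => u
  | c :: w, u => force (Nat.xor (rowFast (actLetter c) u) (derAt a b c)) fun u' => derWord a b w u'

/-- Words that are trivial in the group. -/
def relWords : List (List ℕ) :=
  [[0, 0], [1, 1, 1], (List.replicate 23 [0, 1]).flatten, (List.replicate 12 [0, 2, 0, 1]).flatten,
    (List.replicate 5 [0, 2, 0, 2, 0, 1, 0, 1]).flatten]

theorem relWords_trivial : relWords.all (fun w => sameTab tabOf w []) = true := by decide +kernel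

theorem relWords_letters : relWords.all (fun w => w.all fun c => Nat.blt c 3) = true := by decide +kernel

/-- The values of the surviving derivation. -/
def shift1 : ℕ := 1056

theorem shift1_eq : rowFast derivCompl 40 = shift1 := by decide +kernel

/-- A complement value satisfies the relations only if it is one of the two listed. -/
def derOK (k : ℕ) : Bool :=
  force (rowFast derivCompl k) fun v =>
    force (v % Nat.pow 2 11) fun a => force (Nat.shiftRight v 11) fun b =>
      !(relWords.all fun w => Nat.beq (derWord a b w 0) 0) || Nat.beq k 0 || Nat.beq k 40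

theorem der_ok0 : (List.range' 0 256).all derOK = true := by decide +kernel

theorem der_ok1 : (List.range' 256 256).all derOK = true := by decide +kernel

theorem der_ok2 : (List.range' 512 256).all derOK = true := by decide +kernel

theorem der_ok3 : (List.range' 768 256).all derOK = true := by decide +kernel

theorem der_ok4 : (List.range' 1024 256).all derOK = true := by decide +kernel

theorem der_ok5 : (List.range' 1280 256).all derOK = true := by decide +kernel

theorem der_ok6 : (List.range' 1536 256).all derOK = true := by decide +kernel

theorem der_ok7 : (List.range' 1792 256).all derOK = true := by decide +kernel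

theorem der_ok {v : ℕ} (hv : v < 2 ^ 11) : derOK v = true := by
  have h : ∀ {a : ℕ}, (List.range' a 256).all derOK = true →
      a ≤ v → v < a + 256 → derOK v = true :=
    fun hh h1 h2 => List.all_eq_true.mp hh v (List.mem_range'_1.mpr ⟨h1, h2⟩)
  rcases Nat.lt_or_ge v 1024 with h4 | h4
  · rcases Nat.lt_or_ge v 512 with h2 | h2
    · rcases Nat.lt_or_ge v 256 with h1 | h1
      · exact h der_ok0 (by omega) (by omega)
      · exact h der_ok1 (by omega) (by omega)
    · rcases Nat.lt_or_ge v 768 with h1 | h1
      · exact h der_ok2 (by omega) (by omega)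
      · exact h der_ok3 (by omega) (by omega)
  · rcases Nat.lt_or_ge v 1536 with h2 | h2
    · rcases Nat.lt_or_ge v 1280 with h1 | h1
      · exact h der_ok4 (by omega) (by omega)
      · exact h der_ok5 (by omega) (by omega)
    · rcases Nat.lt_or_ge v 1792 with h1 | h1
      · exact h der_ok6 (by omega) (by omega)
      · exact h der_ok7 (by omega) (by omega)

end CfsgLib.JankoFourOut
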