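import Cfsg.Agent.JankoFourOut.Normalizer
import Cfsg.Agent.JankoFourOut.AdjustChecks
import Cfsg.Agent.S2064

/-!
Every automorphism can be adjusted to act in one of two ways on the subgroup `2 ^ 11 : M₂₄`.
-/

set_option autoImplicit false
set_option linter.style.haveILetI false

namespace CfsgLib.JankoFourOut

open Cfsg.Spor CfsgLib.CosetEnum CfsgLib.JankoFour CfsgLib.JankoFourRep

/-- The letters moved by a derivation. -/
def genD (a b : ℕ) : ℕ → Cfsg.Spor.J4
  | 0 => xJ * eOf a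
  | 1 => yJ * eOf b
  | _ => (yJ * eOf b)⁻¹

variable (H : Hyp)
include H

theorem map_hSub {β : Cfsg.Spor.J4 ≃* Cfsg.Spor.J4} (hE : (eSub H).map β.toMonoidHom = eSub H)
    {g : Cfsg.Spor.J4} (hg : g ∈ hSub H) : β g ∈ hSub H := by
  rw [← nSub_eq H] at hg ⊢
  obtain ⟨A, hA⟩ := exists_acts_nSub H hg
  rw [nSub, ← inv_mem_iff, Subgroup.mem_normalizer_iff_map_conj_eq]
  haveI := finite_J4 H
  apply Subgroup.eq_of_le_of_card_ge
  · rintro _ ⟨z, hz, rfl⟩
    rw [← hE] at hz
    obtain ⟨w, hw, rfl⟩ := hz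
    rw [← hE]
    exact ⟨g⁻¹ * w * g, conj_mem_eSub H hA hw, by simp⟩
  · rw [Subgroup.card_map_of_injective (MulEquiv.injective _)]

theorem conj_mem_hSub_eSub {c : Cfsg.Spor.J4} (hc : c ∈ hSub H) {z : Cfsg.Spor.J4} (hz : z ∈ eSub H) :
    c * z * c⁻¹ ∈ eSub H := by
  obtain ⟨A, hA⟩ := exists_acts_hSub H (inv_mem hc)
  simpa using conj_mem_eSub H hA hz

theorem exists_inner_on_mSub (β : Cfsg.Spor.J4 ≃* Cfsg.Spor.J4)
    (hE : (eSub H).map β.toMonoidHom = eSub H) :
    ∃ c ∈ mSub, ∀ m ∈ mSub, m⁻¹ * (c * β m * c⁻¹) ∈ eSub H := by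
  haveI := finite_J4 H
  have hex : ∀ m : mSub, ∃ p : mSub, (p : Cfsg.Spor.J4)⁻¹ * β m ∈ eSub H := by
    intro m
    obtain ⟨p, hp, e, he, h⟩ := (mem_hSub H).mp (map_hSub H hE (mSub_le_hSub H m.2))
    exact ⟨⟨p, hp⟩, by rw [← h, inv_mul_cancel_left]; exact he⟩
  choose q hq using hex
  have huniq : ∀ (m p : mSub), (p : Cfsg.Spor.J4)⁻¹ * β m ∈ eSub H → q m = p := by
    intro m p hp
    have h := mul_mem (hq m) (inv_mem hp)
    rw [mul_inv_rev, inv_inv, mul_assoc, mul_inv_cancel_left] at h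
    exact Subtype.ext (inv_mul_eq_one.mp
      (eq_one_of_mem_mSub_eSub H (mul_mem (inv_mem (q m).2) p.2) h))
  let π : mSub →* mSub := MonoidHom.mk' q fun a b => huniq (a * b) _ (by
    have : ((q a * q b : mSub) : Cfsg.Spor.J4)⁻¹ * β ((a * b : mSub) : Cfsg.Spor.J4) =
        ((q b : Cfsg.Spor.J4)⁻¹ * ((q a : Cfsg.Spor.J4)⁻¹ * β a) * ((q b : Cfsg.Spor.J4)⁻¹)⁻¹) *
          ((q b : Cfsg.Spor.J4)⁻¹ * β b) := by
      simp only [Subgroup.coe_mul, map_mul]; group
    rw [this]
    exact mul_mem (conj_mem_hSub_eSub H (inv_mem (mSub_le_hSub H (q b).2)) (hq a)) (hq b))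
  have hinj : Function.Injective π := by
    refine (injective_iff_map_eq_one π).mpr fun m hm => ?_
    have h := hq m
    rw [show q m = 1 from hm, Subgroup.coe_one, inv_one, one_mul, ← hE] at h
    obtain ⟨w, hw, hwe⟩ := h
    exact Subtype.ext (eq_one_of_mem_mSub_eSub H m.2 (β.injective hwe ▸ hw))
  let π' : mSub ≃* mSub := MulEquiv.ofBijective π (Finite.injective_iff_bijective.mp hinj)
  obtain ⟨e⟩ := H.iso
  have hInn : Cfsg.Inn ↥Cfsg.M24 = ⊤ := Subgroup.index_eq_one.mp Cfsg.Agent.S2064.result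
  obtain ⟨c', hc'⟩ : e.symm.trans (π'.trans e) ∈ Cfsg.Inn ↥Cfsg.M24 := hInn ▸ Subgroup.mem_top _
  have hconj : ∀ m : mSub, π m = e.symm c' * m * (e.symm c')⁻¹ := by
    intro m
    have h := DFunLike.congr_fun hc' (e m)
    simp only [MulAut.conj_apply, MulEquiv.trans_apply, MulEquiv.symm_apply_apply] at h
    have h2 := congrArg e.symm h.symm
    rw [MulEquiv.symm_apply_apply, map_mul, map_mul, map_inv, MulEquiv.symm_apply_apply] at h2
    exact h2
  refine ⟨((e.symm c' : mSub) : Cfsg.Spor.J4)⁻¹, inv_mem (e.symm c').2, fun m hm => ?_⟩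
  have h := hq ⟨m, hm⟩
  rw [show q ⟨m, hm⟩ = _ from hconj ⟨m, hm⟩] at h
  simp only [Subgroup.coe_mul, Subgroup.coe_inv] at h
  have h2 := conj_mem_hSub_eSub H (inv_mem (mSub_le_hSub H (e.symm c').2)) h
  simp only [mul_inv_rev, inv_inv] at h2 ⊢
  convert h2 using 1
  group

/-- The automorphism fixes the subgroup and moves the complement within cosets. -/
def Trivialises (β : Cfsg.Spor.J4 ≃* Cfsg.Spor.J4) : Prop :=
  (eSub H).map β.toMonoidHom = eSub H ∧ ∀ m ∈ mSub, m⁻¹ * β m ∈ eSub H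

theorem fixes_eSub {β : Cfsg.Spor.J4 ≃* Cfsg.Spor.J4} (hβ : Trivialises H β) {v : ℕ}
    (hv : v < 2 ^ 11) : β (eOf v) = eOf v := by
  obtain ⟨hE, hM⟩ := hβ
  have hex : ∀ u : ℕ, ∃ w < 2 ^ 11, u < 2 ^ 11 → β (eOf u) = eOf w := by
    intro u
    by_cases hu : u < 2 ^ 11
    · obtain ⟨w, hw, he⟩ := (mem_eSub H).mp (hE ▸ ⟨_, eOf_mem H hu, rfl⟩ : β (eOf u) ∈ eSub H)
      exact ⟨w, hw, fun _ => he⟩
    · exact ⟨0, by norm_num, fun h => absurd h hu⟩
  choose f hf hfe using hex
  have hlin : IsLin 11 f := by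
    refine ⟨?_, fun a b ha hb => ?_⟩
    · have h := hfe 0 (by norm_num)
      rw [eOf_zero H, map_one] at h
      exact eq_zero_of_eOf_eq_one (hf 0) h.symm
    · refine eOf_injective H (hf _) (Nat.xor_lt_two_pow (hf a) (hf b)) ?_
      rw [← hfe _ (Nat.xor_lt_two_pow ha hb), eOf_xor H, map_mul, hfe a ha, hfe b hb, eOf_xor H]
  have hcomm : ∀ g ∈ mSub, ∀ A, Acts g A → ∀ u < 2 ^ 11, f (rowMul A u) = rowMul A (f u) := by
    intro g hg A hA u hu
    have hAu : rowMul A u < 2 ^ 11 := rowMul_lt (isRows_iff.mp hA.1).2 u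
    refine eOf_injective H (hf _) (rowMul_lt (isRows_iff.mp hA.1).2 _) ?_
    rw [← hfe _ hAu, ← hA.2 u hu, map_mul, map_mul, map_inv, hfe u hu]
    obtain ⟨w, -, hw⟩ := (mem_eSub H).mp (hM g hg)
    rw [inv_mul_eq_iff_eq_mul] at hw
    rw [hw, mul_inv_rev, eOf_inv H, ← hA.2 _ (hf u)]
    calc eOf w * g⁻¹ * eOf (f u) * (g * eOf w) = eOf w * (g⁻¹ * eOf (f u) * g) * eOf w := by group
      _ = _ := by
        rw [hA.2 _ (hf u), (eOf_commute H w _).eq, mul_assoc, eOf_sq H, mul_one]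
  have hx := hcomm xJ (Subgroup.subset_closure (Or.inl rfl)) _ (acts_x H)
  have hy := hcomm yJ (Subgroup.subset_closure (Or.inr rfl)) _ (acts_y H)
  have hp := hcomm pElt pElt_mem _ (acts_pElt H)
  have hplt : ∀ u, rowMul pMat u < 2 ^ 11 := rowMul_lt (isRows_iff.mp pMat_isRows).2
  have hiter : ∀ k, pIter k 1 < 2 ^ 11 ∧ f (pIter k 1) = pIter k (f 1) := by
    intro k
    induction k with
    | zero => exact ⟨Nat.one_lt_two_pow (by norm_num), rfl⟩
    | succ k ih =>
      rw [pIter, pIter, rowFast_eq, rowFast_eq]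
      exact ⟨hplt _, by rw [hp _ ih.1, ih.2]⟩
  have hdet : ∀ u < 2 ^ 11, f u = rowMul (kryOf (f 1)) (rowMul kryInv u) := by
    intro u hu
    have hk : ∀ w, rowMul (kryOf 1) w < 2 ^ 11 := rowMul_lt fun a ha => by
      simp only [kryOf, List.mem_cons, List.not_mem_nil, or_false] at ha
      rcases ha with rfl|rfl|rfl|rfl|rfl|rfl|rfl|rfl|rfl|rfl|rfl <;> exact (hiter _).1
    have h1 : IsLin 11 fun w => f (rowMul (kryOf 1) w) :=
      hlin.comp (isLin_rowMul 11 _) fun a _ => hk a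
    have h2 : ∀ w < 2 ^ 11, f (rowMul (kryOf 1) w) = rowMul (kryOf (f 1)) w :=
      h1.eq_of_units (isLin_rowMul 11 _) fun i hi => by
        rw [rowMul_two_pow, rowMul_two_pow]
        interval_cases i <;> exact (hiter _).2
    have hKi : rowMul kryInv u < 2 ^ 11 := rowMul_lt (isRows_iff.mp (by decide +kernel : isRows 11 kryInv = true)).2 u
    rw [← h2 _ hKi, ← rowMul_mulL, kry_ok]
    exact congrArg f (rowMul_one11 hu).symm
  have hcent : centOK (f 1) = true := by
    refine List.all_eq_true.mpr fun i hi => ?_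
    have hp2 : (2 : ℕ) ^ i < 2 ^ 11 := Nat.pow_lt_pow_right (by norm_num) (List.mem_range.mp hi)
    have hXlt : rowMul actX (2 ^ i) < 2 ^ 11 :=
      rowMul_lt (isRows_iff.mp (acts_x H).1).2 _
    have hYlt : rowMul actY (2 ^ i) < 2 ^ 11 :=
      rowMul_lt (isRows_iff.mp (acts_y H).1).2 _
    simp only [rowFast_eq, show ∀ j, Nat.pow 2 j = 2 ^ j from fun _ => rfl, Bool.and_eq_true,
      ← hdet _ hp2, ← hdet _ hXlt, ← hdet _ hYlt, hx _ hp2, hy _ hp2, Nat.beq_refl, and_self]
  have hsmall := List.all_eq_true.mp cent_trivial (f 1) (List.mem_range.mpr (by simpa using hf 1))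
  rw [hcent, Bool.not_true, Bool.false_or] at hsmall
  have h2 : f 1 < 2 := Nat.blt_eq.mp hsmall
  rcases (by omega : f 1 = 0 ∨ f 1 = 1) with h0 | h0
  · exfalso
    have h1 := hfe 1 (Nat.one_lt_two_pow (by norm_num))
    rw [h0, eOf_zero H, ← map_one β] at h1
    exact absurd (eq_zero_of_eOf_eq_one (Nat.one_lt_two_pow (by norm_num)) (β.injective h1)) one_ne_zero
  · rw [hfe v hv, hdet v hv, h0, ← rowMul_mulL, kry_ok]
    exact congrArg eOf (rowMul_one11 hv)

theorem prodw_genD (a b : ℕ) (hb : b < 2 ^ 11) :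
    ∀ w : List ℕ, (∀ c ∈ w, c < 3) → ∀ u < 2 ^ 11,
      a < 2 ^ 11 → eOf u * prodw (genD a b) w = prodw gen w * eOf (derWord a b w u)
  | [], _, u, _, _ => by simp [prodw, derWord]
  | c :: w, hw, u, hu, ha => by
    have hc := hw c List.mem_cons_self
    have hL := acts_gen H hc
    have hL' : actOf c = actLetter c := by
      match c, hc with
      | 0, _ => rfl
      | 1, _ => rfl
      | 2, _ => rfl
    have hd : genD a b c = gen c * eOf (derAt a b c) := by
      match c, hc with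
      | 0, _ => rfl
      | 1, _ => rfl
      | 2, _ =>
        show (yJ * eOf b)⁻¹ = yJ⁻¹ * eOf (rowFast actYInv b)
        rw [rowFast_eq, ← (acts_yInv H).2 b hb, mul_inv_rev, eOf_inv H]
        group
    have hdlt : derAt a b c < 2 ^ 11 := by
      match c, hc with
      | 0, _ => exact ha
      | 1, _ => exact hb
      | 2, _ =>
        show rowFast actYInv b < 2 ^ 11
        rw [rowFast_eq]
        exact rowMul_lt (isRows_iff.mp (acts_yInv H).1).2 b
    rw [prodw_cons, prodw_cons, derWord, force_eq, rowFast_eq, ← hL']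
    have hult : rowMul (actOf c) u ^^^ derAt a b c < 2 ^ 11 :=
      Nat.xor_lt_two_pow (rowMul_lt (isRows_iff.mp hL.1).2 u) hdlt
    rw [show Nat.xor (rowMul (actOf c) u) (derAt a b c) = rowMul (actOf c) u ^^^ derAt a b c from rfl,
      mul_assoc (gen c), ← prodw_genD a b hb w (fun x hx => hw x (List.mem_cons_of_mem _ hx)) _ hult ha,
      eOf_xor H, ← hL.2 u hu, hd]
    group

theorem derivation_cases {β : Cfsg.Spor.J4 ≃* Cfsg.Spor.J4} {a b : ℕ} (ha : a < 2 ^ 11) (hb : b < 2 ^ 11)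
    (hx : β xJ = xJ * eOf a) (hy : β yJ = yJ * eOf b) {k : ℕ} (hk : k < 2 ^ 11)
    (hka : a = rowFast derivCompl k % 2 ^ 11) (hkb : b = rowFast derivCompl k >>> 11) :
    k = 0 ∨ k = 40 := by
  have hw : relWords.all (fun w => Nat.beq (derWord a b w 0) 0) = true := by
    refine List.all_eq_true.mpr fun w hw => ?_
    have hl : ∀ c ∈ w, c < 3 := fun c hc =>
      Nat.blt_eq.mp (List.all_eq_true.mp (List.all_eq_true.mp relWords_letters w hw) c hc)
    have hT : ∀ c, tabOK (tabOf c) (rowsOf c) = true := tabOf_ok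
    have h1 : prodw gen w = 1 := by
      have := List.all_eq_true.mp relWords_trivial w hw
      have hs : sameWord rowsOf w [] = true := by
        rw [sameWord, List.all_eq_true]
        intro i hi
        rw [← evalTab_eq hT, ← evalTab_eq hT]
        exact List.all_eq_true.mp this i hi
      rw [prodw_eq_of_sameWord H hasRows_gen hs, prodw_nil]
    have himg : ∀ u : List ℕ, (∀ c ∈ u, c < 3) → β (prodw gen u) = prodw (genD a b) u := by
      intro u
      induction u with
      | nil => intro _; simp [prodw]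
      | cons c u ih =>
        intro hu
        rw [prodw_cons, prodw_cons, map_mul, ih fun x hx => hu x (List.mem_cons_of_mem _ hx)]
        congr 1
        match c, hu c List.mem_cons_self with
        | 0, _ => exact hx
        | 1, _ => exact hy
        | 2, _ => show β yJ⁻¹ = _; rw [map_inv, hy]; rfl
    have h2 := himg w hl
    rw [h1, map_one] at h2
    have h3 := prodw_genD H a b hb w hl 0 (by norm_num) ha
    rw [← h2, h1, eOf_zero H, one_mul, one_mul] at h3
    have hlt : ∀ (w : List ℕ) (u : ℕ), u < 2 ^ 11 → (∀ c ∈ w, c < 3) → derWord a b w u < 2 ^ 11 := by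
      intro w
      induction w with
      | nil => intro u hu _; exact hu
      | cons c w ih =>
        intro u _ hc
        rw [derWord, force_eq]
        refine ih _ ?_ fun x hx => hc x (List.mem_cons_of_mem _ hx)
        rw [rowFast_eq]
        refine Nat.xor_lt_two_pow (rowMul_lt ?_ _) ?_
        · match c, hc c List.mem_cons_self with
          | 0, _ => exact (isRows_iff.mp (acts_x H).1).2
          | 1, _ => exact (isRows_iff.mp (acts_y H).1).2
          | 2, _ => exact (isRows_iff.mp (acts_yInv H).1).2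
        · match c, hc c List.mem_cons_self with
          | 0, _ => exact ha
          | 1, _ => exact hb
          | 2, _ =>
            show rowFast actYInv b < 2 ^ 11
            rw [rowFast_eq]
            exact rowMul_lt (isRows_iff.mp (acts_yInv H).1).2 b
    rw [eq_zero_of_eOf_eq_one (hlt w 0 (by norm_num) hl) h3.symm]
    exact Nat.beq_refl 0
  have h := der_ok hk
  simp only [derOK, force_eq, show Nat.pow 2 11 = 2 ^ 11 from rfl,
    show Nat.shiftRight (rowFast derivCompl k) 11 = rowFast derivCompl k >>> 11 from rfl,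
    ← hka, ← hkb, hw, Bool.not_true, Bool.false_or, Bool.or_eq_true] at h
  exact h.imp Nat.eq_of_beq_eq_true Nat.eq_of_beq_eq_true

/-- The two possible behaviours. -/
theorem exists_adjust (α : Cfsg.Spor.J4 ≃* Cfsg.Spor.J4) :
    ∃ g, (g * α xJ * g⁻¹ = xJ ∧ g * α yJ * g⁻¹ = yJ) ∨
      (g * α xJ * g⁻¹ = xJ * eOf shift1 ∧ g * α yJ * g⁻¹ = yJ) := by
  obtain ⟨g₀, hg₀⟩ := exists_conj_map_eSub H α
  set β := α.trans (MulAut.conj g₀) with hβ
  obtain ⟨c, hc, hcm⟩ := exists_inner_on_mSub H β hg₀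
  set γ := β.trans (MulAut.conj c) with hγdef
  have hγ : Trivialises H γ := by
    haveI := finite_J4 H
    refine ⟨?_, hcm⟩
    apply Subgroup.eq_of_le_of_card_ge
    · rintro _ ⟨z, hz, rfl⟩
      exact conj_mem_hSub_eSub H (mSub_le_hSub H hc) (hg₀ ▸ ⟨z, hz, rfl⟩ : β z ∈ eSub H)
    · rw [Subgroup.card_map_of_injective γ.injective]
  obtain ⟨a, ha, hxa⟩ := (mem_eSub H).mp (hγ.2 xJ (Subgroup.subset_closure (Or.inl rfl)))
  obtain ⟨b, hb, hyb⟩ := (mem_eSub H).mp (hγ.2 yJ (Subgroup.subset_closure (Or.inr rfl)))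
  rw [inv_mul_eq_iff_eq_mul] at hxa hyb
  set v := a ^^^ b <<< 11 with hv
  have hb22 : b <<< 11 < 2 ^ 22 := by rw [Nat.shiftLeft_eq]; omega
  have hvlt : v < 2 ^ 22 := Nat.xor_lt_two_pow (ha.trans (by norm_num)) hb22
  have hsplit : ∀ u < 2 ^ 22, innDer (rowMul derivSplit u % 2 ^ 11) ^^^
      rowMul derivCompl (rowMul derivSplit u >>> 11) = u := by
    have hl : IsLin 22 fun u => innDer (rowMul derivSplit u % 2 ^ 11) ^^^
        rowMul derivCompl (rowMul derivSplit u >>> 11) := by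
      refine IsLin.of_xor fun p q => ?_
      simp only [rowMul_xor, Nat.xor_mod_two_pow, Nat.shiftRight_xor_distrib, innDer, rowFast_eq,
        show ∀ i j, Nat.xor i j = i ^^^ j from fun _ _ => rfl,
        show ∀ i j, Nat.shiftLeft i j = i <<< j from fun _ _ => rfl, Nat.shiftLeft_xor_distrib]
      ac_rfl
    refine hl.eq_of_units (isLin_id 22) fun i hi => ?_
    have h := List.all_eq_true.mp split_ok i (List.mem_range.mpr hi)
    rw [force_eq, Bool.and_eq_true] at h
    have h := Nat.eq_of_beq_eq_true h.2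
    simp only [rowFast_eq] at h
    exact h
  have hsp := hsplit v hvlt
  set s := rowMul derivSplit v % 2 ^ 11 with hs
  set k := rowMul derivSplit v >>> 11 with hk
  have hslt : s < 2 ^ 11 := Nat.mod_lt _ (by norm_num)
  have hklt : k < 2 ^ 11 := by
    rw [hk, Nat.shiftRight_eq_div_pow, Nat.div_lt_iff_lt_mul (by norm_num), ← pow_add]
    refine rowMul_lt (fun d hd => ?_) v
    have hl : derivSplit.all (fun d => Nat.blt d (2 ^ (11 + 11))) = true := by decide +kernel
    exact Nat.blt_eq.mp (List.all_eq_true.mp hl d hd)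
  set δ := γ.trans (MulAut.conj (eOf s)) with hδdef
  have hxlt : rowMul actX s < 2 ^ 11 := rowMul_lt (isRows_iff.mp (acts_x H).1).2 s
  have hylt : rowMul actY s < 2 ^ 11 := rowMul_lt (isRows_iff.mp (acts_y H).1).2 s
  have hδx : δ xJ = xJ * eOf (s ^^^ rowMul actX s ^^^ a) := by
    rw [hδdef, MulEquiv.trans_apply, MulAut.conj_apply, hxa, eOf_inv H]
    calc eOf s * (xJ * eOf a) * eOf s = xJ * ((xJ⁻¹ * eOf s * xJ) * eOf a * eOf s) := by group
      _ = _ := by rw [(acts_x H).2 s hslt, ← eOf_xor H, ← eOf_xor H]; congr 2; ac_rfl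
  have hδy : δ yJ = yJ * eOf (s ^^^ rowMul actY s ^^^ b) := by
    rw [hδdef, MulEquiv.trans_apply, MulAut.conj_apply, hyb, eOf_inv H]
    calc eOf s * (yJ * eOf b) * eOf s = yJ * ((yJ⁻¹ * eOf s * yJ) * eOf b * eOf s) := by group
      _ = _ := by rw [(acts_y H).2 s hslt, ← eOf_xor H, ← eOf_xor H]; congr 2; ac_rfl
  set a' := s ^^^ rowMul actX s ^^^ a with ha'
  set b' := s ^^^ rowMul actY s ^^^ b with hb'
  have hC : rowMul derivCompl k = a' ^^^ b' <<< 11 := by
    have h : rowMul derivCompl k = innDer s ^^^ v := by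
      conv_rhs => rw [← hsp]
      rw [← Nat.xor_assoc, Nat.xor_self, Nat.zero_xor]
    rw [h, ha', hb', hv]
    simp only [innDer, rowFast_eq,
      show ∀ i j, Nat.xor i j = i ^^^ j from fun _ _ => rfl,
      show ∀ i j, Nat.shiftLeft i j = i <<< j from fun _ _ => rfl, Nat.shiftLeft_xor_distrib]
    ac_rfl
  have ha'lt : a' < 2 ^ 11 := Nat.xor_lt_two_pow (Nat.xor_lt_two_pow hslt hxlt) ha
  have hb'lt : b' < 2 ^ 11 := Nat.xor_lt_two_pow (Nat.xor_lt_two_pow hslt hylt) hb
  have hka : a' = rowFast derivCompl k % 2 ^ 11 := by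
    rw [rowFast_eq, hC, Nat.xor_mod_two_pow, Nat.mod_eq_of_lt ha'lt, Nat.shiftLeft_eq,
      Nat.mul_mod_left, Nat.xor_zero]
  have hkb : b' = rowFast derivCompl k >>> 11 := by
    rw [rowFast_eq, hC, Nat.shiftRight_xor_distrib, Nat.shiftLeft_shiftRight,
      Nat.shiftRight_eq_div_pow a', Nat.div_eq_of_lt ha'lt, Nat.zero_xor]
  refine ⟨eOf s * c * g₀, ?_⟩
  have hform : ∀ z, eOf s * c * g₀ * α z * (eOf s * c * g₀)⁻¹ = δ z := by
    intro z
    simp only [hδdef, hγdef, hβ, MulEquiv.trans_apply, MulAut.conj_apply]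
    group
  simp only [hform]
  rcases derivation_cases H ha'lt hb'lt hδx hδy hklt hka hkb with h0 | h40
  · left
    rw [h0, rowFast_eq, rowMul_zero] at hka hkb
    rw [hδx, hδy, hka, hkb]
    simp [eOf_zero H]
  · right
    rw [h40, shift1_eq] at hka hkb
    rw [hδx, hδy, hka, hkb, show shift1 % 2 ^ 11 = shift1 from rfl,
      show shift1 >>> 11 = 0 from rfl, eOf_zero H, mul_one]
    exact ⟨rfl, rfl⟩

end CfsgLib.JankoFourOut
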