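import Cfsg.Agent.JankoFourRep.Bits
import Mathlib.Data.Nat.Bitwise

/-!
Linear maps over the field with two elements on packed vectors.
-/

set_option autoImplicit false

namespace CfsgLib.JankoFourOut

open CfsgLib.JankoFourRep

/-- A map respecting the sum of packed vectors below `2 ^ n`. -/
structure IsLin (n : ℕ) (f : ℕ → ℕ) : Prop where
  zero : f 0 = 0
  xor : ∀ a b, a < 2 ^ n → b < 2 ^ n → f (a ^^^ b) = f a ^^^ f b

theorem IsLin.of_xor {n : ℕ} {f : ℕ → ℕ} (h : ∀ a b, f (a ^^^ b) = f a ^^^ f b) : IsLin n f := by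
  refine ⟨?_, fun a b _ _ => h a b⟩
  have := h 0 0
  rwa [Nat.xor_self, Nat.xor_self] at this

theorem rowMulFrom_zero : ∀ (L : List ℕ) (k : ℕ), rowMulFrom L 0 k = 0
  | [], _ => rfl
  | a :: L, k => by simp [rowMulFrom, rowMulFrom_zero L]

theorem rowMul_zero (L : List ℕ) : rowMul L 0 = 0 := rowMulFrom_zero L 0

theorem rowMulFrom_xor : ∀ (L : List ℕ) (a b k : ℕ),
    rowMulFrom L (a ^^^ b) k = rowMulFrom L a k ^^^ rowMulFrom L b k
  | [], _, _, _ => by simp [rowMulFrom]
  | x :: L, a, b, k => by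
    simp only [rowMulFrom, Nat.testBit_xor, rowMulFrom_xor L a b (k + 1)]
    generalize rowMulFrom L a (k + 1) = u
    generalize rowMulFrom L b (k + 1) = v
    cases a.testBit k <;> cases b.testBit k <;>
      simp only [Bool.bne_true, Bool.bne_false, Bool.not_true, Bool.not_false, cond_true, cond_false]
    · ac_rfl
    · ac_rfl
    · rw [show (x ^^^ u) ^^^ (x ^^^ v) = (x ^^^ x) ^^^ (u ^^^ v) by ac_rfl, Nat.xor_self,
        Nat.zero_xor]

theorem rowMul_xor (L : List ℕ) (a b : ℕ) : rowMul L (a ^^^ b) = rowMul L a ^^^ rowMul L b :=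
  rowMulFrom_xor L a b 0

theorem isLin_rowMul (n : ℕ) (L : List ℕ) : IsLin n (rowMul L) :=
  IsLin.of_xor (rowMul_xor L)

theorem xor_two_pow_lt {n r : ℕ} (h : r < 2 ^ (n + 1)) (hb : r.testBit n = true) :
    r ^^^ 2 ^ n < 2 ^ n := by
  refine Nat.lt_pow_two_of_testBit _ fun i hi => ?_
  rw [Nat.testBit_xor, Nat.testBit_two_pow]
  rcases Nat.lt_or_eq_of_le hi with hlt | rfl
  · rw [Nat.testBit_lt_two_pow (lt_of_lt_of_le h (Nat.pow_le_pow_right (by norm_num) hlt))]
    simp [Nat.ne_of_lt hlt]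
  · simp [hb]

theorem IsLin.eq_of_units {n : ℕ} {f g : ℕ → ℕ} (hf : IsLin n f) (hg : IsLin n g)
    (h : ∀ i < n, f (2 ^ i) = g (2 ^ i)) : ∀ r < 2 ^ n, f r = g r := by
  suffices ∀ m ≤ n, ∀ r < 2 ^ m, f r = g r from this n le_rfl
  intro m hm
  induction m with
  | zero =>
    intro r hr
    rw [pow_zero, Nat.lt_one_iff] at hr
    rw [hr, hf.zero, hg.zero]
  | succ m ih =>
    intro r hr
    have ih := ih (by omega)
    cases hb : r.testBit m
    · refine ih r (Nat.lt_pow_two_of_testBit _ fun i hi => ?_)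
      rcases Nat.lt_or_eq_of_le hi with hlt | rfl
      · exact Nat.testBit_lt_two_pow (lt_of_lt_of_le hr (Nat.pow_le_pow_right (by norm_num) hlt))
      · exact hb
    · have hs := xor_two_pow_lt hr hb
      have hsn : r ^^^ 2 ^ m < 2 ^ n := lt_of_lt_of_le hs (Nat.pow_le_pow_right (by norm_num) (by omega))
      have hun : 2 ^ m < 2 ^ n := Nat.pow_lt_pow_right (by norm_num) (by omega)
      have e : r = (r ^^^ 2 ^ m) ^^^ 2 ^ m := by rw [Nat.xor_assoc, Nat.xor_self, Nat.xor_zero]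
      rw [e, hf.xor _ _ hsn hun, hg.xor _ _ hsn hun, ih _ hs, h m (by omega)]

theorem IsLin.lt_of_units {n m : ℕ} {f : ℕ → ℕ} (hf : IsLin n f)
    (h : ∀ i < n, f (2 ^ i) < 2 ^ m) : ∀ r < 2 ^ n, f r < 2 ^ m := by
  intro r hr
  have hg : IsLin n fun a => f a % 2 ^ m :=
    ⟨by simp [hf.zero], fun a b ha hb => by simp [hf.xor a b ha hb, Nat.xor_mod_two_pow]⟩
  have := hf.eq_of_units hg (fun i hi => (Nat.mod_eq_of_lt (h i hi)).symm) r hr
  rw [this]
  exact Nat.mod_lt _ (by positivity)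

theorem IsLin.comp {n m : ℕ} {f g : ℕ → ℕ} (hf : IsLin m f) (hg : IsLin n g)
    (hb : ∀ a < 2 ^ n, g a < 2 ^ m) : IsLin n fun a => f (g a) :=
  ⟨by rw [hg.zero, hf.zero], fun a b ha hb' => by rw [hg.xor a b ha hb', hf.xor _ _ (hb a ha) (hb b hb')]⟩

theorem isLin_id (n : ℕ) : IsLin n fun a => a := IsLin.of_xor fun _ _ => rfl

/-- A list of packed rows is a square matrix of size `n`. -/
def isRows (n : ℕ) (A : List ℕ) : Bool := Nat.beq A.length n && A.all fun r => Nat.blt r (2 ^ n)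

theorem rowMulFrom_lt {m : ℕ} : ∀ {A : List ℕ}, (∀ a ∈ A, a < 2 ^ m) → ∀ r k,
    rowMulFrom A r k < 2 ^ m
  | [], _, _, _ => by simp [rowMulFrom]
  | a :: A, h, r, k => by
    have ih := rowMulFrom_lt (A := A) (fun b hb => h b (List.mem_cons_of_mem _ hb)) r (k + 1)
    simp only [rowMulFrom]
    cases r.testBit k
    · exact ih
    · exact Nat.xor_lt_two_pow (h a List.mem_cons_self) ih

theorem isRows_iff {n : ℕ} {A : List ℕ} :
    isRows n A = true ↔ A.length = n ∧ ∀ a ∈ A, a < 2 ^ n := by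
  rw [isRows, Bool.and_eq_true, List.all_eq_true]
  constructor
  · exact fun h => ⟨Nat.eq_of_beq_eq_true h.1, fun a ha => Nat.blt_eq.mp (h.2 a ha)⟩
  · exact fun h => ⟨by rw [h.1]; exact Nat.beq_refl n, fun a ha => Nat.blt_eq.mpr (h.2 a ha)⟩

theorem rowMul_lt {n : ℕ} {A : List ℕ} (h : ∀ a ∈ A, a < 2 ^ n) (r : ℕ) : rowMul A r < 2 ^ n :=
  rowMulFrom_lt h r 0

theorem rowMul_mulL (A B : List ℕ) (r : ℕ) : rowMul (mulL A B) r = rowMul B (rowMul A r) := by
  unfold mulL rowMul
  suffices ∀ k, rowMulFrom (A.map (rowMul B)) r k = rowMul B (rowMulFrom A r k) from this 0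
  induction A with
  | nil => intro k; simp [rowMulFrom, rowMul_zero]
  | cons a A ih =>
    intro k
    simp only [List.map_cons, rowMulFrom, ih (k + 1)]
    cases r.testBit k <;> simp [rowMul_xor]

theorem isRows_mulL {n : ℕ} {A B : List ℕ} (hA : isRows n A = true) (hB : isRows n B = true) :
    isRows n (mulL A B) = true := by
  rw [isRows_iff] at hA hB ⊢
  refine ⟨by simp [mulL, hA.1], fun a ha => ?_⟩
  obtain ⟨r, -, rfl⟩ := List.mem_map.mp ha
  exact rowMul_lt hB.2 r

theorem rowMulFrom_two_pow : ∀ (A : List ℕ) (i k : ℕ), k ≤ i →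
    rowMulFrom A (2 ^ i) k = A.getD (i - k) 0
  | [], _, _, _ => by simp [rowMulFrom]
  | a :: A, i, k, h => by
    simp only [rowMulFrom, Nat.testBit_two_pow]
    rcases Nat.lt_or_eq_of_le h with hlt | rfl
    · rw [rowMulFrom_two_pow A i (k + 1) hlt, show i - k = (i - (k + 1)) + 1 by omega,
        List.getD_cons_succ]
      simp [Nat.ne_of_gt hlt]
    · have : ∀ (B : List ℕ) (m : ℕ), k < m → rowMulFrom B (2 ^ k) m = 0 := by
        intro B
        induction B with
        | nil => intros; rfl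
        | cons b B ih => intro m hm; simp [rowMulFrom, Nat.ne_of_lt hm, ih (m + 1) (by omega)]
      simp [this A (k + 1) (by omega)]

theorem rowMul_two_pow (A : List ℕ) (i : ℕ) : rowMul A (2 ^ i) = A.getD i 0 := by
  rw [rowMul, rowMulFrom_two_pow A i 0 (Nat.zero_le i), Nat.sub_zero]

theorem rows_ext {n : ℕ} {A B : List ℕ} (hA : A.length = n) (hB : B.length = n)
    (h : ∀ i < n, rowMul A (2 ^ i) = rowMul B (2 ^ i)) : A = B := by
  refine List.ext_getElem (hA.trans hB.symm) fun i h1 h2 => ?_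
  have := h i (by omega)
  simpa [rowMul_two_pow, h1, h2] using this

/-- A left inverse off the kernel shows that the kernel is spanned by the listed vectors. -/
theorem exists_kernel_coord {n m : ℕ} {A M K coef : List ℕ}
    (hcheck : (List.range n).all (fun i =>
      Nat.beq (rowMul M (rowMul A (2 ^ i)) ^^^ 2 ^ i) (rowMul K (coef.getD i 0))) = true)
    (hcoef : coef.all (fun c => Nat.blt c (2 ^ m)) = true) {x : ℕ} (hx : x < 2 ^ n)
    (h0 : rowMul A x = 0) : ∃ c < 2 ^ m, x = rowMul K c := by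
  have hu : ∀ i < n, rowMul M (rowMul A (2 ^ i)) ^^^ 2 ^ i = rowMul K (coef.getD i 0) :=
    fun i hi => Nat.eq_of_beq_eq_true (List.all_eq_true.mp hcheck i (List.mem_range.mpr hi))
  have hl : IsLin n fun a => rowMul M (rowMul A a) ^^^ a := by
    refine IsLin.of_xor fun a b => ?_
    rw [rowMul_xor, rowMul_xor]
    simp only [Nat.xor_assoc]
    congr 1
    rw [← Nat.xor_assoc, Nat.xor_comm (rowMul M (rowMul A b)) a, Nat.xor_assoc]
  have hr : IsLin n fun a => rowMul K (rowMul coef a) :=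
    IsLin.of_xor fun a b => by rw [rowMul_xor, rowMul_xor]
  have := hl.eq_of_units hr (fun i hi => by simp only [hu i hi, rowMul_two_pow coef i]) x hx
  simp only [h0, rowMul_zero, Nat.zero_xor] at this
  refine ⟨rowMul coef x, rowMul_lt (fun c hc => ?_) x, this⟩
  exact Nat.blt_eq.mp (List.all_eq_true.mp hcoef c hc)

end CfsgLib.JankoFourOut
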