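import Cfsg.Agent.JankoFour.Basic
import Cfsg.Agent.JankoFourRep.Rep
import Cfsg.Agent.JankoFourOut.Linear
import Cfsg.Agent.JankoFourOut.DataE
import Cfsg.Prelude.Def_Sporadic_a

/-!
Words in the presented fourth Janko group and their matrices.
-/

set_option autoImplicit false

namespace CfsgLib.JankoFourOut

open Cfsg.Spor CfsgLib.CosetEnum CfsgLib.JankoFour CfsgLib.JankoFourRep

/-- What the main chain supplies. -/
structure Hyp : Prop where
  inj : Function.Injective rep
  card : Nat.card Cfsg.Spor.J4 = 86775571046077562880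
  iso : Nonempty (↥mSub ≃* ↥Cfsg.M24)

/-- The letters. -/
def gen : ℕ → Cfsg.Spor.J4
  | 0 => xJ
  | 1 => yJ
  | 2 => yJ⁻¹
  | _ => tJ

theorem val_gen : ∀ c, (rep (gen c)).val = toMat (rowsOf c) := by
  have h : ∀ g : J4.Gen, rep (projJ (FreeGroup.of g)) = genGL g := rep_of
  intro c
  match c with
  | 0 => simp only [gen, xJ, J4.x, h, genGL, rowsOf]
  | 1 => simp only [gen, yJ, J4.y, h, genGL, rowsOf]
  | 2 => simp only [gen, yJ, J4.y, map_inv, h, genGL, rowsOf, Units.inv_mk]
  | n + 3 => simp only [gen, tJ, J4.t, h, genGL, rowsOf]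

theorem isRows_rowsOf : ∀ c, isRows 112 (rowsOf c) = true := by
  intro c
  match c with
  | 0 => decide +kernel
  | 1 => decide +kernel
  | 2 => decide +kernel
  | n + 3 => exact (by decide +kernel : isRows 112 rowsT = true)

/-- Every element is a word. -/
theorem exists_word (g : Cfsg.Spor.J4) : ∃ w : List ℕ, prodw gen w = g := by
  have hg : g ∈ Subgroup.closure (Set.range (fun a : J4.Gen => (PresentedGroup.of a : Cfsg.Spor.J4))) := by
    rw [show Subgroup.closure (Set.range (fun a : J4.Gen => (PresentedGroup.of a : Cfsg.Spor.J4))) = ⊤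
      from PresentedGroup.closure_range_of _]
    exact Subgroup.mem_top g
  induction hg using Subgroup.closure_induction_left with
  | one => exact ⟨[], prodw_nil gen⟩
  | mul_left s hs y _ ih =>
    obtain ⟨w, rfl⟩ := ih
    obtain ⟨a, rfl⟩ := hs
    cases a
    · exact ⟨0 :: w, by rw [prodw_cons]; rfl⟩
    · exact ⟨1 :: w, by rw [prodw_cons]; rfl⟩
    · exact ⟨3 :: w, by rw [prodw_cons]; rfl⟩
  | inv_mul_cancel s hs y _ ih =>
    obtain ⟨w, rfl⟩ := ih
    obtain ⟨a, rfl⟩ := hs
    cases a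
    · refine ⟨0 :: w, ?_⟩
      rw [prodw_cons]
      exact congrArg (· * _) (show xJ = xJ⁻¹ from
        (inv_eq_of_mul_eq_one_right (by rw [← sq]; exact xJ_sq)).symm)
    · exact ⟨2 :: w, by rw [prodw_cons]; rfl⟩
    · refine ⟨3 :: w, ?_⟩
      rw [prodw_cons]
      exact congrArg (· * _) (show tJ = tJ⁻¹ from
        (inv_eq_of_mul_eq_one_right (by rw [← sq]; exact tJ_sq)).symm)

/-- The matrix of an element is given by the rows `L`. -/
def HasRows (g : Cfsg.Spor.J4) (L : List ℕ) : Prop :=
  isRows 112 L = true ∧ (rep g).val = toMat L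

theorem HasRows.mul {g h : Cfsg.Spor.J4} {A B : List ℕ} (ha : HasRows g A) (hb : HasRows h B) :
    HasRows (g * h) (mulL A B) := by
  refine ⟨isRows_mulL ha.1 hb.1, ?_⟩
  rw [map_mul, Units.val_mul, ha.2, hb.2,
    toMat_mulL (isRows_iff.mp ha.1).1 (isRows_iff.mp hb.1).1]

theorem hasRows_one : HasRows 1 oneL :=
  ⟨by decide +kernel, by rw [map_one, Units.val_one, toMat_oneL]⟩

theorem hasRows_gen (c : ℕ) : HasRows (gen c) (rowsOf c) := ⟨isRows_rowsOf c, val_gen c⟩

theorem exists_rows (g : Cfsg.Spor.J4) : ∃ L, HasRows g L := by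
  obtain ⟨w, rfl⟩ := exists_word g
  induction w with
  | nil => exact ⟨oneL, by rw [prodw_nil]; exact hasRows_one⟩
  | cons c w ih =>
    obtain ⟨L, hL⟩ := ih
    exact ⟨_, by rw [prodw_cons]; exact (hasRows_gen c).mul hL⟩

theorem rows_eq_of_toMat {A B : List ℕ} (hA : isRows 112 A = true) (hB : isRows 112 B = true)
    (h : toMat A = toMat B) : A = B := by
  rw [isRows_iff] at hA hB
  refine List.ext_getElem (hA.1.trans hB.1.symm) fun i h1 h2 => ?_
  refine Nat.eq_of_testBit_eq fun j => ?_
  rcases Nat.lt_or_ge j 112 with hj | hj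
  · have := congrFun (congrFun h ⟨i, by omega⟩) ⟨j, hj⟩
    simp only [toMat, Matrix.of_apply, JankoFourRep.bit] at this
    rw [List.getD_eq_getElem _ _ h1, List.getD_eq_getElem _ _ h2] at this
    revert this
    cases A[i].testBit j <;> cases B[i].testBit j <;> simp
  · rw [Nat.testBit_lt_two_pow (lt_of_lt_of_le (hA.2 _ (List.getElem_mem h1)) (Nat.pow_le_pow_right (by norm_num) hj)),
      Nat.testBit_lt_two_pow (lt_of_lt_of_le (hB.2 _ (List.getElem_mem h2)) (Nat.pow_le_pow_right (by norm_num) hj))]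

theorem HasRows.unique {g : Cfsg.Spor.J4} {A B : List ℕ} (ha : HasRows g A) (hb : HasRows g B) : A = B :=
  rows_eq_of_toMat ha.1 hb.1 (ha.2.symm.trans hb.2)

theorem HasRows.eq (H : Hyp) {g h : Cfsg.Spor.J4} {A : List ℕ} (ha : HasRows g A) (hb : HasRows h A) :
    g = h :=
  H.inj (Units.ext (ha.2.trans hb.2.symm))

theorem HasRows.pow_eq_one {g : Cfsg.Spor.J4} {A : List ℕ} (ha : HasRows g A) :
    toMat A ^ Nat.card Cfsg.Spor.J4 = 1 := by
  rw [← ha.2, ← Units.val_pow_eq_pow_val, ← map_pow, pow_card_eq_one', map_one, Units.val_one]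

/-- A word evaluates to the given rows. -/
theorem hasRows_prodw {g : ℕ → Cfsg.Spor.J4} {G : ℕ → List ℕ} (hg : ∀ c, HasRows (g c) (G c))
    {w P : List ℕ} (hP : isRows 112 P = true) (h : isMat G w P = true) : HasRows (prodw g w) P := by
  refine ⟨hP, ?_⟩
  have hlen : ∀ c, (G c).length = 112 := fun c => (isRows_iff.mp (hg c).1).1
  rw [← prod_eq_of_isMat hlen h, prodw]
  clear h
  induction w with
  | nil => simp
  | cons c w ih => simp [List.map_cons, List.prod_cons, (hg c).2, ih]

/-- Two words have equal matrices. -/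
def sameWord (G : ℕ → List ℕ) (v w : List ℕ) : Bool :=
  (List.range 112).all fun i => Nat.beq (evalRow G v (2 ^ i)) (evalRow G w (2 ^ i))

theorem prodw_eq_of_sameWord (H : Hyp) {g : ℕ → Cfsg.Spor.J4} {G : ℕ → List ℕ}
    (hg : ∀ c, HasRows (g c) (G c)) {v w : List ℕ} (h : sameWord G v w = true) :
    prodw g v = prodw g w := by
  have hlen : ∀ c, (G c).length = 112 := fun c => (isRows_iff.mp (hg c).1).1
  have hval : ∀ u, (rep (prodw g u)).val = (u.map fun c => toMat (G c)).prod := by
    intro u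
    induction u with
    | nil => simp [prodw]
    | cons c u ih => rw [prodw_cons, map_mul, Units.val_mul, ih, (hg c).2, List.map_cons, List.prod_cons]
  refine H.inj (Units.ext ?_)
  rw [hval, hval]
  refine Matrix.ext fun i j => ?_
  have hi := Nat.eq_of_beq_eq_true (List.all_eq_true.1 h i.val (List.mem_range.2 i.isLt))
  have e : vecOf (2 ^ i.val) = Pi.single i 1 := by
    funext k
    by_cases hk : i = k
    · subst hk; simp [vecOf, JankoFourRep.bit]
    · simp [vecOf, JankoFourRep.bit, Fin.val_ne_of_ne hk, Ne.symm hk]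
  have h1 := vecOf_evalRow G hlen v (2 ^ i.val)
  have h2 := vecOf_evalRow G hlen w (2 ^ i.val)
  rw [hi, h2, e] at h1
  simpa using congrFun h1.symm j

end CfsgLib.JankoFourOut
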