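import Cfsg.Agent.JankoFour.Basic
import Cfsg.Agent.JankoFourOut.Fast

/-!
Matrices commuting with two given ones, described through spun bases.
-/

set_option autoImplicit false

namespace CfsgLib.JankoFourOut

open CfsgLib.CosetEnum CfsgLib.JankoFourRep

/-- The vector of a node of a spinning tree, from the reversed list of the earlier ones. -/
def spinVal (g : ℕ → ℕ → ℕ) (acc : List ℕ) (k s0 s1 : ℕ) (p : ℕ × ℕ) : ℕ :=
  bif Nat.blt p.1 2 then (bif Nat.beq p.1 0 then s0 else s1)
  else g p.2 (acc.getD (k - 1 - (p.1 - 2)) 0)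

/-- Spin a tree, accumulating in reverse. -/
def spinAux (g : ℕ → ℕ → ℕ) : List (ℕ × ℕ) → List ℕ → ℕ → ℕ → ℕ → List ℕ
  | [], acc, _, _, _ => acc
  | p :: t, acc, k, s0, s1 =>
    force (spinVal g acc k s0 s1 p) fun v => spinAux g t (v :: acc) (k + 1) s0 s1

/-- Spin a tree from two seeds. -/
def spin (g : ℕ → ℕ → ℕ) (t : List (ℕ × ℕ)) (s0 s1 : ℕ) : List ℕ :=
  (spinAux g t [] 0 s0 s1).reverse

/-- The data describing a space of commuting matrices. -/
structure Comm where
  /-- The first matrix. -/
  X : List ℕ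
  /-- The second matrix. -/
  Q : List ℕ
  /-- Tables of the first matrix. -/
  TX : List ℕ
  /-- Tables of the second matrix. -/
  TQ : List ℕ
  /-- The first seed. -/
  seed0 : ℕ
  /-- The second seed. -/
  seed1 : ℕ
  /-- Terms of an element killing the first seed. -/
  terms0 : List (List ℕ)
  /-- Terms of an element killing the second seed. -/
  terms1 : List (List ℕ)
  /-- Rows of the first killer. -/
  kill0 : List ℕ
  /-- Rows of the second killer. -/
  kill1 : List ℕ
  /-- The first kernel. -/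
  ker0 : List ℕ
  /-- The second kernel. -/
  ker1 : List ℕ
  /-- A left inverse off the first kernel. -/
  inv0 : List ℕ
  /-- A left inverse off the second kernel. -/
  inv1 : List ℕ
  /-- Coordinates in the first kernel. -/
  coef0 : List ℕ
  /-- Coordinates in the second kernel. -/
  coef1 : List ℕ
  /-- The dimension of the first kernel. -/
  m0 : ℕ
  /-- The dimension of the second kernel. -/
  m1 : ℕ
  /-- The spinning tree. -/
  tree : List (ℕ × ℕ)
  /-- The unit vectors in the spun basis. -/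
  comb : List ℕ
  /-- Some positions of the commutation defect. -/
  pos : List ℕ
  /-- The defects of the basis at these positions. -/
  cols : List ℕ

variable (C : Comm)

/-- The rows of the two matrices. -/
def Comm.rows (g : ℕ) : List ℕ := bif Nat.beq g 0 then C.X else C.Q

/-- The tables of the two matrices. -/
def Comm.tabs (g : ℕ) : List ℕ := bif Nat.beq g 0 then C.TX else C.TQ

/-- The images of the spun basis under the member with coordinates `z`. -/
def Comm.im (z : ℕ) : List ℕ :=
  spin (fun g v => rowTab (C.tabs g) v) C.tree (rowFast C.ker0 (z % Nat.pow 2 C.m0))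
    (rowFast C.ker1 (Nat.shiftRight z C.m0))

/-- A member applied to a vector. -/
def Comm.app (im : List ℕ) (v : ℕ) : ℕ := rowFast im (rowFast C.comb v)

/-- A bit of the commutation defect. -/
def Comm.defect (im : List ℕ) (b : ℕ) : ℕ :=
  Nat.land
    (Nat.shiftRight
      (Nat.xor (rowTab (C.tabs (b / 112 / 112)) (C.app im (Nat.pow 2 (b / 112 % 112))))
        (C.app im (rowTab (C.tabs (b / 112 / 112)) (Nat.pow 2 (b / 112 % 112)))))
      (b % 112)) 1

/-- The defects at the positions. -/
def Comm.defects (im : List ℕ) : List ℕ → ℕ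
  | [] => 0
  | b :: bs => Nat.xor (C.defect im b) (Nat.shiftLeft (Comm.defects im bs) 1)

/-- A sum of words applied to a vector. -/
def Comm.termsApp : List (List ℕ) → ℕ → ℕ
  | [], _ => 0
  | w :: ws, v => Nat.xor (evalTab C.tabs w v) (Comm.termsApp ws v)

/-- The killer is the sum of its terms and kills the seed. -/
def Comm.killerOK (seed : ℕ) (terms : List (List ℕ)) (kill : List ℕ) : Bool :=
  isRows 112 kill && Nat.blt seed (Nat.pow 2 112) && Nat.beq (rowFast kill seed) 0 &&
    (List.range 112).all fun i => Nat.beq (C.termsApp terms (Nat.pow 2 i)) (kill.getD i 0)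

/-- The kernel is spanned by the listed vectors. -/
def kernelOK (kill inv ker coef : List ℕ) (m : ℕ) : Bool :=
  coef.all (fun c => Nat.blt c (2 ^ m)) &&
    (List.range 112).all fun i =>
      Nat.beq (Nat.xor (rowFast inv (rowFast kill (Nat.pow 2 i))) (Nat.pow 2 i))
        (rowFast ker (coef.getD i 0))

/-- A unit vector is spanned. -/
def Comm.combOK (i : ℕ) : Bool :=
  Nat.beq (rowFast (spin (fun g v => rowTab (C.tabs g) v) C.tree C.seed0 C.seed1) (C.comb.getD i 0))
    (Nat.pow 2 i)

/-- The checks. -/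
structure Comm.Good : Prop where
  isX : isRows 112 C.X = true
  isQ : isRows 112 C.Q = true
  tX : tabOK C.TX C.X = true
  tQ : tabOK C.TQ C.Q = true
  killer0 : C.killerOK C.seed0 C.terms0 C.kill0 = true
  killer1 : C.killerOK C.seed1 C.terms1 C.kill1 = true
  kernel0 : kernelOK C.kill0 C.inv0 C.ker0 C.coef0 C.m0 = true
  kernel1 : kernelOK C.kill1 C.inv1 C.ker1 C.coef1 C.m1 = true
  comb : ∀ i < 112, C.combOK i = true
  cols : ∀ k < C.m0 + C.m1, C.defects (C.im (Nat.pow 2 k)) C.pos = C.cols.getD k 0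

theorem spinAux_map {g : ℕ → ℕ → ℕ} {P : ℕ → ℕ} (h0 : P 0 = 0)
    (hg : ∀ a v, P (g a v) = g a (P v)) :
    ∀ t acc k s0 s1, (spinAux g t acc k s0 s1).map P = spinAux g t (acc.map P) k (P s0) (P s1)
  | [], _, _, _, _ => rfl
  | p :: t, acc, k, s0, s1 => by
    rw [spinAux, spinAux, force_eq, force_eq, spinAux_map h0 hg t, List.map_cons]
    congr 2
    unfold spinVal
    cases Nat.blt p.1 2
    · rw [cond_false, cond_false, hg]
      congr 1
      rw [← h0, List.getD_map, h0]
    · rw [cond_true, cond_true]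
      cases Nat.beq p.1 0 <;> rfl

theorem spin_map {g : ℕ → ℕ → ℕ} {P : ℕ → ℕ} (h0 : P 0 = 0) (hg : ∀ a v, P (g a v) = g a (P v))
    (t : List (ℕ × ℕ)) (s0 s1 : ℕ) : (spin g t s0 s1).map P = spin g t (P s0) (P s1) := by
  rw [spin, spin, List.map_reverse, spinAux_map h0 hg]
  rfl

theorem getD_zipWith_xor : ∀ (a b : List ℕ), a.length = b.length → ∀ i,
    (List.zipWith (· ^^^ ·) a b).getD i 0 = a.getD i 0 ^^^ b.getD i 0
  | [], [], _, _ => by simp
  | x :: a, y :: b, h, i => by
    cases i with
    | zero => simp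
    | succ i => simpa using getD_zipWith_xor a b (by simpa using h) i

theorem spinAux_xor {g : ℕ → ℕ → ℕ} (hg : ∀ a u v, g a (u ^^^ v) = g a u ^^^ g a v) :
    ∀ t A B k s0 s1 r0 r1, A.length = B.length →
      (spinAux g t A k s0 s1).length = (spinAux g t B k r0 r1).length ∧
      spinAux g t (List.zipWith (· ^^^ ·) A B) k (s0 ^^^ r0) (s1 ^^^ r1) =
        List.zipWith (· ^^^ ·) (spinAux g t A k s0 s1) (spinAux g t B k r0 r1)
  | [], _, _, _, _, _, _, _, h => ⟨h, rfl⟩
  | p :: t, A, B, k, s0, s1, r0, r1, h => by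
    simp only [spinAux, force_eq]
    have hv : spinVal g (List.zipWith (· ^^^ ·) A B) k (s0 ^^^ r0) (s1 ^^^ r1) p =
        spinVal g A k s0 s1 p ^^^ spinVal g B k r0 r1 p := by
      unfold spinVal
      cases Nat.blt p.1 2
      · simp only [cond_false, getD_zipWith_xor A B h, hg]
      · simp only [cond_true]
        cases Nat.beq p.1 0 <;> rfl
    have := spinAux_xor hg t (spinVal g A k s0 s1 p :: A) (spinVal g B k r0 r1 p :: B) (k + 1) s0 s1 r0 r1
      (by simp [h])
    rw [List.zipWith_cons_cons, ← hv] at this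
    exact this

theorem rowMulFrom_zipWith_xor : ∀ (a b : List ℕ), a.length = b.length → ∀ r k,
    rowMulFrom (List.zipWith (· ^^^ ·) a b) r k = rowMulFrom a r k ^^^ rowMulFrom b r k
  | [], [], _, _, _ => by simp [rowMulFrom]
  | x :: a, y :: b, h, r, k => by
    simp only [List.zipWith_cons_cons, rowMulFrom,
      rowMulFrom_zipWith_xor a b (by simpa using h) r (k + 1)]
    cases r.testBit k <;> simp only [cond_true, cond_false]
    ac_rfl

theorem rowMul_spin_xor {g : ℕ → ℕ → ℕ} (hg : ∀ a u v, g a (u ^^^ v) = g a u ^^^ g a v)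
    (t : List (ℕ × ℕ)) (s0 s1 r0 r1 v : ℕ) :
    rowMul (spin g t (s0 ^^^ r0) (s1 ^^^ r1)) v =
      rowMul (spin g t s0 s1) v ^^^ rowMul (spin g t r0 r1) v := by
  obtain ⟨hl, he⟩ := spinAux_xor hg t [] [] 0 s0 s1 r0 r1 rfl
  rw [List.zipWith_nil_left] at he
  rw [spin, spin, spin, he, List.reverse_zipWith hl, rowMul, rowMul, rowMul]
  exact rowMulFrom_zipWith_xor _ _ (by rw [List.length_reverse, List.length_reverse, hl]) v 0

variable {C}

theorem Comm.Good.tabOK' (hC : C.Good) (g : ℕ) : tabOK (C.tabs g) (C.rows g) = true := by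
  unfold Comm.tabs Comm.rows
  cases Nat.beq g 0
  · exact hC.tQ
  · exact hC.tX

theorem Comm.Good.rowTab_tabs (hC : C.Good) (g v : ℕ) : rowTab (C.tabs g) v = rowMul (C.rows g) v :=
  rowTab_eq _ _ (hC.tabOK' g) v

theorem Comm.Good.isRows' (hC : C.Good) (g : ℕ) : isRows 112 (C.rows g) = true := by
  unfold Comm.rows
  cases Nat.beq g 0
  · exact hC.isQ
  · exact hC.isX

theorem evalRow_xor (G : ℕ → List ℕ) : ∀ w a b, evalRow G w (a ^^^ b) = evalRow G w a ^^^ evalRow G w b
  | [], _, _ => rfl
  | c :: w, a, b => by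
    show force (rowMul (G c) (a ^^^ b)) _ = force (rowMul (G c) a) _ ^^^ force (rowMul (G c) b) _
    rw [force_eq, force_eq, force_eq, rowMul_xor, evalRow_xor G w]

theorem evalRow_lt {G : ℕ → List ℕ} (hG : ∀ c, isRows 112 (G c) = true) :
    ∀ w v, v < 2 ^ 112 → evalRow G w v < 2 ^ 112
  | [], _, h => h
  | c :: w, v, _ => by
    show force (rowMul (G c) v) _ < _
    rw [force_eq]
    exact evalRow_lt hG w _ (rowMul_lt (isRows_iff.mp (hG c)).2 v)

theorem Comm.Good.coord (hC : C.Good) {P : List ℕ} (hP : isRows 112 P = true)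
    (hc : ∀ g, mulL P (C.rows g) = mulL (C.rows g) P) {seed m : ℕ} {terms : List (List ℕ)}
    {kill inv ker coef : List ℕ} (hk : C.killerOK seed terms kill = true)
    (hker : kernelOK kill inv ker coef m = true) :
    ∃ c < 2 ^ m, rowMul P seed = rowFast ker c := by
  simp only [Comm.killerOK, Bool.and_eq_true] at hk
  obtain ⟨⟨⟨hkr, hsb⟩, hk0⟩, hku⟩ := hk
  simp only [kernelOK, Bool.and_eq_true] at hker
  have happ : ∀ ts v, C.termsApp ts v = (ts.map fun w => evalRow C.rows w v).foldr (· ^^^ ·) 0 := by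
    intro ts v
    induction ts with
    | nil => rfl
    | cons w ws ih =>
      rw [Comm.termsApp, ih, evalTab_eq hC.tabOK', List.map_cons, List.foldr_cons]
      rfl
  have hlin : IsLin 112 fun v => C.termsApp terms v := by
    refine IsLin.of_xor fun a b => ?_
    simp only [happ]
    generalize terms = ts
    induction ts with
    | nil => exact (Nat.xor_self 0).symm
    | cons w ws ih =>
      simp only [List.map_cons, List.foldr_cons]
      rw [ih, evalRow_xor]
      ac_rfl
  have heq : ∀ v < 2 ^ 112, C.termsApp terms v = rowMul kill v :=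
    hlin.eq_of_units (isLin_rowMul 112 kill) fun i hi => by
      rw [rowMul_two_pow]
      exact Nat.eq_of_beq_eq_true (List.all_eq_true.mp hku i (List.mem_range.mpr hi))
  have hPc : ∀ w v, evalRow C.rows w (rowMul P v) = rowMul P (evalRow C.rows w v) := by
    intro w
    induction w with
    | nil => intro v; rfl
    | cons c w ih =>
      intro v
      show force (rowMul (C.rows c) (rowMul P v)) _ = rowMul P (force (rowMul (C.rows c) v) _)
      rw [force_eq, force_eq, ← rowMul_mulL, hc, rowMul_mulL, ih]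
  have hlt := rowMul_lt (isRows_iff.mp hP).2 seed
  have hseed : seed < 2 ^ 112 := Nat.blt_eq.mp hsb
  have h0 : rowMul kill (rowMul P seed) = 0 := by
    rw [← heq _ hlt, happ]
    have e : (terms.map fun w => evalRow C.rows w (rowMul P seed)).foldr (· ^^^ ·) 0 =
        rowMul P ((terms.map fun w => evalRow C.rows w seed).foldr (· ^^^ ·) 0) := by
      generalize terms = ts
      induction ts with
      | nil => exact (rowMul_zero P).symm
      | cons w ws ih =>
        simp only [List.map_cons, List.foldr_cons]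
        rw [ih, hPc, rowMul_xor]
    rw [e, ← happ, heq _ hseed, ← rowFast_eq kill, Nat.eq_of_beq_eq_true hk0, rowMul_zero]
  obtain ⟨c, hcl, hce⟩ := exists_kernel_coord (n := 112) (m := m) (A := kill) (M := inv) (K := ker)
    (coef := coef) (by
      refine List.all_eq_true.mpr fun i hi => ?_
      have h := List.all_eq_true.mp hker.2 i hi
      simp only [rowFast_eq] at h
      exact h) hker.1 hlt h0
  exact ⟨c, hcl, hce.trans (rowFast_eq _ _).symm⟩

/-- Every commuting matrix is a member whose coordinates pass the defect filter. -/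
theorem Comm.Good.exists_coord (hC : C.Good) {P : List ℕ} (hP : isRows 112 P = true)
    (hc : ∀ g, mulL P (C.rows g) = mulL (C.rows g) P) :
    ∃ z < 2 ^ (C.m0 + C.m1), rowFast C.cols z = 0 ∧
      ∀ v < 2 ^ 112, rowMul P v = C.app (C.im z) v := by
  obtain ⟨c0, hc0, he0⟩ := hC.coord hP hc hC.killer0 hC.kernel0
  obtain ⟨c1, hc1, he1⟩ := hC.coord hP hc hC.killer1 hC.kernel1
  have hz0 : (c0 ^^^ c1 <<< C.m0) % Nat.pow 2 C.m0 = c0 := by
    show _ % 2 ^ C.m0 = _
    rw [Nat.xor_mod_two_pow, Nat.mod_eq_of_lt hc0, Nat.shiftLeft_eq, Nat.mul_mod_left, Nat.xor_zero]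
  have hz1 : Nat.shiftRight (c0 ^^^ c1 <<< C.m0) C.m0 = c1 := by
    show _ >>> C.m0 = _
    rw [Nat.shiftRight_xor_distrib, Nat.shiftLeft_shiftRight, Nat.shiftRight_eq_div_pow,
      Nat.div_eq_of_lt hc0, Nat.zero_xor]
  set z := c0 ^^^ c1 <<< C.m0 with hz
  have hzlt : z < 2 ^ (C.m0 + C.m1) :=
    Nat.xor_lt_two_pow (lt_of_lt_of_le hc0 (Nat.pow_le_pow_right (by norm_num) (by omega))) (by
      rw [Nat.shiftLeft_eq, pow_add, mul_comm (2 ^ C.m0)]
      exact Nat.mul_lt_mul_of_pos_right hc1 (by positivity))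
  have hg : ∀ a v, rowMul P (rowTab (C.tabs a) v) = rowTab (C.tabs a) (rowMul P v) := by
    intro a v
    rw [hC.rowTab_tabs, hC.rowTab_tabs, ← rowMul_mulL, ← hc, rowMul_mulL]
  have hmap : (spin (fun g v => rowTab (C.tabs g) v) C.tree C.seed0 C.seed1).map (rowMul P) = C.im z := by
    rw [spin_map (rowMul_zero P) hg, he0, he1, Comm.im, hz0, hz1]
  have happ : ∀ v < 2 ^ 112, rowMul P v = C.app (C.im z) v := by
    intro v hv
    rw [Comm.app, rowFast_eq, rowFast_eq, ← hmap,
      show (spin (fun g v => rowTab (C.tabs g) v) C.tree C.seed0 C.seed1).map (rowMul P) =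
        mulL (spin (fun g v => rowTab (C.tabs g) v) C.tree C.seed0 C.seed1) P from rfl,
      rowMul_mulL]
    congr 1
    refine IsLin.eq_of_units (f := fun u => u)
      (g := fun u => rowMul (spin (fun g v => rowTab (C.tabs g) v) C.tree C.seed0 C.seed1) (rowMul C.comb u))
      (isLin_id 112) (IsLin.of_xor fun a b => by rw [rowMul_xor, rowMul_xor]) (fun i hi => ?_) v hv
    have h := Nat.eq_of_beq_eq_true (hC.comb i hi)
    rw [rowFast_eq] at h
    rw [rowMul_two_pow]
    exact h.symm
  refine ⟨z, hzlt, ?_, happ⟩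
  have hlin : IsLin (C.m0 + C.m1) fun u => C.defects (C.im u) C.pos := by
    refine IsLin.of_xor fun a b => ?_
    have hgx : ∀ x u v, rowTab (C.tabs x) (u ^^^ v) = rowTab (C.tabs x) u ^^^ rowTab (C.tabs x) v :=
      fun x u v => by simp only [hC.rowTab_tabs, rowMul_xor]
    have himx : ∀ v, rowFast (C.im (a ^^^ b)) v = rowFast (C.im a) v ^^^ rowFast (C.im b) v := by
      intro v
      simp only [rowFast_eq, Comm.im, show ∀ i j, Nat.shiftRight i j = i >>> j from fun _ _ => rfl,
        show ∀ i j, Nat.pow i j = i ^ j from fun _ _ => rfl,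
        Nat.xor_mod_two_pow, Nat.shiftRight_xor_distrib, rowMul_xor]
      exact rowMul_spin_xor hgx _ _ _ _ _ v
    induction C.pos with
    | nil => exact (Nat.xor_self 0).symm
    | cons p ps ih =>
      simp only [Comm.defects, Comm.defect, Comm.app, himx, hgx, ih,
        show ∀ i j, Nat.xor i j = i ^^^ j from fun _ _ => rfl,
        show ∀ i j, Nat.shiftLeft i j = i <<< j from fun _ _ => rfl,
        show ∀ i j, Nat.shiftRight i j = i >>> j from fun _ _ => rfl,
        show ∀ i j, Nat.land i j = i &&& j from fun _ _ => rfl,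
        Nat.shiftRight_xor_distrib, Nat.and_xor_distrib_right, Nat.shiftLeft_xor_distrib]
      ac_rfl
  rw [rowFast_eq, ← hlin.eq_of_units (isLin_rowMul _ C.cols) (fun k hk => by
    rw [rowMul_two_pow]; exact hC.cols k hk) z hzlt]
  show C.defects (C.im z) C.pos = 0
  induction C.pos with
  | nil => rfl
  | cons p ps ih =>
    have hi : (2 : ℕ) ^ (p / 112 % 112) < 2 ^ 112 :=
      Nat.pow_lt_pow_right (by norm_num) (Nat.mod_lt _ (by norm_num))
    have hl : rowTab (C.tabs (p / 112 / 112)) (2 ^ (p / 112 % 112)) < 2 ^ 112 := by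
      rw [hC.rowTab_tabs]
      exact rowMul_lt (isRows_iff.mp (hC.isRows' _)).2 _
    rw [Comm.defects, ih, Comm.defect, show Nat.pow 2 (p / 112 % 112) = 2 ^ (p / 112 % 112) from rfl,
      ← happ _ hi, ← happ _ hl, hg,
      show ∀ i, Nat.xor i i = 0 from Nat.xor_self,
      show Nat.shiftRight 0 (p % 112) = 0 from Nat.zero_shiftRight _]
    rfl

end CfsgLib.JankoFourOut
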