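import Cfsg.Agent.JankoFourOut.Basic
import Cfsg.Agent.JankoFourOut.Spin
import Cfsg.Agent.JankoFourOut.DataR

/-!
Eliminating members of the commutant by relations.
-/

set_option autoImplicit false

namespace CfsgLib.JankoFourOut

open Cfsg.Spor CfsgLib.CosetEnum CfsgLib.JankoFour CfsgLib.JankoFourRep

variable (C : Comm)

/-- A letter applied to a vector, the last letter being a member of the commutant. -/
def Comm.letter (TY TYI im : List ℕ) : ℕ → ℕ → ℕ
  | 0, v => rowTab C.TX v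
  | 1, v => rowTab TY v
  | 2, v => rowTab TYI v
  | _, v => C.app im v

/-- A word applied to a vector. -/
def Comm.word (TY TYI im : List ℕ) : List ℕ → ℕ → ℕ
  | [], v => v
  | c :: w, v => force (C.letter TY TYI im c v) fun v' => Comm.word TY TYI im w v'

/-- A relation moves a unit vector. -/
def Comm.killOK (TY TYI : List ℕ) (e : ℕ × ℕ × ℕ) : Bool :=
  (fun im => !Nat.beq (C.word TY TYI im (tRels.getD e.2.1 []) (Nat.pow 2 e.2.2)) (Nat.pow 2 e.2.2))
    (C.im e.1)

/-- A member passing the filter is listed. -/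
def Comm.listed (kills : List (ℕ × ℕ × ℕ)) (cands : List ℕ) (z : ℕ) : Bool :=
  !(Nat.beq (rowFast C.cols z) 0) || (kills.any (fun e => Nat.beq e.1 z) ||
    cands.any fun c => Nat.beq c z)

theorem exists_rows_prodw {g : ℕ → Cfsg.Spor.J4} {G : ℕ → List ℕ} (hg : ∀ c, HasRows (g c) (G c)) :
    ∀ w, ∃ L, HasRows (prodw g w) L ∧ ∀ v < 2 ^ 112, rowMul L v = evalRow G w v
  | [] => ⟨oneL, by rw [prodw_nil]; exact hasRows_one, fun v hv =>
      (IsLin.eq_of_units (isLin_rowMul 112 oneL) (isLin_id 112) (fun i hi => by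
        rw [rowMul_two_pow, oneL, List.getD_eq_getElem _ _ (by simpa using hi)]
        simp) v hv)⟩
  | c :: w => by
    obtain ⟨L, hL, hLv⟩ := exists_rows_prodw hg w
    refine ⟨mulL (G c) L, by rw [prodw_cons]; exact (hg c).mul hL, fun v hv => ?_⟩
    show _ = force (rowMul (G c) v) (evalRow G w)
    rw [force_eq, rowMul_mulL, hLv _ (rowMul_lt (isRows_iff.mp (hg c).1).2 v)]

theorem evalRow_of_eq_one {g : ℕ → Cfsg.Spor.J4} {G : ℕ → List ℕ} (hg : ∀ c, HasRows (g c) (G c))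
    {w : List ℕ} (h : prodw g w = 1) {v : ℕ} (hv : v < 2 ^ 112) : evalRow G w v = v := by
  obtain ⟨L, hL, hLv⟩ := exists_rows_prodw hg w
  rw [← hLv v hv]
  obtain ⟨O, hO, hOv⟩ := exists_rows_prodw hg []
  rw [h] at hL
  rw [prodw_nil] at hO
  rw [hL.unique hO, hOv v hv]
  rfl

theorem word_eq_evalRow {C : Comm} (hC : C.Good) {TY TYI Y YI im P : List ℕ} {G : ℕ → List ℕ}
    (hY : tabOK TY Y = true) (hYI : tabOK TYI YI = true) (h0 : G 0 = C.X) (h1 : G 1 = Y) (h2 : G 2 = YI)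
    (h3 : ∀ n, G (n + 3) = P) (hG : ∀ c, isRows 112 (G c) = true)
    (him : ∀ v < 2 ^ 112, rowMul P v = C.app im v) :
    ∀ w v, v < 2 ^ 112 → C.word TY TYI im w v = evalRow G w v
  | [], _, _ => rfl
  | c :: w, v, hv => by
    show force (C.letter TY TYI im c v) _ = force (rowMul (G c) v) (evalRow G w)
    rw [force_eq, force_eq]
    have e : C.letter TY TYI im c v = rowMul (G c) v := by
      match c with
      | 0 => rw [h0]; exact rowTab_eq _ _ hC.tX v
      | 1 => rw [h1]; exact rowTab_eq _ _ hY v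
      | 2 => rw [h2]; exact rowTab_eq _ _ hYI v
      | n + 3 => rw [h3]; exact (him v hv).symm
    rw [e]
    exact word_eq_evalRow hC hY hYI h0 h1 h2 h3 hG him w _ (rowMul_lt (isRows_iff.mp (hG c)).2 v)

/-- Only listed candidates remain. -/
theorem exists_cand {C : Comm} (hC : C.Good) {kills : List (ℕ × ℕ × ℕ)} {cands TY TYI Y YI : List ℕ}
    (hY : tabOK TY Y = true) (hYI : tabOK TYI YI = true)
    (hkills : ∀ e ∈ kills, C.killOK TY TYI e = true ∧ e.2.2 < 112 ∧ e.2.1 < tRels.length)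
    (hlist : ∀ z < 2 ^ (C.m0 + C.m1), C.listed kills cands z = true)
    {g : ℕ → Cfsg.Spor.J4} {G : ℕ → List ℕ} (hg : ∀ c, HasRows (g c) (G c))
    (h0 : G 0 = C.X) (h1 : G 1 = Y) (h2 : G 2 = YI) {P : List ℕ} (h3 : ∀ n, G (n + 3) = P)
    (hc : ∀ a, mulL P (C.rows a) = mulL (C.rows a) P) (hrel : ∀ w ∈ tRels, prodw g w = 1) :
    ∃ z ∈ cands, ∀ v < 2 ^ 112, rowMul P v = C.app (C.im z) v := by
  have hP : isRows 112 P = true := h3 0 ▸ (hg 3).1
  obtain ⟨z, hz, hz0, hPv⟩ := hC.exists_coord hP hc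
  have h := hlist z hz
  rw [Comm.listed, hz0, Nat.beq_refl, Bool.not_true, Bool.false_or, Bool.or_eq_true] at h
  rcases h with h | h
  · exfalso
    obtain ⟨e, he, hez⟩ := List.any_eq_true.mp h
    obtain ⟨hk, hi, hw⟩ := hkills e he
    have hzz := Nat.eq_of_beq_eq_true hez
    have hp : (2 : ℕ) ^ e.2.2 < 2 ^ 112 := Nat.pow_lt_pow_right (by norm_num) hi
    simp only [Comm.killOK, hzz, show Nat.pow 2 e.2.2 = 2 ^ e.2.2 from rfl,
      word_eq_evalRow hC hY hYI h0 h1 h2 h3 (fun c => (hg c).1) hPv _ _ hp] at hk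
    have hmem : tRels.getD e.2.1 [] ∈ tRels := by
      rw [List.getD_eq_getElem _ _ hw]
      exact List.getElem_mem hw
    rw [evalRow_of_eq_one hg (hrel _ hmem) hp, Nat.beq_refl] at hk
    exact Bool.noConfusion hk
  · obtain ⟨c, hc', hcz⟩ := List.any_eq_true.mp h
    exact ⟨c, hc', (Nat.eq_of_beq_eq_true hcz).symm ▸ hPv⟩

end CfsgLib.JankoFourOut
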