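import Cfsg.Agent.JankoFourOut.Comm0Def
import Cfsg.Agent.JankoFourOut.Elim
import Cfsg.Agent.JankoFourOut.DataT

/-!
Kernel checks on the commutant of the trio subgroup, case 0.
-/

set_option autoImplicit false

namespace CfsgLib.JankoFourOut

open CfsgLib.CosetEnum CfsgLib.JankoFourRep

theorem comm0_comb0 : ((List.range' 0 8).all fun i => comm0.combOK i) = true := by decide +kernel

theorem comm0_comb8 : ((List.range' 8 8).all fun i => comm0.combOK i) = true := by decide +kernel

theorem comm0_comb16 : ((List.range' 16 8).all fun i => comm0.combOK i) = true := by decide +kernel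

theorem comm0_comb24 : ((List.range' 24 8).all fun i => comm0.combOK i) = true := by decide +kernel

theorem comm0_comb32 : ((List.range' 32 8).all fun i => comm0.combOK i) = true := by decide +kernel

theorem comm0_comb40 : ((List.range' 40 8).all fun i => comm0.combOK i) = true := by decide +kernel

theorem comm0_comb48 : ((List.range' 48 8).all fun i => comm0.combOK i) = true := by decide +kernel

theorem comm0_comb56 : ((List.range' 56 8).all fun i => comm0.combOK i) = true := by decide +kernel

theorem comm0_comb64 : ((List.range' 64 8).all fun i => comm0.combOK i) = true := by decide +kernel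

theorem comm0_comb72 : ((List.range' 72 8).all fun i => comm0.combOK i) = true := by decide +kernel

theorem comm0_comb80 : ((List.range' 80 8).all fun i => comm0.combOK i) = true := by decide +kernel

theorem comm0_comb88 : ((List.range' 88 8).all fun i => comm0.combOK i) = true := by decide +kernel

theorem comm0_comb96 : ((List.range' 96 8).all fun i => comm0.combOK i) = true := by decide +kernel

theorem comm0_comb104 : ((List.range' 104 8).all fun i => comm0.combOK i) = true := by decide +kernel

theorem comm0_col0 : comm0.defects (comm0.im (Nat.pow 2 0)) comm0.pos = comm0.cols.getD 0 0 := by decide +kernel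

theorem comm0_col1 : comm0.defects (comm0.im (Nat.pow 2 1)) comm0.pos = comm0.cols.getD 1 0 := by decide +kernel

theorem comm0_col2 : comm0.defects (comm0.im (Nat.pow 2 2)) comm0.pos = comm0.cols.getD 2 0 := by decide +kernel

theorem comm0_col3 : comm0.defects (comm0.im (Nat.pow 2 3)) comm0.pos = comm0.cols.getD 3 0 := by decide +kernel

theorem comm0_col4 : comm0.defects (comm0.im (Nat.pow 2 4)) comm0.pos = comm0.cols.getD 4 0 := by decide +kernel

theorem comm0_col5 : comm0.defects (comm0.im (Nat.pow 2 5)) comm0.pos = comm0.cols.getD 5 0 := by decide +kernel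

theorem comm0_col6 : comm0.defects (comm0.im (Nat.pow 2 6)) comm0.pos = comm0.cols.getD 6 0 := by decide +kernel

theorem comm0_col7 : comm0.defects (comm0.im (Nat.pow 2 7)) comm0.pos = comm0.cols.getD 7 0 := by decide +kernel

theorem comm0_col8 : comm0.defects (comm0.im (Nat.pow 2 8)) comm0.pos = comm0.cols.getD 8 0 := by decide +kernel

theorem comm0_col9 : comm0.defects (comm0.im (Nat.pow 2 9)) comm0.pos = comm0.cols.getD 9 0 := by decide +kernel

theorem comm0_col10 : comm0.defects (comm0.im (Nat.pow 2 10)) comm0.pos = comm0.cols.getD 10 0 := by decide +kernel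

theorem comm0_col11 : comm0.defects (comm0.im (Nat.pow 2 11)) comm0.pos = comm0.cols.getD 11 0 := by decide +kernel

theorem comm0_col12 : comm0.defects (comm0.im (Nat.pow 2 12)) comm0.pos = comm0.cols.getD 12 0 := by decide +kernel

theorem comm0_col13 : comm0.defects (comm0.im (Nat.pow 2 13)) comm0.pos = comm0.cols.getD 13 0 := by decide +kernel

theorem comm0_kill0 : ((List.range' 0 8).all fun j => comm0.killOK c0TabY c0TabYInv (c0Kills.getD j (0, 0, 0))) = true := by decide +kernel

theorem comm0_kill8 : ((List.range' 8 8).all fun j => comm0.killOK c0TabY c0TabYInv (c0Kills.getD j (0, 0, 0))) = true := by decide +kernel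

theorem comm0_kill16 : ((List.range' 16 8).all fun j => comm0.killOK c0TabY c0TabYInv (c0Kills.getD j (0, 0, 0))) = true := by decide +kernel

theorem comm0_kill24 : ((List.range' 24 8).all fun j => comm0.killOK c0TabY c0TabYInv (c0Kills.getD j (0, 0, 0))) = true := by decide +kernel

theorem comm0_kill32 : ((List.range' 32 8).all fun j => comm0.killOK c0TabY c0TabYInv (c0Kills.getD j (0, 0, 0))) = true := by decide +kernel

theorem comm0_kill40 : ((List.range' 40 8).all fun j => comm0.killOK c0TabY c0TabYInv (c0Kills.getD j (0, 0, 0))) = true := by decide +kernel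

theorem comm0_kill48 : ((List.range' 48 8).all fun j => comm0.killOK c0TabY c0TabYInv (c0Kills.getD j (0, 0, 0))) = true := by decide +kernel

theorem comm0_kill56 : ((List.range' 56 8).all fun j => comm0.killOK c0TabY c0TabYInv (c0Kills.getD j (0, 0, 0))) = true := by decide +kernel

theorem comm0_kill64 : ((List.range' 64 8).all fun j => comm0.killOK c0TabY c0TabYInv (c0Kills.getD j (0, 0, 0))) = true := by decide +kernel

theorem comm0_kill72 : ((List.range' 72 8).all fun j => comm0.killOK c0TabY c0TabYInv (c0Kills.getD j (0, 0, 0))) = true := by decide +kernel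

theorem comm0_kill80 : ((List.range' 80 8).all fun j => comm0.killOK c0TabY c0TabYInv (c0Kills.getD j (0, 0, 0))) = true := by decide +kernel

theorem comm0_kill88 : ((List.range' 88 8).all fun j => comm0.killOK c0TabY c0TabYInv (c0Kills.getD j (0, 0, 0))) = true := by decide +kernel

theorem comm0_kill96 : ((List.range' 96 8).all fun j => comm0.killOK c0TabY c0TabYInv (c0Kills.getD j (0, 0, 0))) = true := by decide +kernel

theorem comm0_kill104 : ((List.range' 104 8).all fun j => comm0.killOK c0TabY c0TabYInv (c0Kills.getD j (0, 0, 0))) = true := by decide +kernel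

theorem comm0_kill112 : ((List.range' 112 8).all fun j => comm0.killOK c0TabY c0TabYInv (c0Kills.getD j (0, 0, 0))) = true := by decide +kernel

theorem comm0_kill120 : ((List.range' 120 6).all fun j => comm0.killOK c0TabY c0TabYInv (c0Kills.getD j (0, 0, 0))) = true := by decide +kernel

theorem comm0_listed0 : ((List.range' 0 512).all fun z => comm0.listed c0Kills c0Cands z) = true := by decide +kernel

theorem comm0_listed512 : ((List.range' 512 512).all fun z => comm0.listed c0Kills c0Cands z) = true := by decide +kernel

theorem comm0_listed1024 : ((List.range' 1024 512).all fun z => comm0.listed c0Kills c0Cands z) = true := by decide +kernel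

theorem comm0_listed1536 : ((List.range' 1536 512).all fun z => comm0.listed c0Kills c0Cands z) = true := by decide +kernel

theorem comm0_listed2048 : ((List.range' 2048 512).all fun z => comm0.listed c0Kills c0Cands z) = true := by decide +kernel

theorem comm0_listed2560 : ((List.range' 2560 512).all fun z => comm0.listed c0Kills c0Cands z) = true := by decide +kernel

theorem comm0_listed3072 : ((List.range' 3072 512).all fun z => comm0.listed c0Kills c0Cands z) = true := by decide +kernel

theorem comm0_listed3584 : ((List.range' 3584 512).all fun z => comm0.listed c0Kills c0Cands z) = true := by decide +kernel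

theorem comm0_listed4096 : ((List.range' 4096 512).all fun z => comm0.listed c0Kills c0Cands z) = true := by decide +kernel

theorem comm0_listed4608 : ((List.range' 4608 512).all fun z => comm0.listed c0Kills c0Cands z) = true := by decide +kernel

theorem comm0_listed5120 : ((List.range' 5120 512).all fun z => comm0.listed c0Kills c0Cands z) = true := by decide +kernel

theorem comm0_listed5632 : ((List.range' 5632 512).all fun z => comm0.listed c0Kills c0Cands z) = true := by decide +kernel

theorem comm0_listed6144 : ((List.range' 6144 512).all fun z => comm0.listed c0Kills c0Cands z) = true := by decide +kernel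

theorem comm0_listed6656 : ((List.range' 6656 512).all fun z => comm0.listed c0Kills c0Cands z) = true := by decide +kernel

theorem comm0_listed7168 : ((List.range' 7168 512).all fun z => comm0.listed c0Kills c0Cands z) = true := by decide +kernel

theorem comm0_listed7680 : ((List.range' 7680 512).all fun z => comm0.listed c0Kills c0Cands z) = true := by decide +kernel

theorem comm0_listed8192 : ((List.range' 8192 512).all fun z => comm0.listed c0Kills c0Cands z) = true := by decide +kernel

theorem comm0_listed8704 : ((List.range' 8704 512).all fun z => comm0.listed c0Kills c0Cands z) = true := by decide +kernel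

theorem comm0_listed9216 : ((List.range' 9216 512).all fun z => comm0.listed c0Kills c0Cands z) = true := by decide +kernel

theorem comm0_listed9728 : ((List.range' 9728 512).all fun z => comm0.listed c0Kills c0Cands z) = true := by decide +kernel

theorem comm0_listed10240 : ((List.range' 10240 512).all fun z => comm0.listed c0Kills c0Cands z) = true := by decide +kernel

theorem comm0_listed10752 : ((List.range' 10752 512).all fun z => comm0.listed c0Kills c0Cands z) = true := by decide +kernel

theorem comm0_listed11264 : ((List.range' 11264 512).all fun z => comm0.listed c0Kills c0Cands z) = true := by decide +kernel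

theorem comm0_listed11776 : ((List.range' 11776 512).all fun z => comm0.listed c0Kills c0Cands z) = true := by decide +kernel

theorem comm0_listed12288 : ((List.range' 12288 512).all fun z => comm0.listed c0Kills c0Cands z) = true := by decide +kernel

theorem comm0_listed12800 : ((List.range' 12800 512).all fun z => comm0.listed c0Kills c0Cands z) = true := by decide +kernel

theorem comm0_listed13312 : ((List.range' 13312 512).all fun z => comm0.listed c0Kills c0Cands z) = true := by decide +kernel

theorem comm0_listed13824 : ((List.range' 13824 512).all fun z => comm0.listed c0Kills c0Cands z) = true := by decide +kernel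

theorem comm0_listed14336 : ((List.range' 14336 512).all fun z => comm0.listed c0Kills c0Cands z) = true := by decide +kernel

theorem comm0_listed14848 : ((List.range' 14848 512).all fun z => comm0.listed c0Kills c0Cands z) = true := by decide +kernel

theorem comm0_listed15360 : ((List.range' 15360 512).all fun z => comm0.listed c0Kills c0Cands z) = true := by decide +kernel

theorem comm0_listed15872 : ((List.range' 15872 512).all fun z => comm0.listed c0Kills c0Cands z) = true := by decide +kernel

theorem comm0_good : comm0.Good := by
  refine ⟨by decide +kernel, by decide +kernel, by decide +kernel, by decide +kernel, by decide +kernel,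
    by decide +kernel, by decide +kernel, by decide +kernel, ?_, ?_⟩
  · intro i hi
    have h : ∀ {a n : ℕ}, ((List.range' a n).all fun i => comm0.combOK i) = true → a ≤ i → i < a + n →
        comm0.combOK i = true := fun hh h1 h2 => List.all_eq_true.mp hh i (List.mem_range'_1.mpr ⟨h1, h2⟩)
    rcases Nat.lt_or_ge i 8 with h' | h'
    · exact h comm0_comb0 (by omega) (by omega)
    rcases Nat.lt_or_ge i 16 with h' | h'
    · exact h comm0_comb8 (by omega) (by omega)
    rcases Nat.lt_or_ge i 24 with h' | h'
    · exact h comm0_comb16 (by omega) (by omega)
    rcases Nat.lt_or_ge i 32 with h' | h'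
    · exact h comm0_comb24 (by omega) (by omega)
    rcases Nat.lt_or_ge i 40 with h' | h'
    · exact h comm0_comb32 (by omega) (by omega)
    rcases Nat.lt_or_ge i 48 with h' | h'
    · exact h comm0_comb40 (by omega) (by omega)
    rcases Nat.lt_or_ge i 56 with h' | h'
    · exact h comm0_comb48 (by omega) (by omega)
    rcases Nat.lt_or_ge i 64 with h' | h'
    · exact h comm0_comb56 (by omega) (by omega)
    rcases Nat.lt_or_ge i 72 with h' | h'
    · exact h comm0_comb64 (by omega) (by omega)
    rcases Nat.lt_or_ge i 80 with h' | h'
    · exact h comm0_comb72 (by omega) (by omega)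
    rcases Nat.lt_or_ge i 88 with h' | h'
    · exact h comm0_comb80 (by omega) (by omega)
    rcases Nat.lt_or_ge i 96 with h' | h'
    · exact h comm0_comb88 (by omega) (by omega)
    rcases Nat.lt_or_ge i 104 with h' | h'
    · exact h comm0_comb96 (by omega) (by omega)
    exact h comm0_comb104 (by omega) (by omega)
  · intro k hk
    replace hk : k < 14 := hk
    interval_cases k
    · exact comm0_col0
    · exact comm0_col1
    · exact comm0_col2
    · exact comm0_col3
    · exact comm0_col4
    · exact comm0_col5
    · exact comm0_col6
    · exact comm0_col7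
    · exact comm0_col8
    · exact comm0_col9
    · exact comm0_col10
    · exact comm0_col11
    · exact comm0_col12
    · exact comm0_col13

theorem comm0_kills : ∀ e ∈ c0Kills,
    comm0.killOK c0TabY c0TabYInv e = true ∧ e.2.2 < 112 ∧ e.2.1 < tRels.length := by
  have hb : c0Kills.all (fun e => Nat.blt e.2.2 112 && Nat.blt e.2.1 tRels.length) = true := by
    decide +kernel
  have hlen : c0Kills.length = 126 := by decide +kernel
  intro e he
  have hbe := List.all_eq_true.mp hb e he
  rw [Bool.and_eq_true] at hbe
  refine ⟨?_, Nat.blt_eq.mp hbe.1, Nat.blt_eq.mp hbe.2⟩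
  obtain ⟨j, hj, rfl⟩ := List.getElem_of_mem he
  rw [← List.getD_eq_getElem _ (0, 0, 0) hj]
  rw [hlen] at hj
  have h : ∀ {a n : ℕ}, ((List.range' a n).all fun j =>
      comm0.killOK c0TabY c0TabYInv (c0Kills.getD j (0, 0, 0))) = true → a ≤ j → j < a + n →
      comm0.killOK c0TabY c0TabYInv (c0Kills.getD j (0, 0, 0)) = true :=
    fun hh h1 h2 => List.all_eq_true.mp hh j (List.mem_range'_1.mpr ⟨h1, h2⟩)
  rcases Nat.lt_or_ge j 8 with h' | h'
  · exact h comm0_kill0 (by omega) (by omega)
  rcases Nat.lt_or_ge j 16 with h' | h'
  · exact h comm0_kill8 (by omega) (by omega)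
  rcases Nat.lt_or_ge j 24 with h' | h'
  · exact h comm0_kill16 (by omega) (by omega)
  rcases Nat.lt_or_ge j 32 with h' | h'
  · exact h comm0_kill24 (by omega) (by omega)
  rcases Nat.lt_or_ge j 40 with h' | h'
  · exact h comm0_kill32 (by omega) (by omega)
  rcases Nat.lt_or_ge j 48 with h' | h'
  · exact h comm0_kill40 (by omega) (by omega)
  rcases Nat.lt_or_ge j 56 with h' | h'
  · exact h comm0_kill48 (by omega) (by omega)
  rcases Nat.lt_or_ge j 64 with h' | h'
  · exact h comm0_kill56 (by omega) (by omega)
  rcases Nat.lt_or_ge j 72 with h' | h'
  · exact h comm0_kill64 (by omega) (by omega)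
  rcases Nat.lt_or_ge j 80 with h' | h'
  · exact h comm0_kill72 (by omega) (by omega)
  rcases Nat.lt_or_ge j 88 with h' | h'
  · exact h comm0_kill80 (by omega) (by omega)
  rcases Nat.lt_or_ge j 96 with h' | h'
  · exact h comm0_kill88 (by omega) (by omega)
  rcases Nat.lt_or_ge j 104 with h' | h'
  · exact h comm0_kill96 (by omega) (by omega)
  rcases Nat.lt_or_ge j 112 with h' | h'
  · exact h comm0_kill104 (by omega) (by omega)
  rcases Nat.lt_or_ge j 120 with h' | h'
  · exact h comm0_kill112 (by omega) (by omega)
  exact h comm0_kill120 (by omega) (by omega)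

theorem comm0_listed : ∀ z < 2 ^ (comm0.m0 + comm0.m1), comm0.listed c0Kills c0Cands z = true := by
  intro z hz
  replace hz : z < 16384 := hz
  have h : ∀ {a : ℕ}, ((List.range' a 512).all fun z => comm0.listed c0Kills c0Cands z) = true →
      a ≤ z → z < a + 512 → comm0.listed c0Kills c0Cands z = true :=
    fun hh h1 h2 => List.all_eq_true.mp hh z (List.mem_range'_1.mpr ⟨h1, h2⟩)
  rcases Nat.lt_or_ge z 512 with h' | h'
  · exact h comm0_listed0 (by omega) (by omega)
  rcases Nat.lt_or_ge z 1024 with h' | h'
  · exact h comm0_listed512 (by omega) (by omega)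
  rcases Nat.lt_or_ge z 1536 with h' | h'
  · exact h comm0_listed1024 (by omega) (by omega)
  rcases Nat.lt_or_ge z 2048 with h' | h'
  · exact h comm0_listed1536 (by omega) (by omega)
  rcases Nat.lt_or_ge z 2560 with h' | h'
  · exact h comm0_listed2048 (by omega) (by omega)
  rcases Nat.lt_or_ge z 3072 with h' | h'
  · exact h comm0_listed2560 (by omega) (by omega)
  rcases Nat.lt_or_ge z 3584 with h' | h'
  · exact h comm0_listed3072 (by omega) (by omega)
  rcases Nat.lt_or_ge z 4096 with h' | h'
  · exact h comm0_listed3584 (by omega) (by omega)
  rcases Nat.lt_or_ge z 4608 with h' | h'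
  · exact h comm0_listed4096 (by omega) (by omega)
  rcases Nat.lt_or_ge z 5120 with h' | h'
  · exact h comm0_listed4608 (by omega) (by omega)
  rcases Nat.lt_or_ge z 5632 with h' | h'
  · exact h comm0_listed5120 (by omega) (by omega)
  rcases Nat.lt_or_ge z 6144 with h' | h'
  · exact h comm0_listed5632 (by omega) (by omega)
  rcases Nat.lt_or_ge z 6656 with h' | h'
  · exact h comm0_listed6144 (by omega) (by omega)
  rcases Nat.lt_or_ge z 7168 with h' | h'
  · exact h comm0_listed6656 (by omega) (by omega)
  rcases Nat.lt_or_ge z 7680 with h' | h'
  · exact h comm0_listed7168 (by omega) (by omega)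
  rcases Nat.lt_or_ge z 8192 with h' | h'
  · exact h comm0_listed7680 (by omega) (by omega)
  rcases Nat.lt_or_ge z 8704 with h' | h'
  · exact h comm0_listed8192 (by omega) (by omega)
  rcases Nat.lt_or_ge z 9216 with h' | h'
  · exact h comm0_listed8704 (by omega) (by omega)
  rcases Nat.lt_or_ge z 9728 with h' | h'
  · exact h comm0_listed9216 (by omega) (by omega)
  rcases Nat.lt_or_ge z 10240 with h' | h'
  · exact h comm0_listed9728 (by omega) (by omega)
  rcases Nat.lt_or_ge z 10752 with h' | h'
  · exact h comm0_listed10240 (by omega) (by omega)
  rcases Nat.lt_or_ge z 11264 with h' | h'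
  · exact h comm0_listed10752 (by omega) (by omega)
  rcases Nat.lt_or_ge z 11776 with h' | h'
  · exact h comm0_listed11264 (by omega) (by omega)
  rcases Nat.lt_or_ge z 12288 with h' | h'
  · exact h comm0_listed11776 (by omega) (by omega)
  rcases Nat.lt_or_ge z 12800 with h' | h'
  · exact h comm0_listed12288 (by omega) (by omega)
  rcases Nat.lt_or_ge z 13312 with h' | h'
  · exact h comm0_listed12800 (by omega) (by omega)
  rcases Nat.lt_or_ge z 13824 with h' | h'
  · exact h comm0_listed13312 (by omega) (by omega)
  rcases Nat.lt_or_ge z 14336 with h' | h'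
  · exact h comm0_listed13824 (by omega) (by omega)
  rcases Nat.lt_or_ge z 14848 with h' | h'
  · exact h comm0_listed14336 (by omega) (by omega)
  rcases Nat.lt_or_ge z 15360 with h' | h'
  · exact h comm0_listed14848 (by omega) (by omega)
  rcases Nat.lt_or_ge z 15872 with h' | h'
  · exact h comm0_listed15360 (by omega) (by omega)
  exact h comm0_listed15872 (by omega) (by omega)

end CfsgLib.JankoFourOut
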