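import Cfsg.Agent.JankoFourOut.Spin
import Cfsg.Agent.JankoFourOut.DataR
import Cfsg.Agent.JankoFourOut.DataC0
import Cfsg.Agent.JankoFourOut.DataT0

/-!
The commutant of the trio subgroup, case 0.
-/

set_option autoImplicit false

namespace CfsgLib.JankoFourOut

/-- The data. -/
def comm0 : Comm where
  X := c0X
  Q := c0Q
  TX := c0TabX
  TQ := c0TabQ
  seed0 := c0Seed0
  seed1 := c0Seed1
  terms0 := c0Seed0Terms
  terms1 := c0Seed1Terms
  kill0 := c0Seed0Kill
  kill1 := c0Seed1Kill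
  ker0 := c0Seed0Ker
  ker1 := c0Seed1Ker
  inv0 := c0Seed0Inv
  inv1 := c0Seed1Inv
  coef0 := c0Seed0Coef
  coef1 := c0Seed1Coef
  m0 := 7
  m1 := 7
  tree := c0Tree
  comb := c0Comb
  pos := c0Pos
  cols := c0Cols

end CfsgLib.JankoFourOut
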