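import Cfsg.Agent.JankoFourOut.Comm1Def
import Cfsg.Agent.JankoFourOut.Elim
import Cfsg.Agent.JankoFourOut.DataT

/-!
Kernel checks on the commutant of the trio subgroup, case 1.
-/

set_option autoImplicit false

namespace CfsgLib.JankoFourOut

open CfsgLib.CosetEnum CfsgLib.JankoFourRep

theorem comm1_comb0 : ((List.range' 0 8).all fun i => comm1.combOK i) = true := by decide +kernel

theorem comm1_comb8 : ((List.range' 8 8).all fun i => comm1.combOK i) = true := by decide +kernel

theorem comm1_comb16 : ((List.range' 16 8).all fun i => comm1.combOK i) = true := by decide +kernel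

theorem comm1_comb24 : ((List.range' 24 8).all fun i => comm1.combOK i) = true := by decide +kernel

theorem comm1_comb32 : ((List.range' 32 8).all fun i => comm1.combOK i) = true := by decide +kernel

theorem comm1_comb40 : ((List.range' 40 8).all fun i => comm1.combOK i) = true := by decide +kernel

theorem comm1_comb48 : ((List.range' 48 8).all fun i => comm1.combOK i) = true := by decide +kernel

theorem comm1_comb56 : ((List.range' 56 8).all fun i => comm1.combOK i) = true := by decide +kernel

theorem comm1_comb64 : ((List.range' 64 8).all fun i => comm1.combOK i) = true := by decide +kernel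

theorem comm1_comb72 : ((List.range' 72 8).all fun i => comm1.combOK i) = true := by decide +kernel

theorem comm1_comb80 : ((List.range' 80 8).all fun i => comm1.combOK i) = true := by decide +kernel

theorem comm1_comb88 : ((List.range' 88 8).all fun i => comm1.combOK i) = true := by decide +kernel

theorem comm1_comb96 : ((List.range' 96 8).all fun i => comm1.combOK i) = true := by decide +kernel

theorem comm1_comb104 : ((List.range' 104 8).all fun i => comm1.combOK i) = true := by decide +kernel

theorem comm1_col0 : comm1.defects (comm1.im (Nat.pow 2 0)) comm1.pos = comm1.cols.getD 0 0 := by decide +kernel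

theorem comm1_col1 : comm1.defects (comm1.im (Nat.pow 2 1)) comm1.pos = comm1.cols.getD 1 0 := by decide +kernel

theorem comm1_col2 : comm1.defects (comm1.im (Nat.pow 2 2)) comm1.pos = comm1.cols.getD 2 0 := by decide +kernel

theorem comm1_col3 : comm1.defects (comm1.im (Nat.pow 2 3)) comm1.pos = comm1.cols.getD 3 0 := by decide +kernel

theorem comm1_col4 : comm1.defects (comm1.im (Nat.pow 2 4)) comm1.pos = comm1.cols.getD 4 0 := by decide +kernel

theorem comm1_col5 : comm1.defects (comm1.im (Nat.pow 2 5)) comm1.pos = comm1.cols.getD 5 0 := by decide +kernel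

theorem comm1_col6 : comm1.defects (comm1.im (Nat.pow 2 6)) comm1.pos = comm1.cols.getD 6 0 := by decide +kernel

theorem comm1_col7 : comm1.defects (comm1.im (Nat.pow 2 7)) comm1.pos = comm1.cols.getD 7 0 := by decide +kernel

theorem comm1_col8 : comm1.defects (comm1.im (Nat.pow 2 8)) comm1.pos = comm1.cols.getD 8 0 := by decide +kernel

theorem comm1_col9 : comm1.defects (comm1.im (Nat.pow 2 9)) comm1.pos = comm1.cols.getD 9 0 := by decide +kernel

theorem comm1_col10 : comm1.defects (comm1.im (Nat.pow 2 10)) comm1.pos = comm1.cols.getD 10 0 := by decide +kernel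

theorem comm1_kill0 : ((List.range' 0 8).all fun j => comm1.killOK c1TabY c1TabYInv (c1Kills.getD j (0, 0, 0))) = true := by decide +kernel

theorem comm1_kill8 : ((List.range' 8 8).all fun j => comm1.killOK c1TabY c1TabYInv (c1Kills.getD j (0, 0, 0))) = true := by decide +kernel

theorem comm1_kill16 : ((List.range' 16 8).all fun j => comm1.killOK c1TabY c1TabYInv (c1Kills.getD j (0, 0, 0))) = true := by decide +kernel

theorem comm1_kill24 : ((List.range' 24 8).all fun j => comm1.killOK c1TabY c1TabYInv (c1Kills.getD j (0, 0, 0))) = true := by decide +kernel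

theorem comm1_kill32 : ((List.range' 32 8).all fun j => comm1.killOK c1TabY c1TabYInv (c1Kills.getD j (0, 0, 0))) = true := by decide +kernel

theorem comm1_kill40 : ((List.range' 40 8).all fun j => comm1.killOK c1TabY c1TabYInv (c1Kills.getD j (0, 0, 0))) = true := by decide +kernel

theorem comm1_kill48 : ((List.range' 48 8).all fun j => comm1.killOK c1TabY c1TabYInv (c1Kills.getD j (0, 0, 0))) = true := by decide +kernel

theorem comm1_kill56 : ((List.range' 56 8).all fun j => comm1.killOK c1TabY c1TabYInv (c1Kills.getD j (0, 0, 0))) = true := by decide +kernel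

theorem comm1_kill64 : ((List.range' 64 8).all fun j => comm1.killOK c1TabY c1TabYInv (c1Kills.getD j (0, 0, 0))) = true := by decide +kernel

theorem comm1_kill72 : ((List.range' 72 8).all fun j => comm1.killOK c1TabY c1TabYInv (c1Kills.getD j (0, 0, 0))) = true := by decide +kernel

theorem comm1_kill80 : ((List.range' 80 8).all fun j => comm1.killOK c1TabY c1TabYInv (c1Kills.getD j (0, 0, 0))) = true := by decide +kernel

theorem comm1_kill88 : ((List.range' 88 8).all fun j => comm1.killOK c1TabY c1TabYInv (c1Kills.getD j (0, 0, 0))) = true := by decide +kernel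

theorem comm1_kill96 : ((List.range' 96 8).all fun j => comm1.killOK c1TabY c1TabYInv (c1Kills.getD j (0, 0, 0))) = true := by decide +kernel

theorem comm1_kill104 : ((List.range' 104 8).all fun j => comm1.killOK c1TabY c1TabYInv (c1Kills.getD j (0, 0, 0))) = true := by decide +kernel

theorem comm1_kill112 : ((List.range' 112 8).all fun j => comm1.killOK c1TabY c1TabYInv (c1Kills.getD j (0, 0, 0))) = true := by decide +kernel

theorem comm1_kill120 : ((List.range' 120 8).all fun j => comm1.killOK c1TabY c1TabYInv (c1Kills.getD j (0, 0, 0))) = true := by decide +kernel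

theorem comm1_listed0 : ((List.range' 0 512).all fun z => comm1.listed c1Kills c1Cands z) = true := by decide +kernel

theorem comm1_listed512 : ((List.range' 512 512).all fun z => comm1.listed c1Kills c1Cands z) = true := by decide +kernel

theorem comm1_listed1024 : ((List.range' 1024 512).all fun z => comm1.listed c1Kills c1Cands z) = true := by decide +kernel

theorem comm1_listed1536 : ((List.range' 1536 512).all fun z => comm1.listed c1Kills c1Cands z) = true := by decide +kernel

theorem comm1_good : comm1.Good := by
  refine ⟨by decide +kernel, by decide +kernel, by decide +kernel, by decide +kernel, by decide +kernel,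
    by decide +kernel, by decide +kernel, by decide +kernel, ?_, ?_⟩
  · intro i hi
    have h : ∀ {a n : ℕ}, ((List.range' a n).all fun i => comm1.combOK i) = true → a ≤ i → i < a + n →
        comm1.combOK i = true := fun hh h1 h2 => List.all_eq_true.mp hh i (List.mem_range'_1.mpr ⟨h1, h2⟩)
    rcases Nat.lt_or_ge i 8 with h' | h'
    · exact h comm1_comb0 (by omega) (by omega)
    rcases Nat.lt_or_ge i 16 with h' | h'
    · exact h comm1_comb8 (by omega) (by omega)
    rcases Nat.lt_or_ge i 24 with h' | h'
    · exact h comm1_comb16 (by omega) (by omega)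
    rcases Nat.lt_or_ge i 32 with h' | h'
    · exact h comm1_comb24 (by omega) (by omega)
    rcases Nat.lt_or_ge i 40 with h' | h'
    · exact h comm1_comb32 (by omega) (by omega)
    rcases Nat.lt_or_ge i 48 with h' | h'
    · exact h comm1_comb40 (by omega) (by omega)
    rcases Nat.lt_or_ge i 56 with h' | h'
    · exact h comm1_comb48 (by omega) (by omega)
    rcases Nat.lt_or_ge i 64 with h' | h'
    · exact h comm1_comb56 (by omega) (by omega)
    rcases Nat.lt_or_ge i 72 with h' | h'
    · exact h comm1_comb64 (by omega) (by omega)
    rcases Nat.lt_or_ge i 80 with h' | h'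
    · exact h comm1_comb72 (by omega) (by omega)
    rcases Nat.lt_or_ge i 88 with h' | h'
    · exact h comm1_comb80 (by omega) (by omega)
    rcases Nat.lt_or_ge i 96 with h' | h'
    · exact h comm1_comb88 (by omega) (by omega)
    rcases Nat.lt_or_ge i 104 with h' | h'
    · exact h comm1_comb96 (by omega) (by omega)
    exact h comm1_comb104 (by omega) (by omega)
  · intro k hk
    replace hk : k < 11 := hk
    interval_cases k
    · exact comm1_col0
    · exact comm1_col1
    · exact comm1_col2
    · exact comm1_col3
    · exact comm1_col4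
    · exact comm1_col5
    · exact comm1_col6
    · exact comm1_col7
    · exact comm1_col8
    · exact comm1_col9
    · exact comm1_col10

theorem comm1_kills : ∀ e ∈ c1Kills,
    comm1.killOK c1TabY c1TabYInv e = true ∧ e.2.2 < 112 ∧ e.2.1 < tRels.length := by
  have hb : c1Kills.all (fun e => Nat.blt e.2.2 112 && Nat.blt e.2.1 tRels.length) = true := by
    decide +kernel
  have hlen : c1Kills.length = 128 := by decide +kernel
  intro e he
  have hbe := List.all_eq_true.mp hb e he
  rw [Bool.and_eq_true] at hbe
  refine ⟨?_, Nat.blt_eq.mp hbe.1, Nat.blt_eq.mp hbe.2⟩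
  obtain ⟨j, hj, rfl⟩ := List.getElem_of_mem he
  rw [← List.getD_eq_getElem _ (0, 0, 0) hj]
  rw [hlen] at hj
  have h : ∀ {a n : ℕ}, ((List.range' a n).all fun j =>
      comm1.killOK c1TabY c1TabYInv (c1Kills.getD j (0, 0, 0))) = true → a ≤ j → j < a + n →
      comm1.killOK c1TabY c1TabYInv (c1Kills.getD j (0, 0, 0)) = true :=
    fun hh h1 h2 => List.all_eq_true.mp hh j (List.mem_range'_1.mpr ⟨h1, h2⟩)
  rcases Nat.lt_or_ge j 8 with h' | h'
  · exact h comm1_kill0 (by omega) (by omega)
  rcases Nat.lt_or_ge j 16 with h' | h'
  · exact h comm1_kill8 (by omega) (by omega)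
  rcases Nat.lt_or_ge j 24 with h' | h'
  · exact h comm1_kill16 (by omega) (by omega)
  rcases Nat.lt_or_ge j 32 with h' | h'
  · exact h comm1_kill24 (by omega) (by omega)
  rcases Nat.lt_or_ge j 40 with h' | h'
  · exact h comm1_kill32 (by omega) (by omega)
  rcases Nat.lt_or_ge j 48 with h' | h'
  · exact h comm1_kill40 (by omega) (by omega)
  rcases Nat.lt_or_ge j 56 with h' | h'
  · exact h comm1_kill48 (by omega) (by omega)
  rcases Nat.lt_or_ge j 64 with h' | h'
  · exact h comm1_kill56 (by omega) (by omega)
  rcases Nat.lt_or_ge j 72 with h' | h'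
  · exact h comm1_kill64 (by omega) (by omega)
  rcases Nat.lt_or_ge j 80 with h' | h'
  · exact h comm1_kill72 (by omega) (by omega)
  rcases Nat.lt_or_ge j 88 with h' | h'
  · exact h comm1_kill80 (by omega) (by omega)
  rcases Nat.lt_or_ge j 96 with h' | h'
  · exact h comm1_kill88 (by omega) (by omega)
  rcases Nat.lt_or_ge j 104 with h' | h'
  · exact h comm1_kill96 (by omega) (by omega)
  rcases Nat.lt_or_ge j 112 with h' | h'
  · exact h comm1_kill104 (by omega) (by omega)
  rcases Nat.lt_or_ge j 120 with h' | h'
  · exact h comm1_kill112 (by omega) (by omega)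
  exact h comm1_kill120 (by omega) (by omega)

theorem comm1_listed : ∀ z < 2 ^ (comm1.m0 + comm1.m1), comm1.listed c1Kills c1Cands z = true := by
  intro z hz
  replace hz : z < 2048 := hz
  have h : ∀ {a : ℕ}, ((List.range' a 512).all fun z => comm1.listed c1Kills c1Cands z) = true →
      a ≤ z → z < a + 512 → comm1.listed c1Kills c1Cands z = true :=
    fun hh h1 h2 => List.all_eq_true.mp hh z (List.mem_range'_1.mpr ⟨h1, h2⟩)
  rcases Nat.lt_or_ge z 512 with h' | h'
  · exact h comm1_listed0 (by omega) (by omega)
  rcases Nat.lt_or_ge z 1024 with h' | h'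
  · exact h comm1_listed512 (by omega) (by omega)
  rcases Nat.lt_or_ge z 1536 with h' | h'
  · exact h comm1_listed1024 (by omega) (by omega)
  exact h comm1_listed1536 (by omega) (by omega)

end CfsgLib.JankoFourOut
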