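import Cfsg.Agent.JankoFourOut.Spin
import Cfsg.Agent.JankoFourOut.DataR
import Cfsg.Agent.JankoFourOut.DataC1
import Cfsg.Agent.JankoFourOut.DataT1

/-!
The commutant of the trio subgroup, case 1.
-/

set_option autoImplicit false

namespace CfsgLib.JankoFourOut

/-- The data. -/
def comm1 : Comm where
  X := c1X
  Q := c1Q
  TX := c1TabX
  TQ := c1TabQ
  seed0 := c1Seed0
  seed1 := c1Seed1
  terms0 := c1Seed0Terms
  terms1 := c1Seed1Terms
  kill0 := c1Seed0Kill
  kill1 := c1Seed1Kill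
  ker0 := c1Seed0Ker
  ker1 := c1Seed1Ker
  inv0 := c1Seed0Inv
  inv1 := c1Seed1Inv
  coef0 := c1Seed0Coef
  coef1 := c1Seed1Coef
  m0 := 7
  m1 := 4
  tree := c1Tree
  comb := c1Comb
  pos := c1Pos
  cols := c1Cols

end CfsgLib.JankoFourOut
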