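import Mathlib.GroupTheory.Sylow
import Mathlib.GroupTheory.SpecificGroups.Cyclic
import Mathlib.LinearAlgebra.Matrix.GeneralLinearGroup.Card
import Cfsg.Agent.JankoFourOut.Linear

/-!
Counting Sylow 23-subgroups and matrices of size eleven over the field with two elements.
-/

set_option autoImplicit false
set_option linter.style.haveILetI false

namespace CfsgLib.JankoFourOut

open CfsgLib.JankoFourRep

/-- An element of order 23 whose centraliser has exponent dividing 2047. -/
theorem sylow_count {K : Type*} [Group K] [Finite K] {p : K} (hp : orderOf p = 23)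
    (hg : Nat.gcd 2047 (Nat.card K) ∣ 23) (h2 : ¬ 23 ^ 2 ∣ Nat.card K)
    (hC : ∀ c : K, Commute c p → c ^ 2047 = 1) :
    ∃ n a, n % 23 = 1 ∧ a ∣ 22 ∧ Nat.card K = 23 * a * n := by
  haveI : Fact (Nat.Prime 23) := ⟨by norm_num⟩
  set P := Subgroup.zpowers p with hP
  have hcardP : Nat.card P = 23 := by rw [hP, Nat.card_zpowers, hp]
  set C := Subgroup.centralizer (P : Set K) with hCdef
  have hPC : P ≤ C := by
    rintro _ ⟨n, rfl⟩
    rw [hCdef, Subgroup.mem_centralizer_iff]
    rintro _ ⟨m, rfl⟩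
    exact (Commute.zpow_zpow_self p m n).eq
  have hCp : IsPGroup 23 C := by
    intro c
    have hc : Commute (c : K) p :=
      ((Subgroup.mem_centralizer_iff.mp c.2) p (Subgroup.mem_zpowers p)).symm
    have h := (Nat.dvd_gcd (orderOf_dvd_of_pow_eq_one (hC _ hc)) (orderOf_dvd_natCard _)).trans hg
    exact ⟨1, Subtype.ext (by rw [Subgroup.coe_pow, pow_one, Subgroup.coe_one]
                              exact orderOf_dvd_iff_pow_eq_one.mp h)⟩
  have hC' : C = P := by
    obtain ⟨k, hk⟩ := IsPGroup.iff_card.mp hCp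
    have hk1 : k ≤ 1 := by
      by_contra hcon
      exact h2 ((pow_dvd_pow 23 (show 2 ≤ k by omega)).trans (hk ▸ Subgroup.card_subgroup_dvd_card C))
    refine (Subgroup.eq_of_le_of_card_ge hPC ?_).symm
    rw [hk, hcardP]
    calc 23 ^ k ≤ 23 ^ 1 := Nat.pow_le_pow_right (by norm_num) hk1
      _ = 23 := pow_one 23
  have hidx : ¬ 23 ∣ P.index := by
    rintro ⟨r, hr⟩
    exact h2 ⟨r, by rw [← P.card_mul_index, hcardP, hr]; ring⟩
  let Q : Sylow 23 K := (IsPGroup.of_card (show Nat.card P = 23 ^ 1 by rw [hcardP, pow_one])).toSylow hidx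
  set N := Subgroup.normalizer (P : Set K) with hN
  have hn1 : Nat.card (Sylow 23 K) % 23 = 1 := card_sylow_modEq_one 23 K
  have hn2 : Nat.card (Sylow 23 K) = N.index := Q.card_eq_index_normalizer
  let φ := P.normalizerMonoidHom
  have hker : Nat.card φ.ker = 23 := by
    rw [show φ.ker = (Subgroup.centralizer (P : Set K)).subgroupOf N from P.normalizerMonoidHom_ker,
      ← hCdef, hC', Nat.card_congr (Subgroup.subgroupOfEquivOfLe Subgroup.le_normalizer).toEquiv, hcardP]
  have hr : Nat.card φ.range ∣ 22 := by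
    have h := Subgroup.card_subgroup_dvd_card φ.range
    haveI : IsCyclic P := isCyclic_of_prime_card hcardP
    rwa [IsCyclic.card_mulAut, hcardP, show Nat.totient 23 = 22 by
      rw [Nat.totient_prime (by norm_num : Nat.Prime 23)]] at h
  refine ⟨N.index, Nat.card φ.range, hn2 ▸ hn1, hr, ?_⟩
  have h := φ.ker.card_mul_index
  rw [Subgroup.index_ker, hker] at h
  have h' : Nat.card N = 23 * Nat.card φ.range := h.symm
  rw [← N.card_mul_index, h']

theorem no_index_31 {d a b n m : ℕ} (hn : n % 23 = 1) (hm : m % 23 = 1) (ha : a ∣ 22) (hb : b ∣ 22)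
    (h : 23 * a * n = d * (23 * b * m)) (hd : d = 31) : False := by
  subst hd
  have h' : a * n = 31 * b * m := by
    have e : 23 * (a * n) = 23 * (31 * b * m) := by rw [← mul_assoc, h]; ring
    exact Nat.eq_of_mul_eq_mul_left (by norm_num) e
  have h2 : a % 23 = 31 * b % 23 := by
    have := congrArg (fun t => t % 23) h'
    rw [Nat.mul_mod, hn, mul_one, Nat.mod_mod, Nat.mul_mod (31 * b), hm, mul_one, Nat.mod_mod] at this
    exact this
  have ha' : a ∈ ({1, 2, 11, 22} : Finset ℕ) := by
    rw [show ({1, 2, 11, 22} : Finset ℕ) = Nat.divisors 22 by decide +kernel]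
    exact Nat.mem_divisors.mpr ⟨ha, by norm_num⟩
  have hb' : b ∈ ({1, 2, 11, 22} : Finset ℕ) := by
    rw [show ({1, 2, 11, 22} : Finset ℕ) = Nat.divisors 22 by decide +kernel]
    exact Nat.mem_divisors.mpr ⟨hb, by norm_num⟩
  simp only [Finset.mem_insert, Finset.mem_singleton] at ha' hb'
  rcases ha' with rfl | rfl | rfl | rfl <;> rcases hb' with rfl | rfl | rfl | rfl <;> simp at h2

/-- The matrix of a list of rows of size eleven. -/
def mat11 (L : List ℕ) : Matrix (Fin 11) (Fin 11) (ZMod 2) :=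
  Matrix.of fun i j => JankoFourRep.bit (L.getD i.val 0) j.val

theorem mat11_mulL {A B : List ℕ} (hA : A.length = 11) (hB : B.length = 11) :
    mat11 (mulL A B) = mat11 A * mat11 B := by
  ext i j
  have hi : i.val < A.length := lt_of_lt_of_eq i.isLt hA.symm
  simp only [mat11, Matrix.of_apply, Matrix.mul_apply]
  rw [show (mulL A B).getD i.val 0 = rowMul B (A.getD i.val 0) by
    simp [mulL, List.getD_eq_getElem?_getD, List.getElem?_map, List.getElem?_eq_getElem hi],
    bit_rowMul, hB, ← Fin.sum_univ_eq_sum_range (fun k => JankoFourRep.bit (A.getD i.val 0) k * JankoFourRep.bit (B.getD k 0) j.val) 11]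

theorem mat11_inj {A B : List ℕ} (hA : isRows 11 A = true) (hB : isRows 11 B = true)
    (h : mat11 A = mat11 B) : A = B := by
  rw [isRows_iff] at hA hB
  refine List.ext_getElem (hA.1.trans hB.1.symm) fun i h1 h2 => ?_
  refine Nat.eq_of_testBit_eq fun j => ?_
  rcases Nat.lt_or_ge j 11 with hj | hj
  · have := congrFun (congrFun h ⟨i, by omega⟩) ⟨j, hj⟩
    simp only [mat11, Matrix.of_apply, JankoFourRep.bit] at this
    rw [List.getD_eq_getElem _ _ h1, List.getD_eq_getElem _ _ h2] at this
    revert this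
    cases A[i].testBit j <;> cases B[i].testBit j <;> simp
  · rw [Nat.testBit_lt_two_pow (lt_of_lt_of_le (hA.2 _ (List.getElem_mem h1)) (Nat.pow_le_pow_right (by norm_num) hj)),
      Nat.testBit_lt_two_pow (lt_of_lt_of_le (hB.2 _ (List.getElem_mem h2)) (Nat.pow_le_pow_right (by norm_num) hj))]

theorem mat11_one : mat11 ((List.range 11).map (2 ^ ·)) = 1 := by decide +kernel

/-- The order of `GL (11, 2)`. -/
theorem card_gl11 : Nat.card (Matrix (Fin 11) (Fin 11) (ZMod 2))ˣ =
    ∏ i : Fin 11, (2 ^ 11 - 2 ^ (i : ℕ)) := by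
  haveI : Fact (Nat.Prime 2) := ⟨Nat.prime_two⟩
  have h := Matrix.card_GL_field (𝔽 := ZMod 2) 11
  rwa [ZMod.card] at h

end CfsgLib.JankoFourOut
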