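import Cfsg.Agent.JankoFourOut.Basic
import Cfsg.Agent.JankoFourOut.Fast
import Cfsg.Agent.JankoFourOut.DataT

/-!
Kernel checks on the basis of the elementary abelian subgroup.
-/

set_option autoImplicit false

namespace CfsgLib.JankoFourOut

open CfsgLib.CosetEnum CfsgLib.JankoFourRep

/-- The basis elements' matrices. -/
def eRows (k : ℕ) : List ℕ := eMats.getD k oneL

/-- The matrices of the letters and of the basis elements. -/
def rows' (c : ℕ) : List ℕ := bif Nat.blt c 4 then rowsOf c else eRows (c - 4)

/-- The tables of the letters. -/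
def tabOf : ℕ → List ℕ
  | 0 => tabX
  | 1 => tabY
  | 2 => tabYInv
  | _ => tabT

/-- The tables of the letters and of the basis elements. -/
def tab' (c : ℕ) : List ℕ := bif Nat.blt c 4 then tabOf c else eTabs.getD (c - 4) tabOne

theorem tabOf_ok : ∀ c, tabOK (tabOf c) (rowsOf c) = true := by
  intro c
  match c with
  | 0 => decide +kernel
  | 1 => decide +kernel
  | 2 => decide +kernel
  | n + 3 => exact (by decide +kernel : tabOK tabT rowsT = true)

theorem eTabs_ok : ∀ k < 11, tabOK (eTabs.getD k tabOne) (eRows k) = true := by decide +kernel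

theorem tabOne_ok : tabOK tabOne oneL = true := by decide +kernel

theorem tab'_ok (c : ℕ) : tabOK (tab' c) (rows' c) = true := by
  unfold tab' rows'
  cases Nat.blt c 4
  · rw [cond_false, cond_false]
    rcases Nat.lt_or_ge (c - 4) 11 with hk | hk
    · exact eTabs_ok _ hk
    · have h1 : eMats.length = 11 := by decide +kernel
      have h2 : eTabs.length = 11 := by decide +kernel
      rw [eRows, List.getD_eq_default _ _ (by omega), List.getD_eq_default _ _ (by omega)]
      exact tabOne_ok
  · exact tabOf_ok c

theorem eRows_isRows : ∀ k < 11, isRows 112 (eRows k) = true := by decide +kernel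

theorem eWord_ok0 : isMatTab tabOf (eWords.getD 0 []) (eRows 0) = true := by decide +kernel

theorem eWord_ok1 : isMatTab tabOf (eWords.getD 1 []) (eRows 1) = true := by decide +kernel

theorem eWord_ok2 : isMatTab tabOf (eWords.getD 2 []) (eRows 2) = true := by decide +kernel

theorem eWord_ok3 : isMatTab tabOf (eWords.getD 3 []) (eRows 3) = true := by decide +kernel

theorem eWord_ok4 : isMatTab tabOf (eWords.getD 4 []) (eRows 4) = true := by decide +kernel

theorem eWord_ok5 : isMatTab tabOf (eWords.getD 5 []) (eRows 5) = true := by decide +kernel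

theorem eWord_ok6 : isMatTab tabOf (eWords.getD 6 []) (eRows 6) = true := by decide +kernel

theorem eWord_ok7 : isMatTab tabOf (eWords.getD 7 []) (eRows 7) = true := by decide +kernel

theorem eWord_ok8 : isMatTab tabOf (eWords.getD 8 []) (eRows 8) = true := by decide +kernel

theorem eWord_ok9 : isMatTab tabOf (eWords.getD 9 []) (eRows 9) = true := by decide +kernel

theorem eWord_ok10 : isMatTab tabOf (eWords.getD 10 []) (eRows 10) = true := by decide +kernel

theorem eWord_ok : ∀ k < 11, isMat rowsOf (eWords.getD k []) (eRows k) = true := by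
  intro k hk
  refine isMat_of_isMatTab tabOf_ok ?_
  interval_cases k
  · exact eWord_ok0
  · exact eWord_ok1
  · exact eWord_ok2
  · exact eWord_ok3
  · exact eWord_ok4
  · exact eWord_ok5
  · exact eWord_ok6
  · exact eWord_ok7
  · exact eWord_ok8
  · exact eWord_ok9
  · exact eWord_ok10

theorem sameWord_of_sameTab {v w : List ℕ} (h : sameTab tab' v w = true) : sameWord rows' v w = true := by
  rw [sameWord, List.all_eq_true]
  intro i hi
  rw [← evalTab_eq tab'_ok, ← evalTab_eq tab'_ok]
  exact List.all_eq_true.mp h i hi

theorem eI_relations : (List.range 11).all (fun i => (List.range 11).all fun j =>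
    bif Nat.blt j i then sameTab tab' [i + 4, j + 4] [j + 4, i + 4]
    else bif Nat.beq i j then sameTab tab' [i + 4, i + 4] [] else true) = true := by
  decide +kernel

/-- The product of the basis elements at the first `n` bits, as a word. -/
def eWord : ℕ → ℕ → List ℕ
  | 0, _ => []
  | n + 1, m => eWord n m ++ (bif m.testBit n then [n + 4] else [])

theorem act_x_ok : (List.range 11).all (fun i =>
    sameTab tab' (0 :: eWord 11 (2 ^ i) ++ [0]) (eWord 11 (rowMul actX (2 ^ i)))) = true := by
  decide +kernel

theorem act_y_ok : (List.range 11).all (fun i =>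
    sameTab tab' (2 :: eWord 11 (2 ^ i) ++ [1]) (eWord 11 (rowMul actY (2 ^ i)))) = true := by
  decide +kernel

theorem act_yInv_ok : (List.range 11).all (fun i =>
    sameTab tab' (1 :: eWord 11 (2 ^ i) ++ [2]) (eWord 11 (rowMul actYInv (2 ^ i)))) = true := by
  decide +kernel

theorem sep_ok : (List.range 11).all (fun k =>
    Nat.blt (sepVecs.getD k 0) (2 ^ 112) && (List.range 11).all fun j =>
      Nat.beq (rowFast (eRows j) (sepVecs.getD k 0))
        (sepVecs.getD k 0 ^^^ bif Nat.beq j k then fixVec else 0) &&
      Nat.beq (rowFast (eRows j) fixVec) fixVec) = true := by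
  decide +kernel

end CfsgLib.JankoFourOut
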