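import Cfsg.Agent.JankoFourOut.EChecks

/-!
The elementary abelian subgroup of order `2 ^ 11` and the action on it.
-/

set_option autoImplicit false

namespace CfsgLib.JankoFourOut

open Cfsg.Spor CfsgLib.CosetEnum CfsgLib.JankoFour CfsgLib.JankoFourRep

/-- The basis elements. -/
def eI (k : ℕ) : Cfsg.Spor.J4 := prodw gen (eWords.getD k [])

/-- The letters and the basis elements. -/
def gen' (c : ℕ) : Cfsg.Spor.J4 := if c < 4 then gen c else eI (c - 4)

theorem hasRows_eI (k : ℕ) : HasRows (eI k) (eRows k) := by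
  rcases Nat.lt_or_ge k 11 with hk | hk
  · exact hasRows_prodw hasRows_gen (eRows_isRows k hk) (eWord_ok k hk)
  · have h1 : eWords.length = 11 := by decide +kernel
    have h2 : eMats.length = 11 := by decide +kernel
    rw [eI, eRows, List.getD_eq_default _ _ (by omega), List.getD_eq_default _ _ (by omega), prodw_nil]
    exact hasRows_one

theorem hasRows_gen' (c : ℕ) : HasRows (gen' c) (rows' c) := by
  unfold gen' rows'
  by_cases h : c < 4
  · rw [if_pos h, Nat.blt_eq.mpr h]; exact hasRows_gen c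
  · rw [if_neg h, show Nat.blt c 4 = false by
      rw [Bool.eq_false_iff]; exact fun hb => h (Nat.blt_eq.mp hb)]
    exact hasRows_eI _

/-- The product of the basis elements at the first `n` bits. -/
def eUpTo : ℕ → ℕ → Cfsg.Spor.J4
  | 0, _ => 1
  | n + 1, m => eUpTo n m * (bif m.testBit n then eI n else 1)

/-- The element with the given coordinates. -/
def eOf (m : ℕ) : Cfsg.Spor.J4 := eUpTo 11 m

/-- The matrix of an element of the subgroup. -/
def eRowsUpTo : ℕ → ℕ → List ℕ
  | 0, _ => oneL
  | n + 1, m => mulL (eRowsUpTo n m) (bif m.testBit n then eRows n else oneL)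

theorem eUpTo_eq_prodw : ∀ n m, eUpTo n m = prodw gen' (eWord n m)
  | 0, _ => rfl
  | n + 1, m => by
    rw [eUpTo, eWord, prodw_append, eUpTo_eq_prodw n m]
    cases m.testBit n <;> simp [prodw, gen']

theorem hasRows_eUpTo : ∀ n m, HasRows (eUpTo n m) (eRowsUpTo n m)
  | 0, _ => hasRows_one
  | n + 1, m => by
    refine (hasRows_eUpTo n m).mul ?_
    cases m.testBit n
    · exact hasRows_one
    · exact hasRows_eI n

variable (H : Hyp)
include H

theorem eI_rel {i j : ℕ} (hi : i < 11) (hj : j < i) : Commute (eI i) (eI j) := by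
  have := List.all_eq_true.mp (List.all_eq_true.mp eI_relations i (List.mem_range.mpr hi)) j
    (List.mem_range.mpr (by omega))
  rw [Nat.blt_eq.mpr hj, cond_true] at this
  have := prodw_eq_of_sameWord H hasRows_gen' (sameWord_of_sameTab this)
  show eI i * eI j = eI j * eI i
  simpa [prodw, gen'] using this

theorem eI_sq {i : ℕ} (hi : i < 11) : eI i * eI i = 1 := by
  have := List.all_eq_true.mp (List.all_eq_true.mp eI_relations i (List.mem_range.mpr hi)) i
    (List.mem_range.mpr hi)
  rw [show Nat.blt i i = false by rw [Bool.eq_false_iff]; exact fun h => absurd (Nat.blt_eq.mp h) (lt_irrefl i),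
    cond_false, Nat.beq_refl, cond_true] at this
  have := prodw_eq_of_sameWord H hasRows_gen' (sameWord_of_sameTab this)
  simpa [prodw, gen'] using this

theorem commute_eI_eUpTo {i : ℕ} (hi : i < 11) : ∀ n ≤ i, ∀ m, Commute (eI i) (eUpTo n m) := by
  intro n hn m
  induction n with
  | zero => exact Commute.one_right _
  | succ n ih =>
    refine (ih (by omega)).mul_right ?_
    cases m.testBit n
    · exact Commute.one_right _
    · exact eI_rel H hi (by omega)

theorem eUpTo_xor : ∀ n ≤ 11, ∀ a b, eUpTo n (a ^^^ b) = eUpTo n a * eUpTo n b := by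
  intro n hn a b
  induction n with
  | zero => simp [eUpTo]
  | succ n ih =>
    have hc : Commute (bif a.testBit n then eI n else 1) (eUpTo n b) := by
      cases a.testBit n
      · exact Commute.one_left _
      · exact commute_eI_eUpTo H (by omega) n le_rfl b
    simp only [eUpTo, ih (by omega), Nat.testBit_xor]
    rw [mul_assoc (eUpTo n a) (bif a.testBit n then eI n else 1), ← mul_assoc (bif a.testBit n then eI n else 1),
      hc.eq, mul_assoc (eUpTo n b), ← mul_assoc (eUpTo n a)]
    congr 1
    cases a.testBit n <;> cases b.testBit n <;> simp [eI_sq H (show n < 11 by omega)]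

theorem eOf_xor (a b : ℕ) : eOf (a ^^^ b) = eOf a * eOf b := eUpTo_xor H 11 le_rfl a b

theorem eOf_zero : eOf 0 = 1 := by
  have h := eOf_xor H 0 0
  rw [Nat.xor_self] at h
  exact mul_left_cancel (h.symm.trans (mul_one _).symm)

theorem eOf_sq (a : ℕ) : eOf a * eOf a = 1 := by rw [← eOf_xor H, Nat.xor_self, eOf_zero H]

theorem eOf_inv (a : ℕ) : (eOf a)⁻¹ = eOf a := inv_eq_of_mul_eq_one_right (eOf_sq H a)

theorem eOf_commute (a b : ℕ) : Commute (eOf a) (eOf b) := by
  rw [Commute, SemiconjBy, ← eOf_xor H, ← eOf_xor H, Nat.xor_comm]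

omit H in
theorem rowMul_oneL {v : ℕ} (hv : v < 2 ^ 112) : rowMul oneL v = v :=
  (isLin_rowMul 112 oneL).eq_of_units (isLin_id 112) (fun i hi => by
    rw [rowMul_two_pow, oneL, List.getD_eq_getElem _ _ (by simpa using hi)]
    simp) v hv

omit H in
theorem sep_apply {k : ℕ} (hk : k < 11) : ∀ n ≤ 11, ∀ m,
    rowMul (eRowsUpTo n m) (sepVecs.getD k 0) =
      sepVecs.getD k 0 ^^^ bif decide (k < n) && m.testBit k then fixVec else 0 := by
  have h := fun j (hj : j < 11) => by
    have := List.all_eq_true.mp sep_ok k (List.mem_range.mpr hk)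
    rw [Bool.and_eq_true] at this
    have h2 := List.all_eq_true.mp this.2 j (List.mem_range.mpr hj)
    rw [Bool.and_eq_true] at h2
    exact (⟨Nat.blt_eq.mp this.1, (rowFast_eq _ _).symm.trans (Nat.eq_of_beq_eq_true h2.1), (rowFast_eq _ _).symm.trans (Nat.eq_of_beq_eq_true h2.2)⟩ :
      sepVecs.getD k 0 < 2 ^ 112 ∧ rowMul (eRows j) (sepVecs.getD k 0) =
        sepVecs.getD k 0 ^^^ (bif Nat.beq j k then fixVec else 0) ∧
        rowMul (eRows j) fixVec = fixVec)
  intro n hn m
  induction n with
  | zero =>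
    rw [eRowsUpTo, rowMul_oneL (h 0 (by omega)).1]
    simp
  | succ n ih =>
    have hf : fixVec < 2 ^ 112 := by decide +kernel
    obtain ⟨hv, hs, hx⟩ := h n (by omega)
    rw [eRowsUpTo, rowMul_mulL, ih (by omega)]
    cases hb : m.testBit n
    · have e : (decide (k < n + 1) && m.testBit k) = (decide (k < n) && m.testBit k) := by
        rcases eq_or_ne k n with rfl | hne
        · simp [hb]
        · simp [show (k < n + 1) ↔ k < n by omega]
      rw [cond_false, e, rowMul_oneL]
      exact Nat.xor_lt_two_pow hv (by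
        rw [Bool.cond_eq_ite]
        split
        · exact hf
        · exact Nat.two_pow_pos 112)
    · rw [cond_true, rowMul_xor, hs]
      rcases eq_or_ne k n with rfl | hne
      · simp [hb, rowMul_zero]
      · have hne' : Nat.beq n k = false := by
          rw [Bool.eq_false_iff]; exact fun h' => hne (Nat.eq_of_beq_eq_true h').symm
        rw [hne', cond_false, Nat.xor_zero]
        simp only [show (k < n + 1) ↔ k < n by omega]
        cases decide (k < n) && m.testBit k <;> simp [hx, rowMul_zero]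

omit H in
theorem eq_zero_of_eOf_eq_one {m : ℕ} (hm : m < 2 ^ 11) (h : eOf m = 1) : m = 0 := by
  refine Nat.eq_of_testBit_eq fun k => ?_
  rw [Nat.zero_testBit]
  rcases Nat.lt_or_ge k 11 with hk | hk
  · have hr : eRowsUpTo 11 m = oneL :=
      ((hasRows_eUpTo 11 m).unique (show HasRows (eUpTo 11 m) oneL by
        rw [show eUpTo 11 m = 1 from h]; exact hasRows_one))
    have hs := sep_apply hk 11 le_rfl m
    have hv : sepVecs.getD k 0 < 2 ^ 112 := by
      have := List.all_eq_true.mp sep_ok k (List.mem_range.mpr hk)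
      rw [Bool.and_eq_true] at this
      exact Nat.blt_eq.mp this.1
    rw [hr, rowMul_oneL hv, decide_eq_true hk, Bool.true_and] at hs
    cases hb : m.testBit k
    · rfl
    · rw [hb, cond_true] at hs
      have h0 := congrArg (fun r => sepVecs.getD k 0 ^^^ r) hs
      simp [fixVec] at h0
  · exact Nat.testBit_lt_two_pow (lt_of_lt_of_le hm (Nat.pow_le_pow_right (by norm_num) hk))

theorem eOf_injective {a b : ℕ} (ha : a < 2 ^ 11) (hb : b < 2 ^ 11) (h : eOf a = eOf b) : a = b := by
  have := eq_zero_of_eOf_eq_one (Nat.xor_lt_two_pow ha hb) (by rw [eOf_xor H, h, eOf_sq H])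
  exact Nat.xor_eq_zero_iff.mp this

/-- Conjugation by `g` acts on the subgroup by the rows `A`. -/
def Acts (g : Cfsg.Spor.J4) (A : List ℕ) : Prop :=
  isRows 11 A = true ∧ ∀ m < 2 ^ 11, g⁻¹ * eOf m * g = eOf (rowMul A m)

theorem acts_of_units {g : Cfsg.Spor.J4} {A : List ℕ} (hA : isRows 11 A = true)
    (h : ∀ i < 11, g⁻¹ * eOf (2 ^ i) * g = eOf (rowMul A (2 ^ i))) : Acts g A := by
  refine ⟨hA, ?_⟩
  suffices ∀ n ≤ 11, ∀ m < 2 ^ n, g⁻¹ * eOf m * g = eOf (rowMul A m) from this 11 le_rfl
  intro n hn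
  induction n with
  | zero =>
    intro m hm
    rw [pow_zero, Nat.lt_one_iff] at hm
    simp [hm, rowMul_zero, eOf_zero H]
  | succ n ih =>
    intro m hm
    cases hb : m.testBit n
    · refine ih (by omega) m (Nat.lt_pow_two_of_testBit _ fun i hi => ?_)
      rcases Nat.lt_or_eq_of_le hi with hlt | rfl
      · exact Nat.testBit_lt_two_pow (lt_of_lt_of_le hm (Nat.pow_le_pow_right (by norm_num) hlt))
      · exact hb
    · obtain ⟨m', hm', rfl⟩ : ∃ m', m' < 2 ^ n ∧ m = m' ^^^ 2 ^ n :=
        ⟨m ^^^ 2 ^ n, xor_two_pow_lt hm hb, by rw [Nat.xor_assoc, Nat.xor_self, Nat.xor_zero]⟩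
      rw [rowMul_xor, eOf_xor H, eOf_xor H, ← ih (by omega) _ hm', ← h n (by omega)]
      group

omit H in
theorem Acts.mul {g h : Cfsg.Spor.J4} {A B : List ℕ} (ha : Acts g A) (hb : Acts h B) :
    Acts (g * h) (mulL A B) := by
  refine ⟨isRows_mulL ha.1 hb.1, fun m hm => ?_⟩
  rw [rowMul_mulL, ← hb.2 _ (rowMul_lt (isRows_iff.mp ha.1).2 m), ← ha.2 m hm]
  group

theorem Acts.unique {g : Cfsg.Spor.J4} {A B : List ℕ} (ha : Acts g A) (hb : Acts g B) : A = B := by
  refine rows_ext (isRows_iff.mp ha.1).1 (isRows_iff.mp hb.1).1 fun i hi => ?_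
  have hp : (2 : ℕ) ^ i < 2 ^ 11 := Nat.pow_lt_pow_right (by norm_num) hi
  exact eOf_injective H (rowMul_lt (isRows_iff.mp ha.1).2 _) (rowMul_lt (isRows_iff.mp hb.1).2 _)
    ((ha.2 _ hp).symm.trans (hb.2 _ hp))

omit H in
/-- The identity of size eleven. -/
def one11 : List ℕ := (List.range 11).map (2 ^ ·)

omit H in
theorem isRows_one11 : isRows 11 one11 = true := by decide +kernel

omit H in
theorem rowMul_one11 {v : ℕ} (hv : v < 2 ^ 11) : rowMul one11 v = v :=
  (isLin_rowMul 11 one11).eq_of_units (isLin_id 11) (fun i hi => by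
    rw [rowMul_two_pow, one11, List.getD_eq_getElem _ _ (by simpa using hi)]
    simp) v hv

omit H in
theorem acts_one : Acts 1 one11 :=
  ⟨isRows_one11, fun m hm => by rw [rowMul_one11 hm]; group⟩

theorem acts_eOf (a : ℕ) : Acts (eOf a) one11 :=
  ⟨isRows_one11, fun m hm => by rw [rowMul_one11 hm, mul_assoc, (eOf_commute H m a).eq, inv_mul_cancel_left]⟩

theorem acts_x : Acts xJ actX := by
  refine acts_of_units H (by decide +kernel) fun i hi => ?_
  have h := List.all_eq_true.mp act_x_ok i (List.mem_range.mpr hi)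
  have h := prodw_eq_of_sameWord H hasRows_gen' (sameWord_of_sameTab h)
  rw [List.cons_append, prodw_cons, prodw_append, ← eUpTo_eq_prodw, ← eUpTo_eq_prodw] at h
  have hx : xJ⁻¹ = xJ := inv_eq_of_mul_eq_one_right (by rw [← sq]; exact xJ_sq)
  rw [hx, mul_assoc]
  simpa [prodw, gen', gen, eOf] using h

theorem acts_y : Acts yJ actY := by
  refine acts_of_units H (by decide +kernel) fun i hi => ?_
  have h := List.all_eq_true.mp act_y_ok i (List.mem_range.mpr hi)
  have h := prodw_eq_of_sameWord H hasRows_gen' (sameWord_of_sameTab h)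
  rw [List.cons_append, prodw_cons, prodw_append, ← eUpTo_eq_prodw, ← eUpTo_eq_prodw] at h
  rw [mul_assoc]
  simpa [prodw, gen', gen, eOf] using h

theorem acts_yInv : Acts yJ⁻¹ actYInv := by
  refine acts_of_units H (by decide +kernel) fun i hi => ?_
  have h := List.all_eq_true.mp act_yInv_ok i (List.mem_range.mpr hi)
  have h := prodw_eq_of_sameWord H hasRows_gen' (sameWord_of_sameTab h)
  rw [List.cons_append, prodw_cons, prodw_append, ← eUpTo_eq_prodw, ← eUpTo_eq_prodw] at h
  rw [mul_assoc]
  simpa [prodw, gen', gen, eOf] using h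

end CfsgLib.JankoFourOut
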