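import Cfsg.Agent.JankoFourOut.Main
import Cfsg.Agent.JankoFourM24.Main

/-!
The fourth Janko group has no outer automorphism.
-/

set_option autoImplicit false

namespace CfsgLib.JankoFourOut

open CfsgLib.JankoFour

theorem hyp : Hyp := ⟨CfsgLib.JankoFour.rep_inj, CfsgLib.JankoFour.card_eq, JankoFourM24.iso_M⟩

theorem card_out : Nat.card (Cfsg.Out Cfsg.Spor.J4) = 1 := card_out_J4 hyp

end CfsgLib.JankoFourOut
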