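import Cfsg.Agent.JankoFourOut.EChecks
import Cfsg.Agent.JankoFour.Basic

/-!
Kernel check: the common fixed space of the subgroup of order `2 ^ 11`.
-/

set_option autoImplicit false

namespace CfsgLib.JankoFourOut

open CfsgLib.CosetEnum CfsgLib.JankoFour CfsgLib.JankoFourRep

/-- The stacked differences with the identity. -/
def fixMap : ℕ → ℕ → ℕ
  | 0, _ => 0
  | n + 1, x => fixMap n x ^^^ ((rowFast (eRows n) x ^^^ x) <<< (112 * n))

/-- The left inverse is right on a unit vector. -/
def fixRowOK (i : ℕ) : Bool :=
  Nat.beq (Nat.xor (rowFast fixInv (fixMap 11 (Nat.pow 2 i))) (Nat.pow 2 i))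
    (rowFast [fixVec] (fixCoef.getD i 0))

theorem fix_ok0 : (List.range' 0 8).all fixRowOK = true := by decide +kernel

theorem fix_ok1 : (List.range' 8 8).all fixRowOK = true := by decide +kernel

theorem fix_ok2 : (List.range' 16 8).all fixRowOK = true := by decide +kernel

theorem fix_ok3 : (List.range' 24 8).all fixRowOK = true := by decide +kernel

theorem fix_ok4 : (List.range' 32 8).all fixRowOK = true := by decide +kernel

theorem fix_ok5 : (List.range' 40 8).all fixRowOK = true := by decide +kernel

theorem fix_ok6 : (List.range' 48 8).all fixRowOK = true := by decide +kernel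

theorem fix_ok7 : (List.range' 56 8).all fixRowOK = true := by decide +kernel

theorem fix_ok8 : (List.range' 64 8).all fixRowOK = true := by decide +kernel

theorem fix_ok9 : (List.range' 72 8).all fixRowOK = true := by decide +kernel

theorem fix_ok10 : (List.range' 80 8).all fixRowOK = true := by decide +kernel

theorem fix_ok11 : (List.range' 88 8).all fixRowOK = true := by decide +kernel

theorem fix_ok12 : (List.range' 96 8).all fixRowOK = true := by decide +kernel

theorem fix_ok13 : (List.range' 104 8).all fixRowOK = true := by decide +kernel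

theorem fix_ok : ∀ i < 112, fixRowOK i = true := by
  intro i hi
  have h : ∀ {a : ℕ}, (List.range' a 8).all fixRowOK = true → a ≤ i → i < a + 8 → fixRowOK i = true :=
    fun hh h1 h2 => List.all_eq_true.mp hh i (List.mem_range'_1.mpr ⟨h1, h2⟩)
  rcases Nat.lt_or_ge i 8 with h0 | h0
  · exact h fix_ok0 (by omega) (by omega)
  rcases Nat.lt_or_ge i 16 with h1 | h1
  · exact h fix_ok1 (by omega) (by omega)
  rcases Nat.lt_or_ge i 24 with h2 | h2
  · exact h fix_ok2 (by omega) (by omega)
  rcases Nat.lt_or_ge i 32 with h3 | h3
  · exact h fix_ok3 (by omega) (by omega)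
  rcases Nat.lt_or_ge i 40 with h4 | h4
  · exact h fix_ok4 (by omega) (by omega)
  rcases Nat.lt_or_ge i 48 with h5 | h5
  · exact h fix_ok5 (by omega) (by omega)
  rcases Nat.lt_or_ge i 56 with h6 | h6
  · exact h fix_ok6 (by omega) (by omega)
  rcases Nat.lt_or_ge i 64 with h7 | h7
  · exact h fix_ok7 (by omega) (by omega)
  rcases Nat.lt_or_ge i 72 with h8 | h8
  · exact h fix_ok8 (by omega) (by omega)
  rcases Nat.lt_or_ge i 80 with h9 | h9
  · exact h fix_ok9 (by omega) (by omega)
  rcases Nat.lt_or_ge i 88 with h10 | h10
  · exact h fix_ok10 (by omega) (by omega)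
  rcases Nat.lt_or_ge i 96 with h11 | h11
  · exact h fix_ok11 (by omega) (by omega)
  rcases Nat.lt_or_ge i 104 with h12 | h12
  · exact h fix_ok12 (by omega) (by omega)
  exact h fix_ok13 (by omega) (by omega)

theorem fixCoef_lt : fixCoef.all (fun c => Nat.blt c 2) = true := by decide +kernel

theorem fixVec_fixed : ∀ k < 11, rowFast (eRows k) fixVec = fixVec := by decide +kernel

theorem fixVec_lt : fixVec < 2 ^ 112 := by decide +kernel

theorem fixVec_ne : fixVec ≠ 0 := by decide +kernel

end CfsgLib.JankoFourOut
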