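import Cfsg.Agent.JankoFourOut.MGroup
import Cfsg.Agent.JankoFourOut.FixedChecks

/-!
An element of odd order commuting with the subgroup of order `2 ^ 11` is trivial.
-/

set_option autoImplicit false
set_option linter.style.haveILetI false

namespace CfsgLib.JankoFourOut

open Cfsg.Spor CfsgLib.CosetEnum CfsgLib.JankoFour CfsgLib.JankoFourRep

theorem fixMap_xor : ∀ n a b, fixMap n (a ^^^ b) = fixMap n a ^^^ fixMap n b
  | 0, _, _ => (Nat.xor_self 0).symm
  | n + 1, a, b => by
    simp only [fixMap, fixMap_xor n a b, rowFast_eq, rowMul_xor, Nat.shiftLeft_xor_distrib]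
    ac_rfl

theorem fixMap_eq_zero {x : ℕ} (h : ∀ k < 11, rowMul (eRows k) x = x) : ∀ n ≤ 11, fixMap n x = 0
  | 0, _ => rfl
  | n + 1, hn => by simp [fixMap, fixMap_eq_zero h n (by omega), rowFast_eq, h n (by omega)]

theorem eq_fixVec {x : ℕ} (hx : x < 2 ^ 112) (h : ∀ k < 11, rowMul (eRows k) x = x) :
    x = 0 ∨ x = fixVec := by
  have hl : IsLin 112 fun a => rowMul fixInv (fixMap 11 a) ^^^ a := IsLin.of_xor fun a b => by
    rw [fixMap_xor, rowMul_xor]; ac_rfl
  have hr : IsLin 112 fun a => rowMul [fixVec] (rowMul fixCoef a) :=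
    IsLin.of_xor fun a b => by rw [rowMul_xor, rowMul_xor]
  have e := hl.eq_of_units hr (fun i hi => by
    have := Nat.eq_of_beq_eq_true (fix_ok i hi)
    rw [rowFast_eq, rowFast_eq] at this
    rw [rowMul_two_pow]
    exact this) x hx
  simp only [fixMap_eq_zero h 11 le_rfl, rowMul_zero, Nat.zero_xor] at e
  rw [rowMul_cons, show rowMul [] (rowMul fixCoef x >>> 1) = 0 from rfl, Nat.xor_zero] at e
  cases hb : (rowMul fixCoef x).testBit 0 <;> rw [hb] at e <;> simp [e]

/-- The sum of the first iterates. -/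
def orbSum (f : ℕ → ℕ) : ℕ → ℕ → ℕ
  | 0, _ => 0
  | n + 1, x => orbSum f n x ^^^ f^[n] x

theorem orbSum_shift (f : ℕ → ℕ) : ∀ n x, orbSum f n (f x) ^^^ x = orbSum f n x ^^^ f^[n] x
  | 0, x => by simp [orbSum]
  | n + 1, x => by
    rw [orbSum, orbSum, ← Function.iterate_succ_apply,
      show orbSum f n (f x) ^^^ f^[n.succ] x ^^^ x = orbSum f n (f x) ^^^ x ^^^ f^[n.succ] x by ac_rfl,
      orbSum_shift f n x]

theorem orbSum_fixed {f : ℕ → ℕ} {x : ℕ} (h : f x = x) : ∀ n, orbSum f n x = bif n.bodd then x else 0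
  | 0 => rfl
  | n + 1 => by
    rw [orbSum, orbSum_fixed h n, Function.iterate_fixed h, Nat.bodd_succ]
    cases n.bodd <;> simp

variable (H : Hyp)
include H

theorem eq_one_of_odd {z : Cfsg.Spor.J4} (hodd : Odd (orderOf z))
    (hc : ∀ k < 11, Commute z (eI k)) : z = 1 := by
  obtain ⟨Z, hZ⟩ := exists_rows z
  set f := rowMul Z with hf
  set m := orderOf z with hm
  have hpow : ∀ n, ∃ L, HasRows (z ^ n) L ∧ ∀ x < 2 ^ 112, rowMul L x = f^[n] x := by
    intro n
    induction n with
    | zero => exact ⟨oneL, by rw [pow_zero]; exact hasRows_one, fun x hx => rowMul_oneL hx⟩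
    | succ n ih =>
      obtain ⟨L, hL, hLx⟩ := ih
      refine ⟨mulL L Z, by rw [pow_succ]; exact hL.mul hZ, fun x hx => ?_⟩
      rw [rowMul_mulL, hLx x hx, Function.iterate_succ_apply']
  have hcyc : ∀ x < 2 ^ 112, f^[m] x = x := by
    intro x hx
    obtain ⟨L, hL, hLx⟩ := hpow m
    rw [pow_orderOf_eq_one] at hL
    rw [← hLx x hx, hL.unique hasRows_one, rowMul_oneL hx]
  have hlt : ∀ x, f x < 2 ^ 112 := fun x => rowMul_lt (isRows_iff.mp hZ.1).2 x
  have hgf : ∀ k < 11, ∀ x, rowMul (eRows k) (f x) = f (rowMul (eRows k) x) := by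
    intro k hk x
    rw [hf, ← rowMul_mulL, ← rowMul_mulL]
    have h1 := hZ.mul (hasRows_eI k)
    rw [(hc k hk).eq] at h1
    rw [h1.unique ((hasRows_eI k).mul hZ)]
  have hiter : ∀ n k, k < 11 → ∀ x, rowMul (eRows k) (f^[n] x) = f^[n] (rowMul (eRows k) x) := by
    intro n k hk x
    induction n with
    | zero => rfl
    | succ n ih => rw [Function.iterate_succ_apply', Function.iterate_succ_apply', hgf k hk, ih]
  have hsumg : ∀ n k, k < 11 → ∀ x, rowMul (eRows k) (orbSum f n x) = orbSum f n (rowMul (eRows k) x) := by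
    intro n k hk x
    induction n with
    | zero => exact rowMul_zero _
    | succ n ih => rw [orbSum, orbSum, rowMul_xor, ih, hiter n k hk]
  have hfit : ∀ n a b, f^[n] (a ^^^ b) = f^[n] a ^^^ f^[n] b := by
    intro n a b
    induction n with
    | zero => rfl
    | succ n ih =>
      rw [Function.iterate_succ_apply', Function.iterate_succ_apply', Function.iterate_succ_apply', ih]
      exact rowMul_xor _ _ _
  have hsumx : ∀ n a b, orbSum f n (a ^^^ b) = orbSum f n a ^^^ orbSum f n b := by
    intro n a b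
    induction n with
    | zero => exact (Nat.xor_self 0).symm
    | succ n ih => rw [orbSum, orbSum, orbSum, ih, hfit]; ac_rfl
  have hbodd : m.bodd = true := by
    obtain ⟨r, hr⟩ := hodd
    rw [hr, Nat.bodd_add, Nat.bodd_mul, show Nat.bodd 2 = false from rfl, Bool.false_and]
    rfl
  have hfix : f fixVec = fixVec := by
    have h1 : ∀ k < 11, rowMul (eRows k) (f fixVec) = f fixVec := fun k hk => by
      rw [hgf k hk, ← rowFast_eq, fixVec_fixed k hk]
    rcases eq_fixVec (hlt _) h1 with h | h
    · exfalso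
      apply fixVec_ne
      have := hcyc fixVec fixVec_lt
      rw [← this]
      obtain ⟨r, hr⟩ : ∃ r, m = r + 1 := ⟨m - 1, by have := hodd.pos; omega⟩
      rw [hr, Function.iterate_succ_apply, h]
      exact Function.iterate_fixed (show f 0 = 0 from rowMul_zero _) r
    · exact h
  have hker : ∀ w < 2 ^ 112, orbSum f m w = 0 → w = 0 := by
    intro w hw hs
    by_contra hne
    obtain ⟨u, hu, hu0, hus, hug⟩ : ∃ u < 2 ^ 112, u ≠ 0 ∧ orbSum f m u = 0 ∧
        ∀ k < 11, rowMul (eRows k) u = u := by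
      suffices ∀ n ≤ 11, ∃ u < 2 ^ 112, u ≠ 0 ∧ orbSum f m u = 0 ∧ ∀ k < n, rowMul (eRows k) u = u from
        this 11 le_rfl
      intro n hn
      induction n with
      | zero => exact ⟨w, hw, hne, hs, fun k hk => absurd hk (Nat.not_lt_zero k)⟩
      | succ n ih =>
        obtain ⟨u, hu, hu0, hus, hug⟩ := ih (by omega)
        by_cases he : rowMul (eRows n) u = u
        · exact ⟨u, hu, hu0, hus, fun k hk => by
            rcases Nat.lt_or_eq_of_le (Nat.le_of_lt_succ hk) with h | rfl
            · exact hug k h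
            · exact he⟩
        · have hl : rowMul (eRows n) u < 2 ^ 112 :=
            rowMul_lt (isRows_iff.mp (hasRows_eI n).1).2 u
          refine ⟨rowMul (eRows n) u ^^^ u, Nat.xor_lt_two_pow hl hu,
            fun h => he (Nat.xor_eq_zero_iff.mp h), ?_, fun k hk => ?_⟩
          · rw [hsumx, ← hsumg m n (by omega), hus, rowMul_zero, Nat.xor_zero]
          · rcases Nat.lt_or_eq_of_le (Nat.le_of_lt_succ hk) with h | rfl
            · have h1 : mulL (eRows n) (eRows k) = mulL (eRows k) (eRows n) := by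
                have a1 := (hasRows_eI n).mul (hasRows_eI k)
                rw [(eI_rel H (show n < 11 by omega) h).eq] at a1
                exact a1.unique ((hasRows_eI k).mul (hasRows_eI n))
              rw [rowMul_xor, ← rowMul_mulL, h1, rowMul_mulL, hug k h]
            · have h1 : mulL (eRows k) (eRows k) = oneL := by
                refine ((hasRows_eI k).mul (hasRows_eI k)).unique ?_
                rw [eI_sq H (show k < 11 by omega)]
                exact hasRows_one
              rw [rowMul_xor, ← rowMul_mulL, h1, rowMul_oneL hu, Nat.xor_comm]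
    rcases eq_fixVec hu hug with h | h
    · exact hu0 h
    · rw [h, orbSum_fixed hfix, hbodd] at hus
      exact fixVec_ne hus
  refine hZ.eq H (?_ : HasRows 1 Z)
  have : Z = oneL := by
    refine rows_ext (isRows_iff.mp hZ.1).1 (isRows_iff.mp hasRows_one.1).1 fun i hi => ?_
    have hp : (2 : ℕ) ^ i < 2 ^ 112 := Nat.pow_lt_pow_right (by norm_num) hi
    rw [rowMul_oneL hp]
    refine Nat.xor_eq_zero_iff.mp (hker _ (Nat.xor_lt_two_pow (hlt _) hp) ?_)
    have h := orbSum_shift f m (2 ^ i)
    rw [hcyc _ hp] at h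
    rw [hsumx]
    have h' := congrArg (fun t => t ^^^ 2 ^ i) h
    simp only [Nat.xor_assoc, Nat.xor_self, Nat.xor_zero] at h'
    rw [h', Nat.xor_self]
  rw [this]
  exact hasRows_one

end CfsgLib.JankoFourOut
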