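import Cfsg.Agent.JankoFourOut.PcGroup
import Mathlib.GroupTheory.GroupAction.ConjAct
import Mathlib.GroupTheory.QuotientGroup.Basic

/-!
The normal elementary abelian subgroups of the 2-group inside the complement.
-/

set_option autoImplicit false
set_option linter.style.haveILetI false

namespace CfsgLib.JankoFourOut

open CfsgLib.CosetEnum CfsgLib.JankoFourRep

/-- No matrix is repeated. -/
def nodupMat : List (List ℕ) → Bool
  | [] => true
  | a :: L => !memMat a L && nodupMat L

theorem nodup_of_nodupMat : ∀ {L : List (List ℕ)}, nodupMat L = true → L.Nodup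
  | [], _ => List.nodup_nil
  | a :: L, h => by
    rw [nodupMat, Bool.and_eq_true, Bool.not_eq_true'] at h
    refine List.nodup_cons.mpr ⟨fun ha => ?_, nodup_of_nodupMat h.2⟩
    rw [memMat_iff.mpr ha] at h
    exact Bool.noConfusion h.1

theorem normals_nodup : ∀ k < 23, nodupMat (normals.getD k []) = true := by decide +kernel

/-- A nontrivial normal subgroup of a finite `p`-group has a nontrivial central element. -/
theorem exists_central_of_normal {G : Type*} [Group G] [Finite G] {p : ℕ} [Fact p.Prime]
    (hG : IsPGroup p G) {N : Subgroup G} [N.Normal] (hN : N ≠ ⊥) :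
    ∃ a ∈ N, a ≠ 1 ∧ ∀ g, g * a = a * g := by
  have h1 : Fact (1 < p) := ⟨(Fact.out : p.Prime).one_lt⟩
  haveI : Nontrivial N := (Subgroup.nontrivial_iff_ne_bot N).mpr hN
  have hdvd : p ∣ Nat.card N := by
    obtain ⟨k, hk⟩ := IsPGroup.iff_card.mp (hG.to_subgroup N)
    rw [hk]
    refine dvd_pow_self p fun h0 => ?_
    rw [h0, pow_zero] at hk
    have := Finite.one_lt_card (α := N)
    omega
  obtain ⟨a, ha, hne⟩ := (hG.of_equiv ConjAct.toConjAct).exists_fixed_point_of_prime_dvd_card_of_fixed_point
    N hdvd (a := (1 : N)) (by intro g; exact smul_one g)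
  refine ⟨a, a.2, fun h => hne (Subtype.ext h).symm, fun g => ?_⟩
  have := congrArg Subtype.val (ha (ConjAct.toConjAct g))
  rw [ConjAct.Subgroup.val_conj_smul, ConjAct.toConjAct_smul] at this
  exact mul_inv_eq_iff_eq_mul.mp this

variable (H : Hyp)
include H

theorem exists_act (g : pTop) : ∃ A, A ∈ kList 10 ∧ Acts (g : Cfsg.Spor.J4) A :=
  exists_acts_pSub H 10 le_rfl _ g.2

/-- The action of an element. -/
noncomputable def act (g : pTop) : List ℕ := (exists_act H g).choose

theorem act_mem (g : pTop) : act H g ∈ kList 10 := (exists_act H g).choose_spec.1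

theorem acts_act (g : pTop) : Acts (g : Cfsg.Spor.J4) (act H g) := (exists_act H g).choose_spec.2

theorem act_eq {g : pTop} {A : List ℕ} (h : Acts (g : Cfsg.Spor.J4) A) : act H g = A :=
  (acts_act H g).unique H h

theorem act_mul (g h : pTop) : act H (g * h) = mulL (act H g) (act H h) :=
  act_eq H ((acts_act H g).mul (acts_act H h))

theorem act_one : act H 1 = one11 := act_eq H acts_one

theorem act_injective : Function.Injective (act H) := fun a b h =>
  Subtype.ext (eq_of_acts H (pTop_le a.2) (pTop_le b.2) (acts_act H a) (h ▸ acts_act H b))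

/-- The subgroup `M` has the listed actions. -/
def IsListed (k : ℕ) (M : Subgroup pTop) : Prop :=
  M.Normal ∧ (∀ g, g ∈ M ↔ act H g ∈ normals.getD k []) ∧
    ∀ A ∈ normals.getD k [], ∃ g, act H g = A

theorem listed_zero : IsListed H 0 ⊥ := by
  refine ⟨inferInstance, fun g => ?_, fun A hA => ⟨1, ?_⟩⟩
  · rw [Subgroup.mem_bot, normals_zero, List.mem_singleton]
    exact ⟨fun h => h ▸ act_one H, fun h => act_injective H (h.trans (act_one H).symm)⟩
  · rw [normals_zero, List.mem_singleton] at hA
    exact (act_one H).trans hA.symm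

theorem exists_bigger {A0 : Subgroup pTop} [A0.Normal]
    (hc : ∀ a ∈ A0, ∀ b ∈ A0, a * b = b * a) (hsq : ∀ a ∈ A0, a * a = 1)
    {k : ℕ} (hk : k < 23) {M : Subgroup pTop} (hM : IsListed H k M) (hle : M < A0) :
    ∃ k' < 23, ∃ M', IsListed H k' M' ∧ M' ≤ A0 ∧ M < M' := by
  haveI := finite_J4 H
  obtain ⟨hMn, hMiff, hMreal⟩ := hM
  haveI := hMn
  let π := QuotientGroup.mk' M
  haveI : (A0.map π).Normal := Subgroup.Normal.map inferInstance _ (QuotientGroup.mk'_surjective M)
  obtain ⟨_, ⟨a, ha, rfl⟩, hne, hcen⟩ := exists_central_of_normal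
    ((isPGroup_pTop H).to_quotient M) (N := A0.map π) (by
      intro h
      rw [Subgroup.map_eq_bot_iff, QuotientGroup.ker_mk'] at h
      exact (lt_of_lt_of_le hle h).false)
  have haM : a ∉ M := fun h => hne ((QuotientGroup.eq_one_iff a).mpr h)
  have hmem : ∀ g, (π g = 1 ↔ g ∈ M) := fun g => QuotientGroup.eq_one_iff g
  have hsq' : π a * π a = 1 := by rw [← map_mul, hsq a ha, map_one]
  have hN : (normals.getD k []).all (fun g => isRows 11 g) = true := (normals_wf k hk).2
  -- apply the check
  have hchk : extendOK invList (normals.getD k []) (normalGens.getD k []) = true := by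
    exact normals_extend k hk
  have hinv : act H a ∈ invList := by
    refine List.mem_filter.mpr ⟨act_mem H a, matBeq_iff.mpr ?_⟩
    rw [← act_mul, hsq a ha]
    exact act_one H
  have h1 := List.all_eq_true.mp hchk _ hinv
  simp only [Bool.or_eq_true, Bool.not_eq_true'] at h1
  have hG : ∀ x ∈ normalGens.getD k [], x ∈ normals.getD k [] := fun x hx =>
    memMat_iff.mp (List.all_eq_true.mp (normals_wf k hk).1 x hx)
  have hlift : ∀ x ∈ normals.getD k [], ∀ g : pTop, act H g = x → g ∈ M := fun x hx g hg =>
    (hMiff g).mpr (hg ▸ hx)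
  have hpk : ∀ u v : pTop, mulPk (pk (act H u)) (act H v) = pk (act H (u * v)) := fun u v => by
    rw [pk_mulL (acts_act H u).1 (acts_act H v).1, act_mul]
  rcases h1 with ((h1 | h1) | h1) | h1
  · exact absurd (hlift _ (memMat_iff.mp h1) a rfl) haM
  · exfalso
    refine Bool.eq_false_iff.mp h1 (List.all_eq_true.mpr fun x hx => ?_)
    by_cases hx' : ∃ g : pTop, g ∈ A0 ∧ act H g = x
    · obtain ⟨g, hg, rfl⟩ := hx'
      rw [hpk a g, hpk g a, hc a ha g hg]
      exact Nat.beq_refl _
    · exfalso
      obtain ⟨g, hg⟩ := hMreal x (hG x hx)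
      exact hx' ⟨g, hle.le (hlift x (hG x hx) g hg), hg⟩
  · exfalso
    refine Bool.eq_false_iff.mp h1 (List.all_eq_true.mpr fun j hj => List.any_eq_true.mpr ?_)
    have hj' : j < 10 := List.mem_range.mp hj
    let p : pTop := ⟨pcElt j, pcElt_mem_pSub hj'⟩
    have hp : act H p = pcMat j := act_eq H (acts_pcElt H hj')
    refine ⟨act H ((p * a)⁻¹ * (a * p)), (hMiff _).mp ((hmem _).mp ?_), ?_⟩
    · rw [map_mul, map_inv, map_mul, map_mul, hcen (π p), inv_mul_cancel]
    · rw [← hp, hpk, hpk, hpk, mul_inv_cancel_left]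
      exact Nat.beq_refl _
  · obtain ⟨N', hN', hprop⟩ := List.any_eq_true.mp h1
    obtain ⟨k', hk', rfl⟩ := List.getElem_of_mem hN'
    have hk'' : k' < 23 := normals_length.1 ▸ hk'
    rw [Bool.and_eq_true, List.all_eq_true] at hprop
    have hget : normals.getD k' [] = normals[k'] := List.getD_eq_getElem _ _ hk'
    let M' : Subgroup pTop := (Subgroup.zpowers (π a)).comap π
    have hz : ∀ q, q ∈ Subgroup.zpowers (π a) ↔ q = 1 ∨ q = π a := by
      intro q
      constructor
      · rintro ⟨n, rfl⟩
        dsimp only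
        rcases Int.even_or_odd' n with ⟨m, rfl | rfl⟩
        · left; rw [zpow_mul, zpow_two, hsq', one_zpow]
        · right; rw [zpow_add, zpow_mul, zpow_two, hsq', one_zpow, one_mul, zpow_one]
      · rintro (rfl | rfl)
        · exact one_mem _
        · exact Subgroup.mem_zpowers _
    have hmem' : ∀ g, g ∈ M' ↔ g ∈ M ∨ g * a⁻¹ ∈ M := by
      intro g
      rw [Subgroup.mem_comap, hz, hmem, ← hmem (g * a⁻¹), map_mul, map_inv, mul_inv_eq_one]
    have hsub : normals[k'] ⊆ normals.getD k [] ++ (normals.getD k []).map fun x => mulL x (act H a) := by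
      intro z hz'
      have hh := hprop.2 z hz'
      rw [Bool.or_eq_true] at hh
      rcases hh with h | h
      · exact List.mem_append_left _ (memMat_iff.mp h)
      · obtain ⟨x, hx, he⟩ := List.any_eq_true.mp h
        have he := Nat.eq_of_beq_eq_true he
        have hxr : isRows 11 x = true := List.all_eq_true.mp hN x hx
        rw [pk_mulL hxr (acts_act H a).1] at he
        exact List.mem_append_right _ (List.mem_map.mpr ⟨x, hx,
          (eq_of_pk (List.all_eq_true.mp (hget ▸ (normals_wf k' hk'').2) z hz')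
            (isRows_mulL hxr (acts_act H a).1) he).symm⟩)
    have hperm := ((nodup_of_nodupMat (hget ▸ normals_nodup k' hk'')).subperm hsub).perm_of_length_le (by
      have := Nat.eq_of_beq_eq_true hprop.1
      rw [List.length_append, List.length_map]
      omega)
    have hiff : ∀ g, g ∈ M' ↔ act H g ∈ normals.getD k' [] := by
      intro g
      rw [hget, hperm.mem_iff, List.mem_append, List.mem_map, hmem', hMiff g]
      refine or_congr Iff.rfl ⟨fun h => ⟨_, (hMiff _).mp h, by rw [← act_mul, inv_mul_cancel_right]⟩, ?_⟩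
      rintro ⟨x, hx, he⟩
      obtain ⟨g', rfl⟩ := hMreal x hx
      rw [← act_mul] at he
      rw [← act_injective H he, mul_inv_cancel_right]
      exact (hMiff g').mpr hx
    refine ⟨k', hk'', M', ⟨?_, hiff, fun A hA => ?_⟩, ?_, ?_⟩
    · refine Subgroup.Normal.comap ⟨fun n hn q => ?_⟩ π
      rcases (hz n).mp hn with rfl | rfl
      · simp
      · rw [hcen q, mul_inv_cancel_right]; exact Subgroup.mem_zpowers _
    · rw [hget, hperm.mem_iff, List.mem_append, List.mem_map] at hA
      rcases hA with hA | ⟨x, hx, rfl⟩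
      · exact hMreal A hA
      · obtain ⟨g', rfl⟩ := hMreal x hx
        exact ⟨g' * a, act_mul H g' a⟩
    · intro g hg
      rcases (hmem' g).mp hg with h | h
      · exact hle.le h
      · simpa using mul_mem (hle.le h) ha
    · exact lt_of_le_of_ne (fun g hg => (hmem' g).mpr (Or.inl hg)) fun he =>
        haM (he ▸ (hmem' a).mpr (Or.inr (by simp)))

end CfsgLib.JankoFourOut
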