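import Cfsg.Agent.JankoFourOut.EGroup
import Cfsg.Agent.Mathieu.M24Order
import Cfsg.Agent.Mathieu.SmallSimple

/-!
The subgroup `2 ^ 11 : M₂₄` and its action on `2 ^ 11`.
-/

set_option autoImplicit false
set_option linter.style.haveILetI false

namespace CfsgLib.JankoFourOut

open Cfsg.Spor CfsgLib.CosetEnum CfsgLib.JankoFour CfsgLib.JankoFourRep
open scoped Pointwise

variable (H : Hyp)
include H

theorem finite_J4 : Finite Cfsg.Spor.J4 :=
  Nat.finite_of_card_ne_zero (by rw [H.card]; norm_num)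

theorem card_mSub : Nat.card mSub = 244823040 := by
  obtain ⟨e⟩ := H.iso
  rw [Nat.card_congr e.toEquiv, Mathieu.card_M24]

theorem simple_mSub : IsSimpleGroup mSub := by
  obtain ⟨e⟩ := H.iso
  haveI := Mathieu.simple_M24
  haveI : Nontrivial mSub := e.toEquiv.nontrivial
  exact IsSimpleGroup.isSimpleGroup_of_surjective e.symm.toMonoidHom e.symm.surjective

theorem exists_acts_mSub {g : Cfsg.Spor.J4} (hg : g ∈ mSub) : ∃ A, Acts g A := by
  induction hg using Subgroup.closure_induction_left with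
  | one => exact ⟨_, acts_one⟩
  | mul_left s hs y _ ih =>
    obtain ⟨A, hA⟩ := ih
    rcases hs with rfl | rfl
    · exact ⟨_, (acts_x H).mul hA⟩
    · exact ⟨_, (acts_y H).mul hA⟩
  | inv_mul_cancel s hs y _ ih =>
    obtain ⟨A, hA⟩ := ih
    rcases hs with rfl | rfl
    · rw [show xJ⁻¹ = xJ from inv_eq_of_mul_eq_one_right (by rw [← sq]; exact xJ_sq)]
      exact ⟨_, (acts_x H).mul hA⟩
    · exact ⟨_, (acts_yInv H).mul hA⟩

theorem eq_one_of_acts_one {g : Cfsg.Spor.J4} (hg : g ∈ mSub) (h : Acts g one11) : g = 1 := by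
  haveI := simple_mSub H
  let K : Subgroup mSub :=
    { carrier := {a | Acts (a : Cfsg.Spor.J4) one11}
      one_mem' := acts_one
      mul_mem' := fun {a b} ha hb => by
        obtain ⟨A, hA⟩ := exists_acts_mSub H (a * b).2
        refine ⟨isRows_one11, fun m hm => ?_⟩
        have e1 := ha.2 m hm
        have e2 := hb.2 m hm
        rw [rowMul_one11 hm] at e1 e2 ⊢
        rw [Subgroup.coe_mul, mul_inv_rev]
        calc _ = (b : Cfsg.Spor.J4)⁻¹ * ((a : Cfsg.Spor.J4)⁻¹ * eOf m * a) * b := by group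
          _ = _ := by rw [e1, e2]
      inv_mem' := fun {a} ha => by
        refine ⟨isRows_one11, fun m hm => ?_⟩
        have e1 := ha.2 m hm
        rw [rowMul_one11 hm] at e1 ⊢
        rw [Subgroup.coe_inv, inv_inv]
        conv_lhs => rw [← e1]
        group }
  have hn : K.Normal := ⟨fun a ha b => by
    refine ⟨isRows_one11, fun m hm => ?_⟩
    obtain ⟨B, hB⟩ := exists_acts_mSub H b.2
    have e1 := hB.2 m hm
    have hm' : rowMul B m < 2 ^ 11 := rowMul_lt (isRows_iff.mp hB.1).2 m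
    have e2 := ha.2 _ hm'
    rw [rowMul_one11 hm'] at e2
    rw [rowMul_one11 hm, Subgroup.coe_mul, Subgroup.coe_mul, Subgroup.coe_inv]
    calc _ = (b : Cfsg.Spor.J4) * ((a : Cfsg.Spor.J4)⁻¹ * ((b : Cfsg.Spor.J4)⁻¹ * eOf m * b) * a) *
        (b : Cfsg.Spor.J4)⁻¹ := by group
      _ = eOf m := by rw [e1, e2, ← e1]; group⟩
  rcases hn.eq_bot_or_eq_top with hK | hK
  · have : (⟨g, hg⟩ : mSub) ∈ K := h
    rw [hK, Subgroup.mem_bot] at this
    exact congrArg Subtype.val this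
  · exfalso
    have hx : (⟨xJ, Subgroup.subset_closure (Or.inl rfl)⟩ : mSub) ∈ K := by rw [hK]; trivial
    have he : actX = one11 := (acts_x H).unique H hx
    exact absurd he (by decide +kernel)

/-- The subgroup of order `2 ^ 11`. -/
def eSub : Subgroup Cfsg.Spor.J4 where
  carrier := {g | ∃ a < 2 ^ 11, g = eOf a}
  one_mem' := ⟨0, by norm_num, (eOf_zero H).symm⟩
  mul_mem' := by
    rintro _ _ ⟨a, ha, rfl⟩ ⟨b, hb, rfl⟩
    exact ⟨a ^^^ b, Nat.xor_lt_two_pow ha hb, (eOf_xor H a b).symm⟩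
  inv_mem' := by
    rintro _ ⟨a, ha, rfl⟩
    exact ⟨a, ha, eOf_inv H a⟩

theorem mem_eSub {g : Cfsg.Spor.J4} : g ∈ eSub H ↔ ∃ a < 2 ^ 11, g = eOf a := Iff.rfl

theorem eOf_mem {a : ℕ} (ha : a < 2 ^ 11) : eOf a ∈ eSub H := ⟨a, ha, rfl⟩

theorem card_eSub : Nat.card (eSub H) = 2 ^ 11 := by
  rw [← Nat.card_eq_of_bijective (fun a : Fin (2 ^ 11) => (⟨eOf a.val, eOf_mem H a.isLt⟩ : eSub H))
    ⟨fun a b h => Fin.ext (eOf_injective H a.isLt b.isLt (congrArg Subtype.val h)),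
      fun ⟨g, a, ha, hg⟩ => ⟨⟨a, ha⟩, Subtype.ext hg.symm⟩⟩, Nat.card_fin]

theorem eq_one_of_mem_mSub_eSub {g : Cfsg.Spor.J4} (hg : g ∈ mSub) (he : g ∈ eSub H) : g = 1 := by
  obtain ⟨a, -, rfl⟩ := he
  exact eq_one_of_acts_one H hg (acts_eOf H a)

theorem conj_mem_eSub {g : Cfsg.Spor.J4} {A : List ℕ} (h : Acts g A) {z : Cfsg.Spor.J4}
    (hz : z ∈ eSub H) : g⁻¹ * z * g ∈ eSub H := by
  obtain ⟨a, ha, rfl⟩ := hz
  exact ⟨_, rowMul_lt (isRows_iff.mp h.1).2 a, h.2 a ha⟩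

theorem mSub_le_normalizer : mSub ≤ Subgroup.normalizer (eSub H : Set Cfsg.Spor.J4) := by
  intro g hg
  haveI := finite_J4 H
  rw [Subgroup.mem_normalizer_iff_map_conj_eq]
  apply Subgroup.eq_of_le_of_card_ge
  · rintro _ ⟨z, hz, rfl⟩
    obtain ⟨A, hA⟩ := exists_acts_mSub H (inv_mem hg)
    have := conj_mem_eSub H hA hz
    rwa [inv_inv] at this
  · rw [Subgroup.card_map_of_injective (MulEquiv.injective _)]

/-- The subgroup `2 ^ 11 : M₂₄`. -/
def hSub : Subgroup Cfsg.Spor.J4 := mSub ⊔ eSub H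

theorem mem_hSub {g : Cfsg.Spor.J4} : g ∈ hSub H ↔ ∃ m ∈ mSub, ∃ e ∈ eSub H, m * e = g := by
  unfold hSub
  rw [← SetLike.mem_coe, Subgroup.coe_mul_of_left_le_normalizer_right mSub (eSub H) (mSub_le_normalizer H),
    Set.mem_mul]
  rfl

theorem mSub_le_hSub : mSub ≤ hSub H := le_sup_left

theorem eSub_le_hSub : eSub H ≤ hSub H := le_sup_right

theorem card_hSub : Nat.card (hSub H) = 244823040 * 2 ^ 11 := by
  haveI := finite_J4 H
  rw [← card_mSub H, ← card_eSub H, ← Nat.card_prod]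
  refine (Nat.card_eq_of_bijective (fun p : mSub × eSub H =>
    (⟨p.1 * p.2, (mem_hSub H).mpr ⟨_, p.1.2, _, p.2.2, rfl⟩⟩ : hSub H)) ⟨?_, ?_⟩).symm
  · rintro ⟨⟨a, ha⟩, ⟨b, hb⟩⟩ ⟨⟨a', ha'⟩, ⟨b', hb'⟩⟩ h
    have h : a * b = a' * b' := congrArg Subtype.val h
    have h1 : a'⁻¹ * a = b' * b⁻¹ := by
      rw [eq_mul_inv_iff_mul_eq, mul_assoc, h, inv_mul_cancel_left]
    have h2 := eq_one_of_mem_mSub_eSub H (mul_mem (inv_mem ha') ha) (h1 ▸ mul_mem hb' (inv_mem hb))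
    obtain rfl : a' = a := inv_mul_eq_one.mp h2
    simpa using mul_left_cancel h
  · rintro ⟨g, hg⟩
    obtain ⟨m, hm, e, he, rfl⟩ := (mem_hSub H).mp hg
    exact ⟨(⟨m, hm⟩, ⟨e, he⟩), rfl⟩

theorem exists_acts_hSub {g : Cfsg.Spor.J4} (hg : g ∈ hSub H) : ∃ A, Acts g A := by
  obtain ⟨m, hm, _, ⟨a, ha, rfl⟩, rfl⟩ := (mem_hSub H).mp hg
  obtain ⟨A, hA⟩ := exists_acts_mSub H hm
  exact ⟨_, hA.mul (acts_eOf H a)⟩

theorem mem_eSub_of_acts_one {g : Cfsg.Spor.J4} (hg : g ∈ hSub H) (h : Acts g one11) : g ∈ eSub H := by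
  obtain ⟨m, hm, _, ⟨a, ha, rfl⟩, rfl⟩ := (mem_hSub H).mp hg
  have h1 : Acts m one11 := by
    refine ⟨isRows_one11, fun k hk => ?_⟩
    obtain ⟨A, hA⟩ := exists_acts_mSub H hm
    have e1 := h.2 k hk
    rw [rowMul_one11 hk] at e1 ⊢
    have e2 := hA.2 k hk
    rw [mul_inv_rev, eOf_inv H] at e1
    rw [e2]
    calc eOf (rowMul A k) = eOf a * eOf (rowMul A k) * eOf a := by
          rw [(eOf_commute H a _).eq, mul_assoc, eOf_sq H, mul_one]
      _ = eOf a * (m⁻¹ * eOf k * m) * eOf a := by rw [e2]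
      _ = eOf k := by
          conv_rhs => rw [← e1]
          group
  rw [eq_one_of_acts_one H hm h1, one_mul]
  exact eOf_mem H ha

end CfsgLib.JankoFourOut
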