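import Cfsg.Agent.JankoFourOut.Comm0Checks
import Cfsg.Agent.JankoFourOut.Comm1Checks
import Cfsg.Agent.JankoFourOut.EChecks
import Cfsg.Agent.JankoFourOut.AdjustChecks

/-!
Kernel checks relating the two cases to the group, and excluding the last candidate.
-/

set_option autoImplicit false

namespace CfsgLib.JankoFourOut

open CfsgLib.CosetEnum CfsgLib.JankoFourRep

theorem c0X_eq : c0X = rowsOf 0 := by decide +kernel

theorem c0Y_eq : c0Y = rowsOf 1 := by decide +kernel

theorem c0YInv_eq : c0YInv = rowsOf 2 := by decide +kernel

theorem c1Y_eq : c1Y = rowsOf 1 := by decide +kernel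

theorem c1YInv_eq : c1YInv = rowsOf 2 := by decide +kernel

theorem c0TabY_ok : tabOK c0TabY c0Y = true := by decide +kernel

theorem c0TabYInv_ok : tabOK c0TabYInv c0YInv = true := by decide +kernel

theorem c1TabY_ok : tabOK c1TabY c1Y = true := by decide +kernel

theorem c1TabYInv_ok : tabOK c1TabYInv c1YInv = true := by decide +kernel

theorem c1X_isRows : isRows 112 c1X = true := by decide +kernel

theorem c1X_word : isMatTab tab' (0 :: eWord 11 shift1) c1X = true := by decide +kernel

/-- The tables of the images of the generators. -/
def caseTab (TX TY TYI : List ℕ) : ℕ → List ℕ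
  | 0 => TX
  | 1 => TY
  | 2 => TYI
  | _ => tabT

theorem c0Q_word : isMatTab (caseTab c0TabX c0TabY c0TabYInv) qWord c0Q = true := by decide +kernel

theorem c1Q_word : isMatTab (caseTab c1TabX c1TabY c1TabYInv) qWord c1Q = true := by decide +kernel

theorem qWord_letters : qWord.all (fun c => Nat.blt c 3) = true := by decide +kernel

theorem t_comm_x : sameTab tabOf [3, 0] [0, 3] = true := by decide +kernel

theorem t_comm_q : sameTab tabOf (3 :: qWord) (qWord ++ [3]) = true := by decide +kernel

theorem tRels_trivial : tRels.all (fun w => sameTab tabOf w []) = true := by decide +kernel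

theorem c1Cands_eq : c1Cands = [] := by decide +kernel

theorem c0Cands_eq : c0Cands = [6239, 6877] := by decide +kernel

theorem cand6877_eq : ((List.range 112).all fun i =>
    Nat.beq (comm0.app (comm0.im 6877) (Nat.pow 2 i)) ((rowsOf 3).getD i 0)) = true := by
  decide +kernel

theorem cand6239_isRows : isRows 112 c0Cand6239 = true := by decide +kernel

theorem cand6239_eq : ((List.range 112).all fun i =>
    Nat.beq (comm0.app (comm0.im 6239) (Nat.pow 2 i)) (c0Cand6239.getD i 0)) = true := by
  decide +kernel

/-- The letters of the word excluding the last candidate applied to a vector. -/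
def exclStep : List ℕ → ℕ → ℕ
  | [], v => v
  | c :: w, v =>
    force (bif Nat.blt c 4 then rowTab (tabOf c) v else rowFast c0Cand6239 v) fun v' => exclStep w v'

theorem exclKry_length : exclKry.length = 224 ∧ exclRed.length = 224 := by decide +kernel

theorem exclKry_zero : exclKry.getD 0 0 = 2 ^ exclUnit := by decide +kernel

theorem exclUnit_lt : exclUnit < 112 := by decide +kernel

theorem exclKry_step : ((List.range 223).all fun j =>
    Nat.beq (exclStep exclWord (exclKry.getD j 0)) (exclKry.getD (j + 1) 0)) = true := by
  decide +kernel

theorem exclRed_ok : ((List.range 224).all fun j =>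
    Nat.blt (exclRed.getD j 0) (Nat.pow 2 112) &&
      Nat.beq (rowFast exclKry (exclRed.getD j 0)) (exclKry.getD j 0)) = true := by
  decide +kernel

/-- The product of two polynomials modulo the annihilator of the vector. -/
def mulRed (p q : ℕ) : ℕ :=
  rowFast exclRed (rowFast ((List.range 112).map fun i => Nat.shiftLeft q i) p)

/-- Powers by repeated squaring. -/
def ladder : List Bool → ℕ → ℕ
  | [], p => p
  | b :: bs, p =>
    force (mulRed p p) fun s => force (bif b then mulRed s (exclRed.getD 1 0) else s) fun s' => ladder bs s'

/-- The exponent of a list of binary digits. -/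
def expOf : List Bool → ℕ → ℕ
  | [], m => m
  | b :: bs, m => expOf bs (2 * m + bif b then 1 else 0)

/-- The binary digits of the order. -/
def orderBits : List Bool :=
  ((List.range 67).map fun i => Nat.testBit 86775571046077562880 i).reverse

theorem expOf_orderBits : expOf orderBits 0 = 86775571046077562880 := by decide +kernel

theorem excl_ne : Nat.beq (rowFast exclKry (ladder orderBits 1)) (2 ^ exclUnit) = false := by
  decide +kernel

end CfsgLib.JankoFourOut
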