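import Cfsg.Agent.JankoFourOut.Adjust
import Cfsg.Agent.JankoFourOut.MainChecks
import Cfsg.Agent.SporadicOut.Criterion

/-!
The fourth Janko group has no outer automorphism, given its order and faithful representation.
-/

set_option autoImplicit false
set_option linter.style.haveILetI false

namespace CfsgLib.JankoFourOut

open Cfsg.Spor CfsgLib.CosetEnum CfsgLib.JankoFour CfsgLib.JankoFourRep

theorem prodw_map (β : Cfsg.Spor.J4 ≃* Cfsg.Spor.J4) (g : ℕ → Cfsg.Spor.J4) :
    ∀ w : List ℕ, β (prodw g w) = prodw (fun c => β (g c)) w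
  | [] => by simp [prodw]
  | c :: w => by rw [prodw_cons, prodw_cons, map_mul, prodw_map β g w]

theorem evalRow_congr {G G' : ℕ → List ℕ} :
    ∀ w : List ℕ, (∀ c ∈ w, G c = G' c) → ∀ v, evalRow G w v = evalRow G' w v
  | [], _, _ => rfl
  | c :: w, h, v => by
    show force (rowMul (G c) v) (evalRow G w) = force (rowMul (G' c) v) (evalRow G' w)
    rw [force_eq, force_eq, h c List.mem_cons_self,
      evalRow_congr w fun x hx => h x (List.mem_cons_of_mem _ hx)]

/-- The rows of the images of the generators. -/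
def caseRows (X Y YI P : List ℕ) : ℕ → List ℕ
  | 0 => X
  | 1 => Y
  | 2 => YI
  | _ => P

variable (H : Hyp)
include H

theorem eq_one_of_sameTab {w : List ℕ} (h : sameTab tabOf w [] = true) : prodw gen w = 1 := by
  have hs : sameWord rowsOf w [] = true := by
    rw [sameWord, List.all_eq_true]
    intro i hi
    rw [← evalTab_eq tabOf_ok, ← evalTab_eq tabOf_ok]
    exact List.all_eq_true.mp h i hi
  rw [prodw_eq_of_sameWord H hasRows_gen hs, prodw_nil]

theorem eq_of_sameTab {v w : List ℕ} (h : sameTab tabOf v w = true) : prodw gen v = prodw gen w := by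
  refine prodw_eq_of_sameWord H hasRows_gen ?_
  rw [sameWord, List.all_eq_true]
  intro i hi
  rw [← evalTab_eq tabOf_ok, ← evalTab_eq tabOf_ok]
  exact List.all_eq_true.mp h i hi

/-- The member of the commutant of the image of `t` is listed. -/
theorem exists_cand_of_hom (ψ : Cfsg.Spor.J4 ≃* Cfsg.Spor.J4) {C : Comm} (hC : C.Good)
    {kills : List (ℕ × ℕ × ℕ)} {cands TY TYI Y YI : List ℕ}
    (hY : tabOK TY Y = true) (hYI : tabOK TYI YI = true)
    (hkills : ∀ e ∈ kills, C.killOK TY TYI e = true ∧ e.2.2 < 112 ∧ e.2.1 < tRels.length)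
    (hlist : ∀ z < 2 ^ (C.m0 + C.m1), C.listed kills cands z = true)
    (hx : HasRows (ψ xJ) C.X) (hy : HasRows (ψ yJ) Y) (hyi : HasRows (ψ yJ⁻¹) YI)
    (hq : isMatTab (caseTab C.TX TY TYI) qWord C.Q = true) :
    ∃ P, HasRows (ψ tJ) P ∧ ∃ z ∈ cands, ∀ v < 2 ^ 112, rowMul P v = C.app (C.im z) v := by
  obtain ⟨P, hP⟩ := exists_rows (ψ tJ)
  refine ⟨P, hP, ?_⟩
  have hg : ∀ c, HasRows (ψ (gen c)) (caseRows C.X Y YI P c) := by
    intro c
    match c with
    | 0 => exact hx
    | 1 => exact hy
    | 2 => exact hyi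
    | n + 3 => exact hP
  have hq' : HasRows (ψ (prodw gen qWord)) C.Q := by
    rw [prodw_map]
    refine hasRows_prodw hg hC.isQ ?_
    rw [isMat, List.all_eq_true]
    intro i hi
    have h := List.all_eq_true.mp hq i hi
    have hT : ∀ c, tabOK (caseTab C.TX TY TYI c) (caseRows C.X Y YI (rowsOf 3) c) = true := by
      intro c
      match c with
      | 0 => exact hC.tX
      | 1 => exact hY
      | 2 => exact hYI
      | n + 3 => exact tabOf_ok 3
    rw [evalTab_eq hT] at h
    rw [evalRow_congr (G' := caseRows C.X Y YI (rowsOf 3)) qWord fun c hc => ?_]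
    · exact h
    · have hc3 := Nat.blt_eq.mp (List.all_eq_true.mp qWord_letters c hc)
      match c, hc3 with
      | 0, _ => rfl
      | 1, _ => rfl
      | 2, _ => rfl
  have hcx : tJ * xJ = xJ * tJ := by
    have h := eq_of_sameTab H t_comm_x
    simpa [prodw, gen] using h
  have hcq : tJ * prodw gen qWord = prodw gen qWord * tJ := by
    have h := eq_of_sameTab H t_comm_q
    rw [prodw_cons, prodw_append] at h
    simpa [prodw, gen] using h
  refine exists_cand hC hY hYI hkills hlist (g := fun c => ψ (gen c)) hg rfl rfl rfl (P := P)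
    (fun n => rfl) (fun a => ?_) (fun w hw => ?_)
  · unfold Comm.rows
    cases Nat.beq a 0
    · exact (hP.mul hq').unique (by rw [← map_mul, hcq, map_mul]; exact hq'.mul hP)
    · exact (hP.mul hx).unique (by rw [← map_mul, hcx, map_mul]; exact hx.mul hP)
  · rw [← prodw_map, eq_one_of_sameTab H (List.all_eq_true.mp tRels_trivial w hw), map_one]

theorem not_cand6239 {g : Cfsg.Spor.J4} : ¬ HasRows g c0Cand6239 := by
  intro hg
  let g' : ℕ → Cfsg.Spor.J4 := fun c => bif Nat.blt c 4 then gen c else g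
  let G' : ℕ → List ℕ := fun c => bif Nat.blt c 4 then rowsOf c else c0Cand6239
  have hg' : ∀ c, HasRows (g' c) (G' c) := by
    intro c
    simp only [g', G']
    cases Nat.blt c 4
    · exact hg
    · exact hasRows_gen c
  obtain ⟨L, hL, hLv⟩ := exists_rows_prodw hg' exclWord
  set f := rowMul L with hf
  have hstep : ∀ w v, exclStep w v = evalRow G' w v := by
    intro w
    induction w with
    | nil => intro v; rfl
    | cons c w ih =>
      intro v
      show force _ _ = force (rowMul (G' c) v) (evalRow G' w)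
      rw [force_eq, force_eq, ih]
      congr 1
      simp only [G']
      cases Nat.blt c 4
      · simp only [cond_false]; exact rowFast_eq _ _
      · simp only [cond_true]; exact rowTab_eq _ _ (tabOf_ok c) v
  have hflt : ∀ v, f v < 2 ^ 112 := fun v => rowMul_lt (isRows_iff.mp hL.1).2 v
  have hfx : ∀ n a b, f^[n] (a ^^^ b) = f^[n] a ^^^ f^[n] b := by
    intro n a b
    induction n with
    | zero => rfl
    | succ n ih =>
      rw [Function.iterate_succ_apply', Function.iterate_succ_apply', Function.iterate_succ_apply', ih]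
      exact rowMul_xor _ _ _
  set v₀ := 2 ^ exclUnit with hv₀
  have hv₀lt : v₀ < 2 ^ 112 := Nat.pow_lt_pow_right (by norm_num) exclUnit_lt
  have hK : ∀ j < 224, f^[j] v₀ = exclKry.getD j 0 ∧ f^[j] v₀ < 2 ^ 112 := by
    intro j
    induction j with
    | zero => intro _; exact ⟨exclKry_zero.symm, hv₀lt⟩
    | succ j ih =>
      intro hj
      obtain ⟨h1, h2⟩ := ih (by omega)
      rw [Function.iterate_succ_apply']
      refine ⟨?_, hflt _⟩
      have h := Nat.eq_of_beq_eq_true (List.all_eq_true.mp exclKry_step j (List.mem_range.mpr (by omega)))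
      rw [← h, ← h1, hstep, ← hLv _ h2]
  have hrow : ∀ i, rowMul exclKry (2 ^ i) = exclKry.getD i 0 := rowMul_two_pow _
  have hmul : ∀ a b p q, p < 2 ^ 112 → q < 2 ^ 112 → f^[a] v₀ = rowMul exclKry p →
      f^[b] v₀ = rowMul exclKry q → f^[a + b] v₀ = rowMul exclKry (mulRed p q) ∧ mulRed p q < 2 ^ 112 := by
    intro a b p q hp hq ha hb
    have hred : ∀ r < 2 ^ 224, rowMul exclKry (rowMul exclRed r) = rowMul exclKry r := by
      refine IsLin.eq_of_units (IsLin.of_xor fun x y => by rw [rowMul_xor, rowMul_xor])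
        (isLin_rowMul 224 exclKry) fun i hi => ?_
      have h := List.all_eq_true.mp exclRed_ok i (List.mem_range.mpr hi)
      rw [Bool.and_eq_true, rowFast_eq] at h
      rw [rowMul_two_pow exclRed, hrow]
      exact Nat.eq_of_beq_eq_true h.2
    set S := (List.range 112).map fun i => Nat.shiftLeft q i with hS
    have hSlt : ∀ x ∈ S, x < 2 ^ 224 := by
      intro x hx
      obtain ⟨i, hi, rfl⟩ := List.mem_map.mp hx
      show q <<< i < 2 ^ 224
      rw [Nat.shiftLeft_eq, show (224 : ℕ) = 112 + 112 by rfl, pow_add]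
      exact Nat.mul_lt_mul_of_lt_of_le hq
        (Nat.pow_le_pow_right (by norm_num) (le_of_lt (List.mem_range.mp hi))) (by positivity)
    have hlt : mulRed p q < 2 ^ 112 := by
      rw [mulRed, rowFast_eq, rowFast_eq]
      refine rowMul_lt (fun x hx => ?_) _
      obtain ⟨j, hj, rfl⟩ := List.getElem_of_mem hx
      have h := List.all_eq_true.mp exclRed_ok j (List.mem_range.mpr (exclKry_length.2 ▸ hj))
      rw [Bool.and_eq_true, List.getD_eq_getElem _ _ hj] at h
      exact Nat.blt_eq.mp h.1
    refine ⟨?_, hlt⟩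
    rw [mulRed, rowFast_eq, rowFast_eq, hred _ (rowMul_lt hSlt p), Nat.add_comm a b,
      Function.iterate_add_apply, ha]
    refine IsLin.eq_of_units (f := fun u => f^[b] (rowMul exclKry u))
      (g := fun u => rowMul exclKry (rowMul S u))
      (IsLin.of_xor fun x y => by rw [rowMul_xor, hfx])
      (IsLin.of_xor fun x y => by rw [rowMul_xor, rowMul_xor]) (fun i hi => ?_) p hp
    rw [hrow, ← (hK i (by omega)).1, ← Function.iterate_add_apply, Nat.add_comm b i,
      Function.iterate_add_apply, hb, rowMul_two_pow, hS, List.getD_eq_getElem _ _ (by simpa using hi),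
      List.getElem_map, List.getElem_range]
    show f^[i] (rowMul exclKry q) = rowMul exclKry (q <<< i)
    refine IsLin.eq_of_units (f := fun u => f^[i] (rowMul exclKry u))
      (g := fun u => rowMul exclKry (u <<< i))
      (IsLin.of_xor fun x y => by rw [rowMul_xor, hfx])
      (IsLin.of_xor fun x y => by rw [Nat.shiftLeft_xor_distrib, rowMul_xor]) (fun k hk => ?_) q hq
    rw [hrow, ← (hK k (by omega)).1, ← Function.iterate_add_apply,
      show (2 : ℕ) ^ k <<< i = 2 ^ (i + k) by rw [Nat.shiftLeft_eq, ← pow_add, Nat.add_comm], hrow,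
      ← (hK (i + k) (by omega)).1]
  have h1 : f^[1] v₀ = rowMul exclKry (exclRed.getD 1 0) ∧ exclRed.getD 1 0 < 2 ^ 112 := by
    have h := List.all_eq_true.mp exclRed_ok 1 (List.mem_range.mpr (by norm_num))
    rw [Bool.and_eq_true, rowFast_eq] at h
    exact ⟨(hK 1 (by norm_num)).1.trans (Nat.eq_of_beq_eq_true h.2).symm, Nat.blt_eq.mp h.1⟩
  have hlad : ∀ bs m p, p < 2 ^ 112 → f^[m] v₀ = rowMul exclKry p →
      f^[expOf bs m] v₀ = rowMul exclKry (ladder bs p) := by
    intro bs
    induction bs with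
    | nil => intro m p _ h; exact h
    | cons b bs ih =>
      intro m p hp h
      rw [expOf, ladder, force_eq, force_eq]
      obtain ⟨hsq, hsql⟩ := hmul m m p p hp hp h h
      cases b
      · rw [cond_false, cond_false, Nat.add_zero, two_mul]
        exact ih _ _ hsql hsq
      · rw [cond_true, cond_true, two_mul]
        obtain ⟨hs1, hs1l⟩ := hmul (m + m) 1 _ _ hsql h1.2 hsq h1.1
        exact ih _ _ hs1l hs1
  have hfin := hlad orderBits 0 1 (Nat.one_lt_two_pow (by norm_num)) (by
    rw [← pow_zero 2, hrow, exclKry_zero]; rfl)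
  rw [expOf_orderBits] at hfin
  have hpow : ∀ n, ∃ M, HasRows (prodw g' exclWord ^ n) M ∧ rowMul M v₀ = f^[n] v₀ := by
    intro n
    induction n with
    | zero => exact ⟨oneL, by rw [pow_zero]; exact hasRows_one, rowMul_oneL hv₀lt⟩
    | succ n ih =>
      obtain ⟨M, hM, hMv⟩ := ih
      exact ⟨mulL M L, by rw [pow_succ]; exact hM.mul hL,
        by rw [rowMul_mulL, hMv, Function.iterate_succ_apply']⟩
  obtain ⟨M, hM, hMv⟩ := hpow (Nat.card Cfsg.Spor.J4)
  rw [pow_card_eq_one'] at hM
  rw [hM.unique hasRows_one, rowMul_oneL hv₀lt, H.card, hfin, ← rowFast_eq] at hMv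
  have := excl_ne
  rw [← hv₀, ← hMv, Nat.beq_refl] at this
  exact Bool.noConfusion this

/-- The main theorem, given the order and the representation. -/
theorem card_out_J4 : Nat.card (Cfsg.Out Cfsg.Spor.J4) = 1 := by
  refine CfsgLib.SporadicOut.card_out_eq_one (ι := Fin 3) ![xJ, yJ, tJ] ?_ fun φ => ?_
  · rw [eq_top_iff]
    intro g hg
    clear hg
    obtain ⟨w, rfl⟩ := exists_word g
    induction w with
    | nil => rw [prodw_nil]; exact one_mem _
    | cons c w ih =>
      rw [prodw_cons]
      refine mul_mem ?_ ih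
      have hmem : ∀ i : Fin 3, ![xJ, yJ, tJ] i ∈ Subgroup.closure (Set.range ![xJ, yJ, tJ]) :=
        fun i => Subgroup.subset_closure ⟨i, rfl⟩
      match c with
      | 0 => exact hmem 0
      | 1 => exact hmem 1
      | 2 => exact inv_mem (hmem 1)
      | n + 3 => exact hmem 2
  obtain ⟨g, hg⟩ := exists_adjust H φ
  refine ⟨g, ?_⟩
  let ψ : Cfsg.Spor.J4 ≃* Cfsg.Spor.J4 := MulEquiv.trans φ (MulAut.conj g)
  have hψ : ∀ z, ψ z = g * φ z * g⁻¹ := fun z => rfl
  rcases hg with ⟨hx, hy⟩ | ⟨hx, hy⟩
  · have hyi : ψ yJ⁻¹ = yJ⁻¹ := by rw [map_inv, hψ, hy]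
    obtain ⟨P, hP, z, hz, hzP⟩ := exists_cand_of_hom H ψ comm0_good c0TabY_ok c0TabYInv_ok comm0_kills
      comm0_listed (by rw [hψ, hx, show comm0.X = rowsOf 0 from c0X_eq]; exact hasRows_gen 0)
      (by rw [hψ, hy, c0Y_eq]; exact hasRows_gen 1) (by rw [hyi, c0YInv_eq]; exact hasRows_gen 2) c0Q_word
    have hP' : ∀ A : List ℕ, isRows 112 A = true →
        ((List.range 112).all fun i => Nat.beq (comm0.app (comm0.im z) (Nat.pow 2 i)) (A.getD i 0)) = true →
        P = A := by
      intro A hA hAz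
      refine rows_ext (isRows_iff.mp hP.1).1 (isRows_iff.mp hA).1 fun i hi => ?_
      rw [rowMul_two_pow A, hzP _ (Nat.pow_lt_pow_right (by norm_num) hi)]
      exact Nat.eq_of_beq_eq_true (List.all_eq_true.mp hAz i (List.mem_range.mpr hi))
    rw [c0Cands_eq] at hz
    simp only [List.mem_cons, List.not_mem_nil, or_false] at hz
    rcases hz with rfl | rfl
    · exact absurd (hP' _ cand6239_isRows cand6239_eq ▸ hP) (not_cand6239 H)
    · have ht : ψ tJ = tJ :=
        (hP' _ (isRows_rowsOf 3) cand6877_eq ▸ hP).eq H (hasRows_gen 3)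
      intro i
      fin_cases i
      · exact hx
      · exact hy
      · exact ht
  · exfalso
    have hyi : ψ yJ⁻¹ = yJ⁻¹ := by rw [map_inv, hψ, hy]
    have hx1 : HasRows (xJ * eOf shift1) c1X := by
      rw [show xJ * eOf shift1 = prodw gen' (0 :: eWord 11 shift1) by
        rw [prodw_cons, ← eUpTo_eq_prodw]; rfl]
      refine hasRows_prodw hasRows_gen' c1X_isRows ?_
      exact isMat_of_isMatTab tab'_ok c1X_word
    obtain ⟨P, -, z, hz, -⟩ := exists_cand_of_hom H ψ comm1_good c1TabY_ok c1TabYInv_ok comm1_kills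
      comm1_listed (by rw [hψ, hx]; exact hx1) (by rw [hψ, hy]; rw [c1Y_eq]; exact hasRows_gen 1)
      (by rw [hyi, c1YInv_eq]; exact hasRows_gen 2) c1Q_word
    rw [c1Cands_eq] at hz
    exact List.not_mem_nil hz

end CfsgLib.JankoFourOut
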