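import Cfsg.Agent.JankoFourOut.Sylow
import Cfsg.Agent.JankoFourOut.Fixed
import Cfsg.Agent.JankoFourOut.NormChecks
import Cfsg.Agent.JankoFourOut.CountLemmas

/-!
The normaliser of the subgroup of order `2 ^ 11` is `2 ^ 11 : M₂₄`.
-/

set_option autoImplicit false
set_option linter.style.haveILetI false

namespace CfsgLib.JankoFourOut

open Cfsg.Spor CfsgLib.CosetEnum CfsgLib.JankoFour CfsgLib.JankoFourRep

variable (H : Hyp)
include H

/-- The normaliser. -/
def nSub : Subgroup Cfsg.Spor.J4 := Subgroup.normalizer (eSub H : Set Cfsg.Spor.J4)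

theorem exists_acts_nSub {g : Cfsg.Spor.J4} (hg : g ∈ nSub H) : ∃ A, Acts g A := by
  have h : ∀ i : Fin 11, ∃ a < 2 ^ 11, g⁻¹ * eOf (2 ^ i.val) * g = eOf a := fun i => by
    have := ((Subgroup.mem_normalizer_iff.mp (inv_mem hg)) (eOf (2 ^ i.val))).mp
      (eOf_mem H (Nat.pow_lt_pow_right (by norm_num) i.isLt))
    rw [inv_inv] at this
    exact (mem_eSub H).mp this
  choose a ha hga using h
  refine ⟨List.ofFn a, acts_of_units H (isRows_iff.mpr ⟨List.length_ofFn, ?_⟩) fun i hi => ?_⟩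
  · intro x hx
    obtain ⟨i, rfl⟩ := List.mem_ofFn.mp hx
    exact ha i
  · rw [rowMul_two_pow, List.getD_eq_getElem _ _ (by simpa using hi), List.getElem_ofFn]
    exact hga ⟨i, hi⟩

theorem mem_nSub_of_acts {g : Cfsg.Spor.J4} {A : List ℕ} (h : Acts g A) : g ∈ nSub H := by
  haveI := finite_J4 H
  rw [nSub, ← inv_mem_iff (x := g), Subgroup.mem_normalizer_iff_map_conj_eq]
  apply Subgroup.eq_of_le_of_card_ge
  · rintro _ ⟨z, hz, rfl⟩
    have := conj_mem_eSub H h hz
    simpa using this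
  · rw [Subgroup.card_map_of_injective (MulEquiv.injective _)]

theorem hSub_le_nSub : hSub H ≤ nSub H := fun g hg => by
  obtain ⟨A, hA⟩ := exists_acts_hSub H hg
  exact mem_nSub_of_acts H hA

omit H in
theorem acts_inv_one {g : Cfsg.Spor.J4} (h : Acts g one11) : Acts g⁻¹ one11 :=
  ⟨isRows_one11, fun m hm => by
    have e := h.2 m hm
    rw [rowMul_one11 hm] at e ⊢
    conv_lhs => rw [← e]
    group⟩

/-- The centraliser of the subgroup of order `2 ^ 11`. -/
def cSub : Subgroup Cfsg.Spor.J4 where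
  carrier := {z | Acts z one11}
  one_mem' := acts_one
  mul_mem' := fun {a b} ha hb => by
    have h := ha.mul hb
    rwa [show mulL one11 one11 = one11 by decide +kernel] at h
  inv_mem' := fun {a} ha => acts_inv_one ha

omit H in
theorem commute_of_acts_one {z : Cfsg.Spor.J4} (h : Acts z one11) {m : ℕ} (hm : m < 2 ^ 11) :
    Commute z (eOf m) := by
  have e := h.2 m hm
  rw [rowMul_one11 hm] at e
  calc z * eOf m = z * (z⁻¹ * eOf m * z) := by rw [e]
    _ = eOf m * z := by group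

omit H in
theorem eUpTo_congr : ∀ (n a b : ℕ), (∀ i < n, a.testBit i = b.testBit i) → eUpTo n a = eUpTo n b
  | 0, _, _, _ => rfl
  | n + 1, a, b, h => by
    rw [eUpTo, eUpTo, eUpTo_congr n a b (fun i hi => h i (by omega)), h n (by omega)]

omit H in
theorem eOf_two_pow {k : ℕ} (hk : k < 11) : eOf (2 ^ k) = eI k := by
  suffices ∀ n ≤ 11, eUpTo n (2 ^ k) = if k < n then eI k else 1 by
    rw [eOf, this 11 le_rfl, if_pos hk]
  intro n hn
  induction n with
  | zero => simp [eUpTo]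
  | succ n ih =>
    rw [eUpTo, ih (by omega), Nat.testBit_two_pow]
    rcases lt_trichotomy k n with h | h | h
    · simp [h, Nat.lt_succ_of_lt h, Nat.ne_of_lt h]
    · subst h; simp
    · simp [Nat.not_lt.mpr h.le, Nat.ne_of_gt h, show ¬ k < n + 1 by omega]

theorem cSub_eq : cSub = eSub H := by
  haveI := finite_J4 H
  haveI : Fact (Nat.Prime 2) := ⟨Nat.prime_two⟩
  refine le_antisymm ?_ fun g hg => by
    obtain ⟨a, -, rfl⟩ := hg
    exact acts_eOf H a
  have hp : IsPGroup 2 (cSub) := by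
    intro z
    refine ⟨(orderOf (z : Cfsg.Spor.J4)).factorization 2, Subtype.ext ?_⟩
    rw [Subgroup.coe_pow, Subgroup.coe_one]
    set k := (orderOf (z : Cfsg.Spor.J4)).factorization 2
    have hne : orderOf (z : Cfsg.Spor.J4) ≠ 0 := (orderOf_pos _).ne'
    refine eq_one_of_odd H ?_ fun j hj => ?_
    · rw [orderOf_pow_of_dvd (by positivity) (Nat.ordProj_dvd _ 2), Nat.odd_iff, ← Nat.two_dvd_ne_zero]
      exact Nat.not_dvd_ordCompl Nat.prime_two hne
    · rw [← eOf_two_pow hj]
      exact (commute_of_acts_one z.2 (Nat.pow_lt_pow_right (by norm_num) hj)).pow_left _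
  have hs : sSub H ≤ Subgroup.normalizer (cSub : Set Cfsg.Spor.J4) := by
    intro g hg
    have hgn : g ∈ nSub H := hSub_le_nSub H (sSub_le_hSub H hg)
    rw [← inv_mem_iff, Subgroup.mem_normalizer_iff_map_conj_eq]
    apply Subgroup.eq_of_le_of_card_ge
    · rintro _ ⟨z, hz, rfl⟩
      obtain ⟨A, hA⟩ := exists_acts_nSub H hgn
      refine ⟨isRows_one11, fun m hm => ?_⟩
      rw [rowMul_one11 hm]
      obtain ⟨B, hB⟩ := exists_acts_nSub H (inv_mem hgn)
      have hm' : rowMul B m < 2 ^ 11 := rowMul_lt (isRows_iff.mp hB.1).2 m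
      have e1 := hB.2 m hm
      have e2 := hz.2 _ hm'
      rw [rowMul_one11 hm'] at e2
      show (g⁻¹ * z * (g⁻¹)⁻¹)⁻¹ * eOf m * (g⁻¹ * z * (g⁻¹)⁻¹) = eOf m
      calc _ = g⁻¹ * (z⁻¹ * ((g⁻¹)⁻¹ * eOf m * g⁻¹) * z) * g := by group
        _ = eOf m := by rw [e1, e2, ← e1]; group
    · rw [Subgroup.card_map_of_injective (MulEquiv.injective _)]
  have h2 : IsPGroup 2 (sSub H ⊔ cSub : Subgroup Cfsg.Spor.J4) :=
    (IsPGroup.of_card (card_sSub H)).to_sup_of_normal_right' hp hs
  have h3 := (sylow H).is_maximal' h2 le_sup_left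
  intro z hz
  have : z ∈ sSub H := by
    have h := (le_sup_right : cSub ≤ sSub H ⊔ cSub) hz
    rw [h3] at h
    exact h
  exact mem_eSub_of_acts_one H (sSub_le_hSub H this) hz

theorem mem_eSub_of_acts {z : Cfsg.Spor.J4} (h : Acts z one11) : z ∈ eSub H := cSub_eq H ▸ h

/-- The action. -/
noncomputable def nAct (g : nSub H) : List ℕ := (exists_acts_nSub H g.2).choose

theorem acts_nAct (g : nSub H) : Acts (g : Cfsg.Spor.J4) (nAct H g) := (exists_acts_nSub H g.2).choose_spec

theorem nAct_eq {g : nSub H} {A : List ℕ} (h : Acts (g : Cfsg.Spor.J4) A) : nAct H g = A :=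
  (acts_nAct H g).unique H h

theorem nAct_mul (g h : nSub H) : nAct H (g * h) = mulL (nAct H g) (nAct H h) :=
  nAct_eq H ((acts_nAct H g).mul (acts_nAct H h))

/-- The element of order 23. -/
def pElt : Cfsg.Spor.J4 := xJ * yJ

theorem acts_pElt : Acts pElt pMat := pMat_eq ▸ (acts_x H).mul (acts_y H)

omit H in
theorem pElt_mem : pElt ∈ mSub :=
  mul_mem (gen_mem_mSub (c := 0) (by norm_num)) (gen_mem_mSub (c := 1) (by norm_num))

theorem acts_pElt_pow : ∀ n, ∃ A, Acts (pElt ^ n) A ∧ ∀ v < 2 ^ 11, rowMul A v = pIter n v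
  | 0 => ⟨one11, by rw [pow_zero]; exact acts_one, fun v hv => rowMul_one11 hv⟩
  | n + 1 => by
    obtain ⟨A, hA, hv⟩ := acts_pElt_pow n
    refine ⟨mulL A pMat, by rw [pow_succ]; exact hA.mul (acts_pElt H), fun v hv' => ?_⟩
    rw [rowMul_mulL, hv v hv', pIter, rowFast_eq]

theorem pElt_pow : pElt ^ 23 = 1 := by
  obtain ⟨A, hA, hv⟩ := acts_pElt_pow H 23
  refine eq_one_of_acts_one H (pow_mem pElt_mem _) ?_
  rwa [← show A = one11 from rows_ext (isRows_iff.mp hA.1).1 (isRows_iff.mp isRows_one11).1 fun i hi => by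
    have hp : (2 : ℕ) ^ i < 2 ^ 11 := Nat.pow_lt_pow_right (by norm_num) hi
    rw [hv _ hp, rowMul_one11 hp]
    exact Nat.eq_of_beq_eq_true (List.all_eq_true.mp pMat_pow23 i (List.mem_range.mpr hi))]

theorem orderOf_pElt : orderOf pElt = 23 := by
  haveI : Fact (Nat.Prime 23) := ⟨by norm_num⟩
  refine orderOf_eq_prime (pElt_pow H) fun h => pMat_ne ?_
  exact (acts_pElt H).unique H (h ▸ acts_one)

theorem commute_pElt_pow {c : Cfsg.Spor.J4} (hc : c ∈ nSub H) (hcp : Commute c pElt) :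
    c ^ 2047 = 1 := by
  let g : nSub H := ⟨c, hc⟩
  have hA : ∀ n : ℕ, ∀ A, Acts (c ^ n) A → mulL A pMat = mulL pMat A := by
    intro n A hA
    refine (hA.mul (acts_pElt H)).unique H ?_
    rw [(hcp.pow_left n).eq]
    exact (acts_pElt H).mul hA
  have hrow : ∀ n : ℕ, ∀ A, Acts (c ^ n) A → ∀ u < 2 ^ 11,
      rowMul A u = rowMul (kryOf (rowMul A 1)) (rowMul kryInv u) := by
    intro n A hA' u hu
    have hcomm : ∀ k x, rowMul A (pIter k x) = pIter k (rowMul A x) := by
      intro k x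
      induction k with
      | zero => rfl
      | succ k ih =>
        rw [pIter, pIter, ← ih, rowFast_eq, rowFast_eq, ← rowMul_mulL, ← rowMul_mulL, hA n A hA']
    have hkry : mulL (kryOf 1) A = kryOf (rowMul A 1) := by
      simp only [kryOf, mulL, List.map_cons, List.map_nil, hcomm]
    rw [← hkry, rowMul_mulL, ← rowMul_mulL kryInv (kryOf 1), kry_ok]
    exact congrArg (rowMul A) (rowMul_one11 hu).symm
  have hsq : ∀ k, rowMul (nAct H (g ^ 2 ^ k)) 1 = sqIter k (rowMul (nAct H g) 1) := by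
    intro k
    suffices ∀ j, rowMul (nAct H (g ^ 2 ^ (j + k))) 1 = sqIter k (rowMul (nAct H (g ^ 2 ^ j)) 1) by
      simpa using this 0
    induction k with
    | zero => intro j; rfl
    | succ k ih =>
      intro j
      rw [show j + (k + 1) = (j + 1) + k by omega, ih (j + 1), sqIter, force_eq]
      congr 1
      rw [pow_succ, pow_mul, pow_two, nAct_mul, rowMul_mulL, sqVec, force_eq, rowFast_eq, rowFast_eq]
      have hact : Acts (c ^ 2 ^ j) (nAct H (g ^ 2 ^ j)) := by
        have := acts_nAct H (g ^ 2 ^ j)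
        rwa [Subgroup.coe_pow] at this
      exact hrow _ _ hact _ (rowMul_lt (isRows_iff.mp hact.1).2 1)
  have h11 : nAct H (g ^ 2 ^ 11) = nAct H g := by
    have h1 := hsq 11
    rw [sq_ok (rowMul_lt (isRows_iff.mp (acts_nAct H g).1).2 1)] at h1
    refine rows_ext (isRows_iff.mp (acts_nAct H _).1).1 (isRows_iff.mp (acts_nAct H g).1).1 fun i hi => ?_
    have hp : (2 : ℕ) ^ i < 2 ^ 11 := Nat.pow_lt_pow_right (by norm_num) hi
    have e1 := hrow (2 ^ 11) (nAct H (g ^ 2 ^ 11)) (by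
        have := acts_nAct H (g ^ 2 ^ 11)
        rwa [Subgroup.coe_pow] at this) _ hp
    have e2 := hrow 1 (nAct H g) (by rw [pow_one]; exact acts_nAct H g) _ hp
    rw [e1, e2, h1]
  have h2047 : Acts (c ^ 2047) one11 := by
    obtain ⟨B, hB⟩ := exists_acts_nSub H (inv_mem hc)
    have e : mulL (nAct H g) B = one11 :=
      ((acts_nAct H g).mul hB).unique H (by simp only [g, mul_inv_cancel]; exact acts_one)
    rw [← e, ← h11]
    have : c ^ 2047 = ((g ^ 2 ^ 11 : nSub H) : Cfsg.Spor.J4) * c⁻¹ := by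
      rw [Subgroup.coe_pow, show ((g : nSub H) : Cfsg.Spor.J4) = c from rfl,
        show (2 : ℕ) ^ 11 = 2047 + 1 by norm_num, pow_succ c 2047, mul_inv_cancel_right]
    rw [this]
    exact (acts_nAct H _).mul hB
  obtain ⟨a, ha, hca⟩ := mem_eSub_of_acts H h2047
  have hfix : rowMul pMat a = a := by
    refine eOf_injective H (rowMul_lt (isRows_iff.mp pMat_isRows).2 a) ha ?_
    rw [← (acts_pElt H).2 a ha, ← hca, mul_assoc, (hcp.pow_left 2047).eq, inv_mul_cancel_left]
  have h0 := List.all_eq_true.mp pMat_fixed_free a (List.mem_range.mpr (by simpa using ha))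
  rw [rowFast_eq, hfix, Nat.beq_refl] at h0
  have : a = 0 := Nat.eq_of_beq_eq_true (by simpa using h0)
  rw [hca, this, eOf_zero H]

theorem count_eq (K : Subgroup Cfsg.Spor.J4) (hle : K ≤ nSub H) (hp : pElt ∈ K) :
    ∃ n a, n % 23 = 1 ∧ a ∣ 22 ∧ Nat.card K = 23 * a * n := by
  haveI := finite_J4 H
  have hd : Nat.card K ∣ 86775571046077562880 := H.card ▸ Subgroup.card_subgroup_dvd_card K
  refine sylow_count (p := (⟨pElt, hp⟩ : K)) (by rw [Subgroup.orderOf_mk, orderOf_pElt H]) ?_ ?_ ?_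
  · exact (Nat.gcd_dvd_gcd_of_dvd_right 2047 hd).trans (by norm_num)
  · intro h
    exact absurd (h.trans hd) (by norm_num)
  · intro c hc
    exact Subtype.ext (by
      rw [Subgroup.coe_pow, Subgroup.coe_one]
      exact commute_pElt_pow H (hle c.2) (congrArg Subtype.val hc.eq))

theorem nSub_eq : nSub H = hSub H := by
  haveI := finite_J4 H
  obtain ⟨d, hd⟩ := Subgroup.card_dvd_of_le (hSub_le_nSub H)
  let φ : nSub H →* Matrix (Fin 11) (Fin 11) (ZMod 2) :=
    { toFun := fun g => mat11 (nAct H g)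
      map_one' := by rw [nAct_eq H (g := 1) acts_one, one11, mat11_one]
      map_mul' := fun g h => by
        rw [nAct_mul, mat11_mulL (isRows_iff.mp (acts_nAct H g).1).1 (isRows_iff.mp (acts_nAct H h).1).1] }
  have hker : Nat.card φ.toHomUnits.ker = 2 ^ 11 := by
    rw [show φ.toHomUnits.ker = (eSub H).subgroupOf (nSub H) from ?_,
      Nat.card_congr (Subgroup.subgroupOfEquivOfLe ((eSub_le_hSub H).trans (hSub_le_nSub H))).toEquiv,
      card_eSub H]
    ext g
    rw [MonoidHom.mem_ker, Units.ext_iff, MonoidHom.coe_toHomUnits, Units.val_one, Subgroup.mem_subgroupOf]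
    constructor
    · intro h
      have h' : nAct H g = one11 :=
        mat11_inj (acts_nAct H g).1 isRows_one11 (h.trans mat11_one.symm)
      exact mem_eSub_of_acts H (h' ▸ acts_nAct H g)
    · rintro ⟨a, -, ha⟩
      show mat11 (nAct H g) = 1
      rw [nAct_eq H (ha ▸ acts_eOf H a), one11, mat11_one]
  have hr := Subgroup.card_subgroup_dvd_card φ.toHomUnits.range
  rw [card_gl11] at hr
  have htot := φ.toHomUnits.ker.card_mul_index
  rw [Subgroup.index_ker, hker, hd, card_hSub H] at htot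
  have hrange : Nat.card φ.toHomUnits.range = 244823040 * d := by
    have : 2 ^ 11 * Nat.card φ.toHomUnits.range = 2 ^ 11 * (244823040 * d) := by rw [htot]; ring
    exact Nat.eq_of_mul_eq_mul_left (by norm_num) this
  rw [hrange] at hr
  have hd1 : d ∣ 173067389 := by
    have h := Subgroup.card_subgroup_dvd_card (nSub H)
    rw [hd, card_hSub H, H.card,
      show (86775571046077562880 : ℕ) = 244823040 * 2 ^ 11 * 173067389 by norm_num] at h
    exact Nat.dvd_of_mul_dvd_mul_left (by norm_num) h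
  have hd31 : d ∣ 31 := by
    have h2 : d ∣ (∏ i : Fin 11, (2 ^ 11 - 2 ^ (i : ℕ))) / 244823040 := Nat.dvd_div_of_mul_dvd hr
    exact (Nat.dvd_gcd hd1 h2).trans (by decide +kernel)
  rcases (Nat.dvd_prime (by norm_num : Nat.Prime 31)).mp hd31 with rfl | rfl
  · exact (Subgroup.eq_of_le_of_card_ge (hSub_le_nSub H) (by rw [hd, mul_one])).symm
  · exfalso
    obtain ⟨n, a, hn, ha, hN⟩ := count_eq H (nSub H) le_rfl
      (hSub_le_nSub H (mSub_le_hSub H pElt_mem))
    obtain ⟨m, b, hm, hb, hH⟩ := count_eq H (hSub H) (hSub_le_nSub H) (mSub_le_hSub H pElt_mem)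
    refine no_index_31 (d := 31) hn hm ha hb ?_ rfl
    rw [← hN, hd, hH, mul_comm]

end CfsgLib.JankoFourOut
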