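import Cfsg.Agent.JankoFourOut.Fast
import Mathlib.Tactic.Ring

/-!
Matrices of size eleven packed into one number.
-/

set_option autoImplicit false

namespace CfsgLib.JankoFourOut

open CfsgLib.JankoFourRep

/-- The rows packed into slots of eleven bits. -/
def pk : List ℕ → ℕ
  | [] => 0
  | a :: A => a + 2048 * pk A

/-- The lowest bit of each slot. -/
def lowBits : ℕ → ℕ
  | 0 => 0
  | n + 1 => 1 + 2048 * lowBits n

/-- The lowest bits of eleven slots. -/
def low11 : ℕ := 1298708349570020393652962442872833

/-- A packed matrix times a list of rows, starting at the column `k`. -/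
def mulPFrom : List ℕ → ℕ → ℕ → ℕ
  | [], _, _ => 0
  | b :: B, X, k =>
    Nat.xor (Nat.mul (Nat.land (Nat.shiftRight X k) low11) b) (mulPFrom B X (k + 1))

/-- A packed matrix times a list of rows. -/
def mulPk (X : ℕ) (B : List ℕ) : ℕ := mulPFrom B X 0

theorem low11_eq : low11 = lowBits 11 := by decide +kernel

theorem add_testBit {a X j : ℕ} (ha : a < 2 ^ 11) :
    (a + 2048 * X).testBit j = if j < 11 then a.testBit j else X.testBit (j - 11) := by
  rw [show a + 2048 * X = 2 ^ 11 * X + a by ring, Nat.testBit_two_pow_mul_add X ha]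

theorem pk_xor : ∀ {A B : List ℕ}, A.length = B.length → (∀ a ∈ A, a < 2 ^ 11) → (∀ b ∈ B, b < 2 ^ 11) →
    pk (List.zipWith (· ^^^ ·) A B) = pk A ^^^ pk B
  | [], [], _, _, _ => rfl
  | a :: A, b :: B, h, ha, hb => by
    have ha0 := ha a List.mem_cons_self
    have hb0 := hb b List.mem_cons_self
    have ih := pk_xor (A := A) (B := B) (by simpa using h)
      (fun x hx => ha x (List.mem_cons_of_mem _ hx)) fun x hx => hb x (List.mem_cons_of_mem _ hx)
    refine Nat.eq_of_testBit_eq fun j => ?_
    simp only [List.zipWith_cons_cons, pk, Nat.testBit_xor, add_testBit ha0, add_testBit hb0,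
      add_testBit (Nat.xor_lt_two_pow ha0 hb0), ih]
    split <;> rfl

theorem pk_replicate_zero : ∀ n, pk (List.replicate n 0) = 0
  | 0 => rfl
  | n + 1 => by simp [List.replicate_succ, pk, pk_replicate_zero n]

theorem lowBits_testBit : ∀ n j, (lowBits n).testBit j = (decide (j % 11 = 0) && decide (j < 11 * n))
  | 0, j => by simp [lowBits]
  | n + 1, j => by
    rw [lowBits, add_testBit (by norm_num), lowBits_testBit n]
    split
    · rcases Nat.eq_zero_or_pos j with rfl | hj
      · simp
      · rw [Nat.testBit_lt_two_pow (show 1 < 2 ^ j from Nat.one_lt_two_pow (by omega))]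
        simp [show ¬ j % 11 = 0 by omega]
    · rw [show (j - 11) % 11 = j % 11 by omega]
      congr 1
      simp only [decide_eq_decide]
      omega

theorem pk_column : ∀ (A : List ℕ), (∀ a ∈ A, a < 2 ^ 11) → ∀ k < 11,
    (pk A >>> k) &&& lowBits A.length = pk (A.map fun a => (a.testBit k).toNat)
  | [], _, k, _ => by simp [pk, lowBits]
  | a :: A, h, k, hk => by
    have ha := h a List.mem_cons_self
    have hb : (a.testBit k).toNat < 2 ^ 11 := lt_of_le_of_lt (Bool.toNat_le _) (by norm_num)
    refine Nat.eq_of_testBit_eq fun j => ?_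
    rw [List.map_cons, pk, List.length_cons, lowBits, pk,
      ← pk_column A (fun x hx => h x (List.mem_cons_of_mem _ hx)) k hk]
    simp only [Nat.testBit_and, Nat.testBit_shiftRight, add_testBit ha, add_testBit hb,
      add_testBit (show (1 : ℕ) < 2 ^ 11 by norm_num)]
    by_cases hj : j < 11
    · simp only [if_pos hj]
      rcases Nat.eq_zero_or_pos j with rfl | hj0
      · simp only [Nat.add_zero, if_pos hk]
        cases a.testBit k <;> rfl
      · rw [Nat.testBit_lt_two_pow (show 1 < 2 ^ j from Nat.one_lt_two_pow (by omega)), Bool.and_false,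
          Nat.testBit_lt_two_pow (show (a.testBit k).toNat < 2 ^ j from
            lt_of_le_of_lt (Bool.toNat_le _) (Nat.one_lt_two_pow (by omega)))]
    · simp only [if_neg hj, if_neg (show ¬ k + j < 11 by omega)]
      rw [show k + j - 11 = k + (j - 11) by omega]

theorem pk_mul : ∀ (A : List ℕ) (b : ℕ), pk A * b = pk (A.map (· * b))
  | [], b => by simp [pk]
  | a :: A, b => by rw [pk, List.map_cons, pk, ← pk_mul A b]; ring

theorem mulPFrom_pk : ∀ {B : List ℕ} {A : List ℕ}, (∀ b ∈ B, b < 2 ^ 11) → (∀ a ∈ A, a < 2 ^ 11) →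
    A.length = 11 → ∀ k, k + B.length ≤ 11 →
      mulPFrom B (pk A) k = pk (A.map fun a => rowMulFrom B a k)
  | [], A, _, _, hl, k, _ => by
    simp only [mulPFrom, rowMulFrom, List.map_const', pk_replicate_zero]
  | b :: B, A, hB, hA, hl, k, hk => by
    have hb := hB b List.mem_cons_self
    have hB' : ∀ x ∈ B, x < 2 ^ 11 := fun x hx => hB x (List.mem_cons_of_mem _ hx)
    simp only [List.length_cons] at hk
    have e1 : Nat.mul (Nat.land (Nat.shiftRight (pk A) k) low11) b =
        pk (A.map fun a => bif a.testBit k then b else 0) := by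
      show ((pk A >>> k) &&& low11) * b = _
      rw [low11_eq, ← hl, pk_column A hA k (by omega), pk_mul, List.map_map]
      congr 1
      refine List.map_congr_left fun a _ => ?_
      cases h : a.testBit k <;> simp [Function.comp, h]
    rw [mulPFrom, e1, mulPFrom_pk hB' hA hl (k + 1) (by omega)]
    rw [show ∀ x y, Nat.xor x y = x ^^^ y from fun _ _ => rfl]
    rw [← pk_xor (by simp) ?_ ?_]
    · congr 1
      rw [List.zipWith_map, List.zipWith_self]
      refine List.map_congr_left fun a _ => ?_
      cases h : a.testBit k <;> simp [rowMulFrom, h]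
    · intro x hx
      obtain ⟨a, -, rfl⟩ := List.mem_map.mp hx
      cases a.testBit k
      · norm_num
      · exact hb
    · intro x hx
      obtain ⟨a, -, rfl⟩ := List.mem_map.mp hx
      exact rowMulFrom_lt hB' a (k + 1)

theorem pk_mulL {A B : List ℕ} (hA : isRows 11 A = true) (hB : isRows 11 B = true) :
    mulPk (pk A) B = pk (mulL A B) := by
  rw [isRows_iff] at hA hB
  exact mulPFrom_pk hB.2 hA.2 hA.1 0 (by rw [hB.1])

theorem pk_injective : ∀ {A B : List ℕ}, A.length = B.length → (∀ a ∈ A, a < 2 ^ 11) →
    (∀ b ∈ B, b < 2 ^ 11) → pk A = pk B → A = B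
  | [], [], _, _, _, _ => rfl
  | a :: A, b :: B, h, ha, hb, e => by
    have ha0 := ha a List.mem_cons_self
    have hb0 := hb b List.mem_cons_self
    simp only [pk] at e
    have h1 : a = b := by omega
    have h2 : pk A = pk B := by omega
    rw [h1, pk_injective (by simpa using h) (fun x hx => ha x (List.mem_cons_of_mem _ hx))
      (fun x hx => hb x (List.mem_cons_of_mem _ hx)) h2]

theorem eq_of_pk {A B : List ℕ} (hA : isRows 11 A = true) (hB : isRows 11 B = true) (h : pk A = pk B) :
    A = B := by
  rw [isRows_iff] at hA hB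
  exact pk_injective (hA.1.trans hB.1.symm) hA.2 hB.2 h

end CfsgLib.JankoFourOut
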