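import Cfsg.Agent.JankoFourOut.Linear
import Mathlib.Tactic.IntervalCases
import Cfsg.Agent.JankoFourOut.DataE
import Cfsg.Agent.JankoFourOut.DataI
import Cfsg.Agent.JankoFourOut.Pack
import Cfsg.Agent.JankoFourOut.DataS

/-!
Kernel checks in the group of matrices of size 11: a polycyclic sequence of a Sylow 2-subgroup of the
action and the list of its normal elementary abelian subgroups.
-/

set_option autoImplicit false

namespace CfsgLib.JankoFourOut

open CfsgLib.JankoFourRep

/-- The action of a letter. -/
def actOf : ℕ → List ℕ
  | 0 => actX
  | 1 => actY
  | _ => actYInv

/-- The action of a word. -/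
def actWord : List ℕ → List ℕ
  | [] => (List.range 11).map (2 ^ ·)
  | c :: w => mulL (actOf c) (actWord w)

/-- The matrix of a member of the sequence. -/
def pcMat (i : ℕ) : List ℕ := pcMats.getD i []

/-- The matrix with given normal form. -/
def nfMat : ℕ → ℕ → List ℕ
  | 0, _ => (List.range 11).map (2 ^ ·)
  | n + 1, v => mulL (nfMat n v) (bif v.testBit n then pcMat n else (List.range 11).map (2 ^ ·))

/-- The members of the `i`-th subgroup of the chain. -/
def kList : ℕ → List (List ℕ)
  | 0 => [(List.range 11).map (2 ^ ·)]
  | i + 1 => kList i ++ (kList i).map fun A => mulL A (pcMat i)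

/-- Two matrices are equal. -/
def matBeq : List ℕ → List ℕ → Bool
  | [], [] => true
  | a :: A, b :: B => Nat.beq a b && matBeq A B
  | _, _ => false

/-- A matrix occurs in a list. -/
def memMat (A : List ℕ) (L : List (List ℕ)) : Bool := L.any (matBeq A)

theorem matBeq_iff : ∀ {A B : List ℕ}, matBeq A B = true ↔ A = B
  | [], [] => by simp [matBeq]
  | [], _ :: _ => by simp [matBeq]
  | _ :: _, [] => by simp [matBeq]
  | a :: A, b :: B => by
    rw [matBeq, Bool.and_eq_true, matBeq_iff, List.cons.injEq]
    exact and_congr_left fun _ =>
      ⟨Nat.eq_of_beq_eq_true, fun h => h ▸ Nat.beq_refl a⟩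

theorem memMat_iff {A : List ℕ} {L : List (List ℕ)} : memMat A L = true ↔ A ∈ L := by
  simp [memMat, List.any_eq_true, matBeq_iff]

theorem pcWords_ok : ∀ i < 10, isRows 11 (pcMat i) = true ∧
    (pcWords.getD i []).all (fun c => Nat.blt c 3) = true ∧
    matBeq (actWord (pcWords.getD i [])) (pcMat i) = true := by
  decide +kernel

theorem pc_rel_ok : ∀ i < 10, Nat.blt (pcSq.getD i 0) (2 ^ i) = true ∧
    matBeq (mulL (pcMat i) (pcMat i)) (nfMat i (pcSq.getD i 0)) = true ∧
    (List.range i).all (fun j => Nat.blt ((pcConj.getD i []).getD j 0) (2 ^ i) &&
      matBeq (mulL (pcMat j) (pcMat i))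
        (mulL (pcMat i) (nfMat i ((pcConj.getD i []).getD j 0)))) = true := by
  decide +kernel

theorem pc_new_ok : ∀ i < 10, memMat (pcMat i) (kList i) = false := by
  decide +kernel

/-- The involutions of the Sylow subgroup. -/
def invList : List (List ℕ) :=
  (kList 10).filter fun A => matBeq (mulL A A) ((List.range 11).map (2 ^ ·))

/-- Each normal elementary abelian extension of a listed subgroup by one involution is listed,
the products being packed. -/
def extendOK (inv : List (List ℕ)) (N G : List (List ℕ)) : Bool :=
  inv.all fun a => memMat a N || !(G.all fun g => Nat.beq (mulPk (pk a) g) (mulPk (pk g) a)) ||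
    !((List.range 10).all fun j => (fun l r => N.any fun x => Nat.beq l (mulPk r x))
      (mulPk (pk a) (pcMat j)) (mulPk (pk (pcMat j)) a)) ||
    normals.any fun M => Nat.beq M.length (2 * N.length) &&
      M.all fun z => memMat z N || N.any fun x => Nat.beq (pk z) (mulPk (pk x) a)

theorem normals_length : normals.length = 23 ∧ normalGens.length = 23 := by decide +kernel

theorem normals_wf : ∀ k < 23,
    (normalGens.getD k []).all (fun g => memMat g (normals.getD k [])) = true ∧
    (normals.getD k []).all (fun g => isRows 11 g) = true := by
  decide +kernel

theorem normals_zero :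
    normals.getD 0 [] = [(List.range 11).map (2 ^ ·)] := by
  decide +kernel

/-- Two lists of matrices are equal. -/
def matsBeq : List (List ℕ) → List (List ℕ) → Bool
  | [], [] => true
  | a :: A, b :: B => matBeq a b && matsBeq A B
  | _, _ => false

theorem matsBeq_eq : ∀ {A B : List (List ℕ)}, matsBeq A B = true → A = B
  | [], [], _ => rfl
  | a :: A, b :: B, h => by
    rw [matsBeq, Bool.and_eq_true] at h
    rw [matBeq_iff.mp h.1, matsBeq_eq h.2]
  | [], _ :: _, h => by simp [matsBeq] at h
  | _ :: _, [], h => by simp [matsBeq] at h

theorem invList_ok : matsBeq invList invLit = true := by decide +kernel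

theorem normals_extend0 : extendOK invLit (normals.getD 0 []) (normalGens.getD 0 []) = true := by
  decide +kernel

theorem normals_extend1 : extendOK invLit (normals.getD 1 []) (normalGens.getD 1 []) = true := by
  decide +kernel

theorem normals_extend2 : extendOK invLit (normals.getD 2 []) (normalGens.getD 2 []) = true := by
  decide +kernel

theorem normals_extend3 : extendOK invLit (normals.getD 3 []) (normalGens.getD 3 []) = true := by
  decide +kernel

theorem normals_extend4 : extendOK invLit (normals.getD 4 []) (normalGens.getD 4 []) = true := by
  decide +kernel

theorem normals_extend5 : extendOK invLit (normals.getD 5 []) (normalGens.getD 5 []) = true := by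
  decide +kernel

theorem normals_extend6 : extendOK invLit (normals.getD 6 []) (normalGens.getD 6 []) = true := by
  decide +kernel

theorem normals_extend7 : extendOK invLit (normals.getD 7 []) (normalGens.getD 7 []) = true := by
  decide +kernel

theorem normals_extend8 : extendOK invLit (normals.getD 8 []) (normalGens.getD 8 []) = true := by
  decide +kernel

theorem normals_extend9 : extendOK invLit (normals.getD 9 []) (normalGens.getD 9 []) = true := by
  decide +kernel

theorem normals_extend10 : extendOK invLit (normals.getD 10 []) (normalGens.getD 10 []) = true := by
  decide +kernel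

theorem normals_extend11 : extendOK invLit (normals.getD 11 []) (normalGens.getD 11 []) = true := by
  decide +kernel

theorem normals_extend12 : extendOK invLit (normals.getD 12 []) (normalGens.getD 12 []) = true := by
  decide +kernel

theorem normals_extend13 : extendOK invLit (normals.getD 13 []) (normalGens.getD 13 []) = true := by
  decide +kernel

theorem normals_extend14 : extendOK invLit (normals.getD 14 []) (normalGens.getD 14 []) = true := by
  decide +kernel

theorem normals_extend15 : extendOK invLit (normals.getD 15 []) (normalGens.getD 15 []) = true := by
  decide +kernel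

theorem normals_extend16 : extendOK invLit (normals.getD 16 []) (normalGens.getD 16 []) = true := by
  decide +kernel

theorem normals_extend17 : extendOK invLit (normals.getD 17 []) (normalGens.getD 17 []) = true := by
  decide +kernel

theorem normals_extend18 : extendOK invLit (normals.getD 18 []) (normalGens.getD 18 []) = true := by
  decide +kernel

theorem normals_extend19 : extendOK invLit (normals.getD 19 []) (normalGens.getD 19 []) = true := by
  decide +kernel

theorem normals_extend20 : extendOK invLit (normals.getD 20 []) (normalGens.getD 20 []) = true := by
  decide +kernel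

theorem normals_extend21 : extendOK invLit (normals.getD 21 []) (normalGens.getD 21 []) = true := by
  decide +kernel

theorem normals_extend22 : extendOK invLit (normals.getD 22 []) (normalGens.getD 22 []) = true := by
  decide +kernel

theorem normals_extend : ∀ k < 23,
    extendOK invList (normals.getD k []) (normalGens.getD k []) = true := by
  intro k hk
  rw [matsBeq_eq invList_ok]
  interval_cases k
  · exact normals_extend0
  · exact normals_extend1
  · exact normals_extend2
  · exact normals_extend3
  · exact normals_extend4
  · exact normals_extend5
  · exact normals_extend6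
  · exact normals_extend7
  · exact normals_extend8
  · exact normals_extend9
  · exact normals_extend10
  · exact normals_extend11
  · exact normals_extend12
  · exact normals_extend13
  · exact normals_extend14
  · exact normals_extend15
  · exact normals_extend16
  · exact normals_extend17
  · exact normals_extend18
  · exact normals_extend19
  · exact normals_extend20
  · exact normals_extend21
  · exact normals_extend22

/-- The vectors fixed by all generators. -/
def fixCount (G : List (List ℕ)) : ℕ :=
  ((List.range (2 ^ 11)).filter fun v => G.all fun g => Nat.beq (rowMul g v) v).length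

theorem normals_small : ∀ k < 23, k ≠ 0 →
    (normals.getD k []).length * fixCount (normalGens.getD k []) < 2 ^ 11 := by
  decide +kernel

end CfsgLib.JankoFourOut
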