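import Cfsg.Agent.JankoFourOut.MGroup
import Cfsg.Agent.JankoFourOut.SylowChecks
import Mathlib.GroupTheory.PGroup

/-!
The group generated by the polycyclic sequence inside the complement.
-/

set_option autoImplicit false
set_option linter.style.haveILetI false

namespace CfsgLib.JankoFourOut

open Cfsg.Spor CfsgLib.CosetEnum CfsgLib.JankoFour CfsgLib.JankoFourRep

/-- A member of the polycyclic sequence. -/
def pcElt (i : ℕ) : Cfsg.Spor.J4 := prodw gen (pcWords.getD i [])

/-- The element with the given normal form. -/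
def nfElt : ℕ → ℕ → Cfsg.Spor.J4
  | 0, _ => 1
  | n + 1, v => nfElt n v * (bif v.testBit n then pcElt n else 1)

theorem gen_mem_mSub {c : ℕ} (hc : c < 3) : gen c ∈ mSub := by
  match c, hc with
  | 0, _ => exact Subgroup.subset_closure (Or.inl rfl)
  | 1, _ => exact Subgroup.subset_closure (Or.inr rfl)
  | 2, _ => exact inv_mem (Subgroup.subset_closure (Or.inr rfl))

theorem prodw_mem_mSub : ∀ w : List ℕ, (∀ c ∈ w, c < 3) → prodw gen w ∈ mSub
  | [], _ => by rw [prodw_nil]; exact one_mem _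
  | c :: w, h => by
    rw [prodw_cons]
    exact mul_mem (gen_mem_mSub (h c List.mem_cons_self))
      (prodw_mem_mSub w fun a ha => h a (List.mem_cons_of_mem _ ha))

theorem pcElt_mem {i : ℕ} (hi : i < 10) : pcElt i ∈ mSub :=
  prodw_mem_mSub _ fun c hc =>
    Nat.blt_eq.mp (List.all_eq_true.mp (pcWords_ok i hi).2.1 c hc)

theorem nfElt_mem : ∀ n ≤ 10, ∀ v, nfElt n v ∈ mSub
  | 0, _, _ => one_mem _
  | n + 1, h, v => by
    refine mul_mem (nfElt_mem n (by omega) v) ?_
    cases v.testBit n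
    · exact one_mem _
    · exact pcElt_mem (by omega)

variable (H : Hyp)
include H

theorem acts_gen {c : ℕ} (hc : c < 3) : Acts (gen c) (actOf c) := by
  match c, hc with
  | 0, _ => exact acts_x H
  | 1, _ => exact acts_y H
  | 2, _ => exact acts_yInv H

theorem acts_prodw : ∀ w : List ℕ, (∀ c ∈ w, c < 3) → Acts (prodw gen w) (actWord w)
  | [], _ => by rw [prodw_nil]; exact acts_one
  | c :: w, h => by
    rw [prodw_cons]
    exact (acts_gen H (h c List.mem_cons_self)).mul
      (acts_prodw w fun a ha => h a (List.mem_cons_of_mem _ ha))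

theorem acts_pcElt {i : ℕ} (hi : i < 10) : Acts (pcElt i) (pcMat i) := by
  rw [← matBeq_iff.mp (pcWords_ok i hi).2.2]
  exact acts_prodw H _ fun c hc =>
    Nat.blt_eq.mp (List.all_eq_true.mp (pcWords_ok i hi).2.1 c hc)

theorem acts_nfElt : ∀ n ≤ 10, ∀ v, Acts (nfElt n v) (nfMat n v)
  | 0, _, _ => acts_one
  | n + 1, h, v => by
    refine (acts_nfElt n (by omega) v).mul ?_
    cases v.testBit n
    · exact acts_one
    · exact acts_pcElt H (by omega)

theorem eq_of_acts {g h : Cfsg.Spor.J4} {A : List ℕ} (hg : g ∈ mSub) (hh : h ∈ mSub)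
    (ha : Acts g A) (hb : Acts h A) : g = h := by
  obtain ⟨B, hB⟩ := exists_acts_mSub H (inv_mem hh)
  have e : mulL A B = one11 := by
    refine (hb.mul hB).unique H ?_
    rw [mul_inv_cancel]
    exact acts_one
  exact mul_inv_eq_one.mp
    (eq_one_of_acts_one H (mul_mem hg (inv_mem hh)) (e ▸ ha.mul hB))

/-- The group generated by the first `n` members of the sequence. -/
def pSub (n : ℕ) : Subgroup Cfsg.Spor.J4 := Subgroup.closure (pcElt '' Set.Iio n)

omit H in
theorem pcElt_mem_pSub {j n : ℕ} (h : j < n) : pcElt j ∈ pSub n :=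
  Subgroup.subset_closure ⟨j, h, rfl⟩

omit H in
theorem pSub_mono {m n : ℕ} (h : m ≤ n) : pSub m ≤ pSub n :=
  Subgroup.closure_mono (Set.image_mono fun _ hx => lt_of_lt_of_le hx h)

omit H in
theorem pSub_le_mSub {n : ℕ} (h : n ≤ 10) : pSub n ≤ mSub :=
  (Subgroup.closure_le _).mpr (by rintro _ ⟨j, hj, rfl⟩; exact pcElt_mem (lt_of_lt_of_le hj h))

omit H in
theorem nfElt_mem_pSub : ∀ n v, nfElt n v ∈ pSub n
  | 0, _ => one_mem _
  | n + 1, v => by
    refine mul_mem (pSub_mono (Nat.le_succ n) (nfElt_mem_pSub n v)) ?_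
    cases v.testBit n
    · exact one_mem _
    · exact pcElt_mem_pSub (Nat.lt_succ_self n)

theorem pc_sq {i : ℕ} (hi : i < 10) : pcElt i * pcElt i ∈ pSub i := by
  have h := matBeq_iff.mp (pc_rel_ok i hi).2.1
  rw [eq_of_acts H (mul_mem (pcElt_mem hi) (pcElt_mem hi)) (nfElt_mem i hi.le _)
    ((acts_pcElt H hi).mul (acts_pcElt H hi)) (h ▸ acts_nfElt H i hi.le _)]
  exact nfElt_mem_pSub i _

theorem pc_conj {i : ℕ} (hi : i < 10) {g : Cfsg.Spor.J4} (hg : g ∈ pSub i) :
    (pcElt i)⁻¹ * g * pcElt i ∈ pSub i := by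
  have hle : (pSub i).map (MulAut.conj (pcElt i)⁻¹).toMonoidHom ≤ pSub i := by
    rw [pSub, MonoidHom.map_closure, Subgroup.closure_le]
    rintro _ ⟨_, ⟨j, hj, rfl⟩, rfl⟩
    have hj' : j < i := hj
    have h := List.all_eq_true.mp (pc_rel_ok i hi).2.2 j (List.mem_range.mpr hj')
    rw [Bool.and_eq_true] at h
    have he := matBeq_iff.mp h.2
    have e := eq_of_acts H (mul_mem (pcElt_mem (hj'.trans hi)) (pcElt_mem hi))
      (mul_mem (pcElt_mem hi) (nfElt_mem i hi.le _))
      ((acts_pcElt H (hj'.trans hi)).mul (acts_pcElt H hi))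
      (he ▸ (acts_pcElt H hi).mul (acts_nfElt H i hi.le _))
    simp only [SetLike.mem_coe, MulEquiv.coe_toMonoidHom, MulAut.conj_apply, inv_inv, mul_assoc]
    rw [e, inv_mul_cancel_left]
    exact nfElt_mem_pSub i _
  have := hle ⟨g, hg, rfl⟩
  simpa using this

theorem mem_pSub_succ {i : ℕ} (hi : i < 10) {g : Cfsg.Spor.J4} (hg : g ∈ pSub (i + 1)) :
    g ∈ pSub i ∨ ∃ a ∈ pSub i, g = a * pcElt i := by
  haveI := finite_J4 H
  have hle : Set.Finite (pSub i : Set Cfsg.Spor.J4) := Set.toFinite _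
  have conj' : ∀ a ∈ pSub i, pcElt i * a * (pcElt i)⁻¹ ∈ pSub i := by
    intro a ha
    have h : Function.Surjective fun b : pSub i =>
        (⟨(pcElt i)⁻¹ * b * pcElt i, pc_conj H hi b.2⟩ : pSub i) :=
      Finite.surjective_of_injective fun b c e => Subtype.ext (by simpa using congrArg Subtype.val e)
    obtain ⟨b, hb⟩ := h ⟨a, ha⟩
    have hb : (pcElt i)⁻¹ * (b : Cfsg.Spor.J4) * pcElt i = a := congrArg Subtype.val hb
    rw [← hb]
    simp [mul_assoc]
  let K : Subgroup Cfsg.Spor.J4 :=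
    { carrier := {g | g ∈ pSub i ∨ ∃ a ∈ pSub i, g = a * pcElt i}
      one_mem' := Or.inl (one_mem _)
      mul_mem' := by
        rintro g h (hg | ⟨a, ha, rfl⟩) (hh | ⟨b, hb, rfl⟩)
        · exact Or.inl (mul_mem hg hh)
        · exact Or.inr ⟨g * b, mul_mem hg hb, (mul_assoc _ _ _).symm⟩
        · exact Or.inr ⟨a * (pcElt i * h * (pcElt i)⁻¹), mul_mem ha (conj' h hh), by group⟩
        · refine Or.inl ?_
          rw [show a * pcElt i * (b * pcElt i) =
            a * (pcElt i * b * (pcElt i)⁻¹) * (pcElt i * pcElt i) by group]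
          exact mul_mem (mul_mem ha (conj' b hb)) (pc_sq H hi)
      inv_mem' := by
        rintro g (hg | ⟨a, ha, rfl⟩)
        · exact Or.inl (inv_mem hg)
        · refine Or.inr ⟨(pcElt i * pcElt i)⁻¹ * (pcElt i * a⁻¹ * (pcElt i)⁻¹),
            mul_mem (inv_mem (pc_sq H hi)) (conj' _ (inv_mem ha)), ?_⟩
          group }
  refine (show pSub (i + 1) ≤ K from (Subgroup.closure_le _).mpr ?_) hg
  rintro _ ⟨j, hj, rfl⟩
  rcases Nat.lt_or_eq_of_le (Nat.le_of_lt_succ hj) with h | rfl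
  · exact Or.inl (pcElt_mem_pSub h)
  · exact Or.inr ⟨1, one_mem _, (one_mul _).symm⟩

theorem exists_acts_pSub : ∀ n ≤ 10, ∀ g ∈ pSub n, ∃ A ∈ kList n, Acts g A
  | 0, _, g, hg => by
    have : pSub 0 = ⊥ := by simp [pSub]
    rw [this, Subgroup.mem_bot] at hg
    exact ⟨one11, List.mem_cons_self, hg ▸ acts_one⟩
  | n + 1, h, g, hg => by
    rcases mem_pSub_succ H (by omega) hg with hg | ⟨a, ha, rfl⟩
    · obtain ⟨A, hA, hA'⟩ := exists_acts_pSub n (by omega) g hg
      exact ⟨A, List.mem_append_left _ hA, hA'⟩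
    · obtain ⟨A, hA, hA'⟩ := exists_acts_pSub n (by omega) a ha
      exact ⟨_, List.mem_append_right _ (List.mem_map.mpr ⟨A, hA, rfl⟩),
        hA'.mul (acts_pcElt H (by omega))⟩

theorem pcElt_notMem {i : ℕ} (hi : i < 10) : pcElt i ∉ pSub i := by
  intro h
  obtain ⟨A, hA, hA'⟩ := exists_acts_pSub H i hi.le _ h
  rw [hA'.unique H (acts_pcElt H hi)] at hA
  have := memMat_iff.mpr hA
  rw [pc_new_ok i hi] at this
  exact Bool.noConfusion this

theorem card_pSub : ∀ n ≤ 10, Nat.card (pSub n) = 2 ^ n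
  | 0, _ => by simp [pSub]
  | n + 1, h => by
    haveI := finite_J4 H
    have hn : n < 10 := by omega
    let f : pSub n ⊕ pSub n → pSub (n + 1) := Sum.elim
      (fun a => ⟨a, pSub_mono (Nat.le_succ n) a.2⟩)
      (fun a => ⟨a * pcElt n, mul_mem (pSub_mono (Nat.le_succ n) a.2) (pcElt_mem_pSub (Nat.lt_succ_self n))⟩)
    have hne : ∀ a b : pSub n, (a : Cfsg.Spor.J4) * pcElt n ≠ b := fun a b e =>
      pcElt_notMem H hn (by
        rw [show pcElt n = (a : Cfsg.Spor.J4)⁻¹ * b by rw [← e, inv_mul_cancel_left]]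
        exact mul_mem (inv_mem a.2) b.2)
    have hf : Function.Bijective f := by
      refine ⟨?_, ?_⟩
      · rintro (a | a) (b | b) e <;> have e := congrArg Subtype.val e <;> simp only [f, Sum.elim_inl, Sum.elim_inr] at e
        · exact congrArg Sum.inl (Subtype.ext e)
        · exact absurd e.symm (hne b a)
        · exact absurd e (hne a b)
        · exact congrArg Sum.inr (Subtype.ext (mul_right_cancel e))
      · rintro ⟨g, hg⟩
        rcases mem_pSub_succ H hn hg with hg' | ⟨a, ha, rfl⟩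
        · exact ⟨Sum.inl ⟨g, hg'⟩, rfl⟩
        · exact ⟨Sum.inr ⟨a, ha⟩, rfl⟩
    rw [← Nat.card_eq_of_bijective f hf, Nat.card_sum, card_pSub n (by omega), pow_succ]
    omega

/-- The Sylow 2-subgroup of the complement. -/
abbrev pTop : Subgroup Cfsg.Spor.J4 := pSub 10

omit H in
theorem pTop_le : pTop ≤ mSub := pSub_le_mSub le_rfl

theorem isPGroup_pTop : IsPGroup 2 pTop := IsPGroup.of_card (card_pSub H 10 le_rfl)

end CfsgLib.JankoFourOut
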