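import Cfsg.Agent.JankoFourOut.Lattice
import Mathlib.GroupTheory.Sylow

/-!
The subgroup of order `2 ^ 11` is the only one of its kind normal in a Sylow 2-subgroup.
-/

set_option autoImplicit false
set_option linter.style.haveILetI false

namespace CfsgLib.JankoFourOut

open CfsgLib.CosetEnum CfsgLib.JankoFour CfsgLib.JankoFourRep
open scoped Pointwise

variable (H : Hyp)
include H

theorem pTop_le_normalizer : pTop ≤ Subgroup.normalizer (eSub H : Set Cfsg.Spor.J4) :=
  pTop_le.trans (mSub_le_normalizer H)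

/-- A Sylow 2-subgroup. -/
def sSub : Subgroup Cfsg.Spor.J4 := pTop ⊔ eSub H

theorem mem_sSub {g : Cfsg.Spor.J4} : g ∈ sSub H ↔ ∃ m ∈ pTop, ∃ e ∈ eSub H, m * e = g := by
  unfold sSub
  rw [← SetLike.mem_coe, Subgroup.coe_mul_of_left_le_normalizer_right pTop (eSub H) (pTop_le_normalizer H),
    Set.mem_mul]
  rfl

theorem sSub_le_hSub : sSub H ≤ hSub H := sup_le_sup pTop_le le_rfl

theorem card_sSub : Nat.card (sSub H) = 2 ^ 21 := by
  rw [show (2 : ℕ) ^ 21 = 2 ^ 10 * 2 ^ 11 by norm_num, ← card_pSub H 10 le_rfl, ← card_eSub H,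
    ← Nat.card_prod]
  refine (Nat.card_eq_of_bijective (fun p : pTop × eSub H =>
    (⟨p.1 * p.2, (mem_sSub H).mpr ⟨_, p.1.2, _, p.2.2, rfl⟩⟩ : sSub H)) ⟨?_, ?_⟩).symm
  · rintro ⟨⟨a, ha⟩, ⟨b, hb⟩⟩ ⟨⟨a', ha'⟩, ⟨b', hb'⟩⟩ h
    have h : a * b = a' * b' := congrArg Subtype.val h
    have h1 : a'⁻¹ * a = b' * b⁻¹ := by
      rw [eq_mul_inv_iff_mul_eq, mul_assoc, h, inv_mul_cancel_left]
    have h2 := eq_one_of_mem_mSub_eSub H (mul_mem (inv_mem (pTop_le ha')) (pTop_le ha))
      (h1 ▸ mul_mem hb' (inv_mem hb))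
    obtain rfl : a' = a := inv_mul_eq_one.mp h2
    simpa using mul_left_cancel h
  · rintro ⟨g, hg⟩
    obtain ⟨m, hm, e, he, rfl⟩ := (mem_sSub H).mp hg
    exact ⟨(⟨m, hm⟩, ⟨e, he⟩), rfl⟩

theorem index_sSub : (sSub H).index * 2 ^ 21 = 86775571046077562880 := by
  rw [← card_sSub H, mul_comm, Subgroup.card_mul_index, H.card]

/-- The Sylow 2-subgroup. -/
noncomputable def sylow : Sylow 2 Cfsg.Spor.J4 :=
  (IsPGroup.of_card (card_sSub H)).toSylow (by
    intro h
    obtain ⟨r, hr⟩ := h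
    have := index_sSub H
    rw [hr] at this
    omega)

theorem coe_sylow : ((sylow H : Sylow 2 Cfsg.Spor.J4) : Subgroup Cfsg.Spor.J4) = sSub H := rfl

theorem eq_eSub {N : Subgroup Cfsg.Spor.J4} (hle : N ≤ sSub H)
    (hn : ∀ s ∈ sSub H, ∀ n ∈ N, s * n * s⁻¹ ∈ N) (hc : ∀ a ∈ N, ∀ b ∈ N, a * b = b * a)
    (hsq : ∀ a ∈ N, a * a = 1) (hcard : Nat.card N = 2 ^ 11) : N = eSub H := by
  haveI := finite_J4 H
  have hex : ∀ n : N, ∃ p : pTop, (p : Cfsg.Spor.J4)⁻¹ * n ∈ eSub H := by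
    intro n
    obtain ⟨p, hp, e, he, h⟩ := (mem_sSub H).mp (hle n.2)
    exact ⟨⟨p, hp⟩, by rw [← h, inv_mul_cancel_left]; exact he⟩
  choose q hq using hex
  have huniq : ∀ (n : N) (p : pTop), (p : Cfsg.Spor.J4)⁻¹ * n ∈ eSub H → q n = p := by
    intro n p hp
    have h := mul_mem (hq n) (inv_mem hp)
    rw [mul_inv_rev, inv_inv, mul_assoc, mul_inv_cancel_left] at h
    exact Subtype.ext (inv_mul_eq_one.mp
      (eq_one_of_mem_mSub_eSub H (mul_mem (inv_mem (pTop_le (q n).2)) (pTop_le p.2)) h))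
  have hconj : ∀ (p : pTop) (e : Cfsg.Spor.J4), e ∈ eSub H →
      (p : Cfsg.Spor.J4) * e * (p : Cfsg.Spor.J4)⁻¹ ∈ eSub H := fun p e he =>
    ((Subgroup.mem_normalizer_iff.mp (pTop_le_normalizer H p.2)) e).mp he
  have hconj' : ∀ (p : pTop) (e : Cfsg.Spor.J4), e ∈ eSub H →
      (p : Cfsg.Spor.J4)⁻¹ * e * (p : Cfsg.Spor.J4) ∈ eSub H := fun p e he => by
    simpa using ((Subgroup.mem_normalizer_iff.mp (pTop_le_normalizer H (p⁻¹).2)) e).mp he
  let π : N →* pTop := MonoidHom.mk' q fun a b => huniq (a * b) _ (by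
    have : ((q a * q b : pTop) : Cfsg.Spor.J4)⁻¹ * ((a * b : N) : Cfsg.Spor.J4) =
        ((q b : Cfsg.Spor.J4)⁻¹ * ((q a : Cfsg.Spor.J4)⁻¹ * a) * q b) *
          ((q b : Cfsg.Spor.J4)⁻¹ * b) := by
      simp only [Subgroup.coe_mul]; group
    rw [this]
    exact mul_mem (hconj' _ _ (hq a)) (hq b))
  let A0 : Subgroup pTop := π.range
  haveI hA0n : A0.Normal := ⟨by
    rintro _ ⟨n, rfl⟩ p
    have hps : (p : Cfsg.Spor.J4) ∈ sSub H := (le_sup_left : pTop ≤ sSub H) p.2
    refine ⟨⟨(p : Cfsg.Spor.J4) * n * (p : Cfsg.Spor.J4)⁻¹, hn _ hps _ n.2⟩, huniq _ _ ?_⟩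
    have := hconj p _ (hq n)
    simp only [Subgroup.coe_mul, Subgroup.coe_inv, π, MonoidHom.mk'_apply]
    convert this using 1
    group⟩
  have hc0 : ∀ a ∈ A0, ∀ b ∈ A0, a * b = b * a := by
    rintro _ ⟨m, rfl⟩ _ ⟨n, rfl⟩
    rw [← map_mul, ← map_mul, show m * n = n * m from Subtype.ext (hc _ m.2 _ n.2)]
  have hsq0 : ∀ a ∈ A0, a * a = 1 := by
    rintro _ ⟨m, rfl⟩
    rw [← map_mul, show m * m = 1 from Subtype.ext (hsq _ m.2), map_one]
  -- climb the lattice
  obtain ⟨k, hk, hA⟩ : ∃ k < 23, IsListed H k A0 := by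
    suffices ∀ d, ∀ k < 23, ∀ M : Subgroup pTop, IsListed H k M → M ≤ A0 →
        Nat.card A0 - Nat.card M ≤ d → ∃ k < 23, IsListed H k A0 from
      this _ 0 (by norm_num) ⊥ (listed_zero H) bot_le le_rfl
    intro d
    induction d with
    | zero =>
      intro k hk M hM hle hd
      rw [Subgroup.eq_of_le_of_card_ge hle (by omega)] at hM
      exact ⟨k, hk, hM⟩
    | succ d ih =>
      intro k hk M hM hle hd
      rcases eq_or_lt_of_le hle with rfl | hlt
      · exact ⟨k, hk, hM⟩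
      · obtain ⟨k', hk', M', hM', hle', hlt'⟩ := exists_bigger H hc0 hsq0 hk hM hlt
        have h1 : Nat.card M < Nat.card M' := by
          by_contra hcon
          exact hlt'.ne (Subgroup.eq_of_le_of_card_ge hlt'.le (by omega))
        have h2 : Nat.card M' ≤ Nat.card A0 := Subgroup.card_le_of_le hle'
        exact ih k' hk' M' hM' hle' (by omega)
  by_cases hk0 : k = 0
  · subst hk0
    refine Subgroup.eq_of_le_of_card_ge (fun n hn => ?_) (by rw [hcard, card_eSub H])
    have h1 : π ⟨n, hn⟩ = 1 := by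
      have h := (hA.2.1 (π ⟨n, hn⟩)).mp ⟨_, rfl⟩
      rw [normals_zero, List.mem_singleton] at h
      exact act_injective H (h.trans (act_one H).symm)
    have h2 := hq ⟨n, hn⟩
    rw [show q ⟨n, hn⟩ = 1 from h1] at h2
    simpa using h2
  · exfalso
    have hsmall := normals_small k hk hk0
    have hr : Nat.card π.range ≤ (normals.getD k []).length := by
      classical
      refine le_trans (Nat.card_le_card_of_injective
        (fun g : π.range => (⟨act H g.1, List.mem_toFinset.mpr ((hA.2.1 g.1).mp g.2)⟩ :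
          (normals.getD k []).toFinset)) fun a b e =>
            Subtype.ext (act_injective H (congrArg Subtype.val e))) ?_
      rw [Nat.card_eq_fintype_card, Fintype.card_coe]
      exact List.toFinset_card_le _
    have hker : Nat.card π.ker ≤ fixCount (normalGens.getD k []) := by
      classical
      let L := (List.range (2 ^ 11)).filter fun v =>
        (normalGens.getD k []).all fun g => Nat.beq (rowMul g v) v
      have hv : ∀ n : π.ker, ∃ v, v ∈ L.toFinset ∧ ((n : N) : Cfsg.Spor.J4) = eOf v := by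
        intro n
        have h2 := hq n.1
        rw [show q n.1 = 1 from n.2] at h2
        simp only [Subgroup.coe_one, inv_one, one_mul] at h2
        obtain ⟨v, hv, he⟩ := h2
        refine ⟨v, List.mem_toFinset.mpr (List.mem_filter.mpr ⟨List.mem_range.mpr hv,
          List.all_eq_true.mpr fun x hx => ?_⟩), he⟩
        obtain ⟨g, hg⟩ := hA.2.2 x (memMat_iff.mp (List.all_eq_true.mp (normals_wf k hk).1 x hx))
        obtain ⟨m, rfl⟩ := (hA.2.1 g).mpr (hg ▸ memMat_iff.mp (List.all_eq_true.mp (normals_wf k hk).1 x hx))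
        have ha := (acts_act H (π m)).2 v hv
        rw [hg] at ha
        obtain ⟨u, hu, hue⟩ := hq m
        have hm : (m : Cfsg.Spor.J4) = (π m : pTop) * eOf u := by
          rw [← hue]; simp [π]
        have hcm := hc _ m.2 _ n.1.2
        rw [he, hm, mul_assoc, (eOf_commute H u v).eq, ← mul_assoc, ← mul_assoc, mul_left_inj] at hcm
        rw [mul_assoc, ← hcm, inv_mul_cancel_left] at ha
        rw [← eOf_injective H hv (rowMul_lt (isRows_iff.mp (List.all_eq_true.mp (normals_wf k hk).2 x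
          (memMat_iff.mp (List.all_eq_true.mp (normals_wf k hk).1 x hx)))).2 v) ha]
        exact Nat.beq_refl v
      choose v hvL hve using hv
      refine le_trans (Nat.card_le_card_of_injective (fun n => (⟨v n, hvL n⟩ : L.toFinset))
        fun a b e => ?_) ?_
      · have e : v a = v b := congrArg Subtype.val e
        exact Subtype.ext (Subtype.ext (by rw [hve a, hve b, e]))
      · rw [Nat.card_eq_fintype_card, Fintype.card_coe]
        exact List.toFinset_card_le _
    have htot : Nat.card π.range * Nat.card π.ker = 2 ^ 11 := by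
      rw [← hcard, ← Subgroup.index_ker, Subgroup.index_mul_card]
    have := Nat.mul_le_mul hr hker
    omega

/-- Every automorphism can be adjusted to fix the Sylow 2-subgroup and its distinguished subgroup. -/
theorem exists_conj_map_eSub (α : Cfsg.Spor.J4 ≃* Cfsg.Spor.J4) :
    ∃ g, (eSub H).map (α.trans (MulAut.conj g)).toMonoidHom = eSub H := by
  haveI := finite_J4 H
  haveI : Fact (Nat.Prime 2) := ⟨Nat.prime_two⟩
  have hP : IsPGroup 2 ((sSub H).map α.toMonoidHom) := (IsPGroup.of_card (card_sSub H)).map _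
  obtain ⟨Q, hQ⟩ := hP.exists_le_sylow
  obtain ⟨g, hg⟩ := MulAction.exists_smul_eq Cfsg.Spor.J4 Q (sylow H)
  refine ⟨g, ?_⟩
  set β := α.trans (MulAut.conj g) with hβ
  have hmap : (sSub H).map β.toMonoidHom = sSub H := by
    refine Subgroup.eq_of_le_of_card_ge ?_ (by rw [Subgroup.card_map_of_injective β.injective])
    rintro _ ⟨s, hs, rfl⟩
    have : MulAut.conj g (α s) ∈ ((g • Q : Sylow 2 Cfsg.Spor.J4) : Subgroup Cfsg.Spor.J4) := by
      rw [Sylow.coe_subgroup_smul]
      exact Subgroup.smul_mem_pointwise_smul _ (MulAut.conj g) _ (hQ ⟨s, hs, rfl⟩)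
    rw [hg, coe_sylow] at this
    exact this
  refine eq_eSub H ?_ ?_ ?_ ?_ ?_
  · rw [← hmap]; exact Subgroup.map_mono le_sup_right
  · intro s hs n hn
    rw [← hmap] at hs
    obtain ⟨s, hs, rfl⟩ := hs
    obtain ⟨n, hn, rfl⟩ := hn
    refine ⟨s * n * s⁻¹, ?_, by simp⟩
    obtain ⟨A, hA⟩ := exists_acts_hSub H (sSub_le_hSub H (inv_mem hs))
    simpa using conj_mem_eSub H hA hn
  · rintro _ ⟨a, ⟨m, -, rfl⟩, rfl⟩ _ ⟨b, ⟨k, -, rfl⟩, rfl⟩
    rw [← map_mul, ← map_mul, (eOf_commute H m k).eq]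
  · rintro _ ⟨a, ⟨m, -, rfl⟩, rfl⟩
    rw [← map_mul, eOf_sq H, map_one]
  · rw [Subgroup.card_map_of_injective β.injective, card_eSub H]

end CfsgLib.JankoFourOut
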